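import Cfsg.Agent.Mrg.Omega.ML.Ex.Lie2.Main
import Cfsg.Agent.Mrg.Omega.ML.Ex.WallX
import Cfsg.Agent.Mrg.Omega.ML.Ex.KnownDone
import Cfsg.Agent.Mrg.Omega.ML.Ex.Typ.Frame
import Cfsg.Agent.Mrg.Omega.ML.Ex.Wall
import Cfsg.Agent.Mrg.Omega.ML.LieRow.Lie
import Cfsg.Agent.S0320
import Cfsg.Agent.Mrg.Omega.ML.Ex.Typ.List
import Cfsg.Agent.Nodes.RGDTwE6
import Cfsg.Agent.Mrg.Omega.EH3.Kf.TwWitt
import Cfsg.Agent.Mrg.Omega.EH3.Kf.TwUni
import Cfsg.Agent.Mrg.Nodes.RGDAllP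
import Cfsg.Agent.Mrg.KFacts.RgdPerf
import Cfsg.Agent.Mrg.Omega.Lie.End.ZeroLone
import Cfsg.Agent.Mrg.Omega.Lie.End.RowTable
import Mathlib
import Cfsg.Agent.SplitTwo.HexDefs
import Cfsg.Agent.Mrg.Omega.EH3.Kf.TableSL
import Cfsg.Agent.Mrg.Omega.EH3.Kf.FamD4
import Cfsg.Agent.ChevalleyStructure.D4H1
import Cfsg.Agent.Nodes.WittU
import Cfsg.Agent.TitsThree.KInstU
import Cfsg.Agent.TitsThree.KInstSp
import Cfsg.Agent.Mrg.Omega.ML.LieRow.Bld
import Cfsg.Agent.Mrg.Omega.Tools.OddFix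
import Cfsg.Agent.Mrg.Omega.ML.RowTits
import Cfsg.Agent.Mrg.Omega.ML.Ex.RowTitsX
import Cfsg.Agent.Mrg.Omega.ML.LieTwF4
import Cfsg.Agent.KFacts.TwF4.Layers
import Cfsg.Agent.Mrg.Omega.ML.Ex.Lie2.PlugF
import Cfsg.Agent.Mrg.Omega.ML.Ex.DFour.Loc

-- merged: Cfsg.Agent.Mrg.Omega.ML.Ex.Lie2.WallT
section

section


/-!
# The WALL THEOREM over root group data (helper721)

* `good_transfer` : `WallGood.Good` does not depend on the Coxeter system of the matrix;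
* `frameN` : `Typ.frameR` with `δ c0 (n i • c0) = s_i`;
* `card_pan` : `|X (α_i)|` is the number of chambers `y` with `δ c0 y = s_i`;
* **`wallT`** : the socket `WallT` of `Lie2/Def.lean`.
-/

set_option autoImplicit false
set_option linter.unusedSectionVars false

namespace Cfsg.Agent.Omega.ML.Ex.Lie2

open Subgroup CoxeterSystem Cfsg.Agent.ChevalleyStructure.CoxeterGeom Cfsg.Agent.Tits.Roots Cfsg.Agent.Tits.Core
  Cfsg.Agent.Tits.Core.Bldg
  Cfsg.Agent.Tits.RootComb Cfsg.Agent.Nodes.Comb Cfsg.Agent.Nodes.Reps Cfsg.Agent.Nodes.BNOf Cfsg.Agent.FixBN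
  Cfsg.Agent.Omega.ML.LieRow Cfsg.Agent.Tits.OfBN Cfsg.Agent.LieExceptional.BNPairCore

universe u v

section transfer

variable {I W W' : Type*} [Group W] [Group W'] {M : CoxeterMatrix I}

theorem WJ_transfer {cs : CoxeterSystem M W} {cs' : CoxeterSystem M W'} (e : W ≃* W')
    (he : ∀ i, e (cs.simple i) = cs'.simple i) {J : Set I} {w : W} (hw : w ∈ WJ cs J) : e w ∈ WJ cs' J := by
  have h1 : WJ cs J ≤ (WJ cs' J).comap e.toMonoidHom := by
    unfold WJ
    rw [Subgroup.closure_le]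
    rintro _ ⟨i, hi, rfl⟩
    change e (cs.simple i) ∈ Subgroup.closure (cs'.simple '' J)
    rw [he]
    exact Subgroup.subset_closure ⟨i, hi, rfl⟩
  exact h1 hw

/-- `Good` does not depend on the Coxeter system. -/
theorem good_transfer (cs : CoxeterSystem M W) (cs' : CoxeterSystem M W') {J : Set I} {LL : Set I → Prop} {i : I}
    (h : WallGood.Good cs J LL i) : WallGood.Good cs' J LL i := by
  obtain ⟨e, he⟩ : ∃ e : W ≃* W', ∀ i, e (cs.simple i) = cs'.simple i := by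
    exact ⟨cs.mulEquiv.trans cs'.mulEquiv.symm, fun i =>
      congrArg cs'.mulEquiv.symm (cs.mulEquiv.apply_symm_apply (PresentedGroup.of i : M.Group))⟩
  have he' : ∀ i, e.symm (cs'.simple i) = cs.simple i := fun i => by rw [← he, MulEquiv.symm_apply_apply]
  intro w hw j hj
  obtain ⟨v, hv, L, hL, l, hl, k, hk, h1⟩ := h (e.symm w) (WJ_transfer e.symm he' hw) j hj
  refine ⟨e v, WJ_transfer e he hv, L, hL, e l, WJ_transfer e he hl, k, hk, ?_⟩
  have h2 := congrArg e h1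
  simp only [map_mul, map_inv, he, MulEquiv.apply_symm_apply] at h2
  exact h2

end transfer

section frame

variable {I W : Type*} [Fintype I] [DecidableEq I] [Group W] {M : CoxeterMatrix I}
  {cs : CoxeterSystem M W} {A : I → I → ℤ} {h : IsCartan M A}

/-- **The building frame of a root group datum**, with the positions of the `n i`. -/
theorem frameN [Finite W] [Nonempty I] {H : Type u} [Group H] [Finite H] {K : Subgroup H} (hK : K.Normal)
    [IsSimpleGroup K] {Tor : Subgroup K} {n : I → K} {X : (I → ℤ) → Subgroup K} (R : RGD cs h 2 Tor n X)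
    (hG1 : Nodes.RGDLib.G1 cs h X = ⊤) :
    ∃ (F : Typ.Frame K M), letI := F.gW; letI := F.act; ∃ c0 : F.C, F.S.U c0 = RGD.Sup X (RGD.Pos cs h) ∧
      (∀ i, F.Δ.δ c0 (n i • c0) = F.cs.simple i) ∧
      ∀ P : Subgroup K, RGD.Sup X (RGD.Pos cs h) ≤ P → ∀ i, i ∈ tp F.Δ P c0 ↔ X (-sr i) ≤ P := by
  have : Fact (Nat.Prime 2) := ⟨Nat.prime_two⟩
  have hgen : RGD.B cs h Tor X ⊔ NN cs R.nsys = ⊤ := by
    rw [eq_top_iff, ← hG1]
    exact Nodes.RGDLib.rgd_G1_le R
  obtain ⟨i₀⟩ := (inferInstance : Nonempty I)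
  have hne : (R.bnPair hgen).S.Nonempty := ⟨n i₀, i₀, rfl⟩
  have hP := SplitRGD.split_of_rgd Nat.prime_two R hgen
    (Cfsg.Agent.Tits.OfBN.normalCore_eq_bot (R.bnPair hgen) hne)
  obtain ⟨e, hen, hN, cs', hcs⟩ : ∃ e : I ≃ (R.bnPair hgen).S, (∀ i, (e i : K) = n i) ∧ BNType (R.bnPair hgen) M e :=
    ⟨Equiv.ofInjective n R.n_injective, fun _ => rfl, Typ.bnType R hgen⟩
  have hth := thick (R.bnPair hgen) e cs' hcs
  obtain ⟨A'⟩ := exists_hact (OfBN.sys e cs' hcs hP) hth (fun τ => UGT.U2.FOne.exists_mv hP e cs' hcs τ)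
  have key : ∀ g : K, (bldg (R.bnPair hgen) e cs' hcs).δ (QuotientGroup.mk 1) (g • QuotientGroup.mk 1) =
      wt (R.bnPair hgen) g := by
    intro g
    have h1 : g • (QuotientGroup.mk 1 : K ⧸ (R.bnPair hgen).B) = QuotientGroup.mk (g * 1) := rfl
    rw [h1, bldg_δ_mk, inv_one, one_mul, mul_one]
  refine ⟨⟨WP (R.bnPair hgen), inferInstance, cs', K ⧸ (R.bnPair hgen).B, inferInstance, _,
    OfBN.sys e cs' hcs hP, A', hth, inferInstance, ⟨QuotientGroup.mk 1⟩, inferInstance⟩, QuotientGroup.mk 1, ?_, ?_, ?_⟩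
  · ext x
    change x ∈ OfBN.UU (R.bnPair hgen) _ (QuotientGroup.mk 1) ↔ _
    rw [OfBN.mem_UU hP]
    have h1 : (1 : K)⁻¹ * x * 1 = x := by group
    rw [h1]
  · intro i
    refine (key (n i)).trans ?_
    change _ = cs'.simple i
    rw [hcs]
    exact wt_of_mem _ (mem_C.2 ⟨1, one_mem _, 1, one_mem _, by rw [hen i]; group⟩)
  · intro P hUP i
    rw [Typ.neg_le_iff R hUP i]
    constructor
    · rintro ⟨g, hg, hgi⟩
      refine ⟨g, hg, ?_⟩
      have h1 : wt (R.bnPair hgen) g = cs'.simple i := (key g).symm.trans hgi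
      rw [hcs] at h1
      obtain ⟨b, hb, b', hb', h2⟩ := mem_C.1 (mem_C_of_wt _ h1)
      exact ⟨b, hb, b', hb', by rw [← hen i]; exact h2⟩
    · rintro ⟨g, hg, b, hb, b', hb', e1⟩
      refine ⟨g, hg, ?_⟩
      have h1 : wt (R.bnPair hgen) g = cs'.simple i := by
        rw [hcs]
        exact wt_of_mem _ (mem_C.2 ⟨b, hb, b', hb', by rw [hen i]; exact e1⟩)
      exact (key g).trans h1

variable {K : Type*} [Group K] {W' : Type*} [Group W'] {cs' : CoxeterSystem M W'} {C : Type*} {Δ : Bldg cs' C}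
  [MulAction K C] (S : Sys Δ K 2) {Tor : Subgroup K} {n : I → K} {X : (I → ℤ) → Subgroup K}
  [Cfsg.Agent.Tits.OppRes.Cox cs']

theorem exists_mul_of_mem_sup {Y : Type*} [Group Y] {P Q : Subgroup Y} (hPQ : P ≤ Subgroup.normalizer (Q : Set Y))
    {x : Y} (hx : x ∈ P ⊔ Q) : ∃ a ∈ P, ∃ b ∈ Q, x = a * b := by
  refine Subgroup.closure_induction (p := fun x _ => ∃ a ∈ P, ∃ b ∈ Q, x = a * b) ?_ ?_ ?_ ?_
    (Subgroup.sup_eq_closure P Q ▸ hx)
  · rintro x (h1 | h1)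
    · exact ⟨x, h1, 1, one_mem _, (mul_one x).symm⟩
    · exact ⟨1, one_mem _, x, h1, (one_mul x).symm⟩
  · exact ⟨1, one_mem _, 1, one_mem _, (mul_one 1).symm⟩
  · rintro _ _ - - ⟨a, ha, b, hb, rfl⟩ ⟨a', ha', b', hb', rfl⟩
    refine ⟨a * a', mul_mem ha ha', (a'⁻¹ * b * a') * b', mul_mem ?_ hb', by group⟩
    have h1 := (Subgroup.mem_normalizer_iff.1 (hPQ (inv_mem ha')) b).1 hb
    rwa [inv_inv] at h1
  · rintro _ - ⟨a, ha, b, hb, rfl⟩
    refine ⟨a⁻¹, inv_mem ha, a * b⁻¹ * a⁻¹, ?_, by group⟩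
    exact (Subgroup.mem_normalizer_iff.1 (hPQ ha) b⁻¹).1 (inv_mem hb)

/-- `X (-α_i) ⊓ U = 1` -/
theorem neg_inf [Finite W] (R : RGD cs h 2 Tor n X) {i : I} {x : K} (hx : x ∈ X (-sr i))
    (hxU : x ∈ RGD.Sup X (RGD.Pos cs h)) : x = 1 := by
  by_contra hx1
  obtain ⟨a, ha, t, ht, b, hb, e⟩ := R.rk1 i x hx hx1
  have h1 : n i ∈ RGD.B cs h Tor X := by
    have h2 : n i = t⁻¹ * (a⁻¹ * x * b⁻¹) := by rw [e]; group
    rw [h2]
    refine mul_mem (inv_mem (RGD.T_le_B ht)) (mul_mem (mul_mem ?_ (RGD.U_le_B hxU)) ?_)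
    · exact inv_mem (RGD.X_le_B (isRoot_sr cs h i) (sr_nonneg i) ha)
    · exact inv_mem (RGD.X_le_B (isRoot_sr cs h i) (sr_nonneg i) hb)
  have h2 := R.eq_one_of_mem_B (rp_simple cs R.nsys i) h1
  have h3 := orderOf_eq_one_iff.2 h2
  have h4 : (cs.simple i) ≠ 1 := by
    intro h5
    have h6 := cs.length_simple i
    rw [h5, cs.length_one] at h6
    omega
  exact h4 h2

include S in
/-- the number of chambers of a panel -/
theorem card_pan [Finite W] (R : RGD cs h 2 Tor n X) {c : C} (hU : S.U c = RGD.Sup X (RGD.Pos cs h))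
    (hn : ∀ i, Δ.δ c (n i • c) = cs'.simple i) (i : I) :
    Nat.card (X (sr i)) = Nat.card {y : C // Δ.δ c y = cs'.simple i} := by
  have hXU : X (sr i) ≤ S.U c := by
    rw [hU]
    exact RGD.le_Sup (S := RGD.Pos cs h) ⟨isRoot_sr cs h i, sr_nonneg i⟩
  refine Nat.card_congr (Equiv.ofBijective (fun x => ⟨(x : K) • (n i • c), ?_⟩) ⟨?_, ?_⟩)
  · have h1 : Δ.δ ((x : K) • c) ((x : K) • (n i • c)) = cs'.simple i := by rw [S.iso, hn]
    rwa [S.fix c _ (hXU x.2)] at h1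
  · rintro ⟨x, hx⟩ ⟨y, hy⟩ hxy
    have h1 : x • (n i • c) = y • (n i • c) := congrArg Subtype.val hxy
    have h2 : (y⁻¹ * x) • (n i • c) = n i • c := by rw [mul_smul, h1, inv_smul_smul]
    have hz : y⁻¹ * x ∈ X (sr i) := mul_mem (inv_mem hy) hx
    have h3 := S.mem_U_of_fix (hXU hz) h2
    have h4 : n i * ((n i)⁻¹ * (y⁻¹ * x) * n i) * (n i)⁻¹ ∈ S.U (n i • c) := by
      have e : n i * ((n i)⁻¹ * (y⁻¹ * x) * n i) * (n i)⁻¹ = y⁻¹ * x := by group
      rwa [e]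
    have h5 := S.conj_mem_U_iff.1 h4
    rw [hU] at h5
    have h6 : (n i)⁻¹ * (y⁻¹ * x) * n i ∈ X (-sr i) := by
      have := R.conj_mem' (rp_simple cs R.nsys i) (isRoot_sr cs h i) hz
      rwa [inv_simple, rep_simple_sr] at this
    have h7 := neg_inf R h6 h5
    apply Subtype.ext
    have h8 : y⁻¹ * x = 1 := by
      have e : y⁻¹ * x = n i * ((n i)⁻¹ * (y⁻¹ * x) * n i) * (n i)⁻¹ := by group
      rw [e, h7, mul_one, mul_inv_cancel]
    exact (inv_mul_eq_one.1 h8).symm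
  · rintro ⟨y, hy⟩
    obtain ⟨u, hu, huy⟩ := S.exists_move ((hn i).trans hy.symm)
    rw [hU, R.Upos_eq i] at hu
    obtain ⟨x, hx, v, hv, rfl⟩ := exists_mul_of_mem_sup (R.X_le_normalizer_V i) hu
    refine ⟨⟨x, hx⟩, Subtype.ext ?_⟩
    change x • (n i • c) = y
    rw [← huy, mul_smul]
    congr 1
    -- `v` fixes `n i • c`
    have h1 : (n i)⁻¹ * v * n i ∈ RGD.Sup X (RGD.PosNe cs h i) := by
      have h2 := R.cj_n_V i
      rw [← h2] at hv
      obtain ⟨w, hw, rfl⟩ := hv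
      have e : (n i)⁻¹ * ((MulAut.conj (n i)).toMonoidHom w) * n i = w := by
        change (n i)⁻¹ * (n i * w * (n i)⁻¹) * n i = w
        group
      rw [e]
      exact hw
    have h2 : (n i)⁻¹ * v * n i ∈ S.U c := by
      rw [hU, R.Upos_eq i]
      exact (le_sup_right : _ ≤ X (sr i) ⊔ RGD.Sup X (RGD.PosNe cs h i)) h1
    have h3 := S.fix c _ h2
    have h4 : n i • (((n i)⁻¹ * v * n i) • c) = v • (n i • c) := by
      rw [← mul_smul, ← mul_smul]
      congr 1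
      group
    rw [← h4, h3]

end frame

/-- **The WALL THEOREM, socket of `Lie2/Def.lean`.** -/
theorem wallT : WallT.{u, v} := by
  intro X _ _ M _ _ _ K T B m l Mx Ac h Tor n Xr hl hI hL hR
  have hKn := hI.norm
  have hKs := hI.simple
  have hfin : Finite Mx.Group := hR.fin
  have hne : Nonempty (Fin l) := ⟨⟨0, hl⟩⟩
  obtain ⟨F, hF⟩ := frameN hKn hR.rgd hR.gen
  obtain ⟨W, gW, cs, C, act, Δ, S, A, hth, hfC, hnC, hfW⟩ := F
  obtain ⟨c, hU, hn, htp⟩ := hF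
  change S.U c = _ at hU
  change ∀ i, Δ.δ c (n i • c) = cs.simple i at hn
  change ∀ P : Subgroup K, _ → ∀ i, i ∈ tp Δ P c ↔ _ at htp
  have hUT : S.U c = T.subgroupOf K := hU.trans hR.syl
  have hc : ∀ t ∈ T, A.θ t c = c := by
    obtain ⟨c', hc', hUc'⟩ := exists_chamber A S hth hI.two hI.syl
    have h3 : c' = c := UGT.U2.FOne.U_inj S hth (hUc'.trans hUT.symm)
    rw [← h3]
    exact hc'
  have hJm : tp Δ ((MulAction.stabilizer X m).subgroupOf K) c = Jm Xr m := by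
    ext i
    rw [htp _ ?_ i]
    · exact Iff.rfl
    · rw [hR.syl]
      exact fun x hx => hL.fix x hx
  obtain ⟨hJ, -, i, hi, hk, hb⟩ := Wall.movers A S hI hL hth hc hUT
  have htr := Wall.not_trans_of_nmax A S hth hc hUT hI.gen hI.nmax
  rw [hJm] at hJ hi hk hb
  refine ⟨A.σ, ⟨A.σ_one, A.σ_mul, WallSig.sig_M A, ?_, ?_⟩, fun t _ j hj => hJ t j hj, i, hi, hk,
    fun hg => hb i hi ?_⟩
  · -- the cardinalities
    intro g j
    obtain ⟨k, t, ht, rfl⟩ := exists_kt A S hI.gen g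
    rw [A.σ_mul, A.σ_K S, card_pan S hR.rgd hU hn, card_pan S hR.rgd hU hn]
    symm
    refine Nat.card_congr (Equiv.ofBijective (fun y => ⟨A.θ t y, ?_⟩) ⟨?_, ?_⟩)
    · have h1 := A.δ_θ t c y
      rw [hc t ht, y.2, A.φ_simple] at h1
      exact h1
    · rintro ⟨y, hy⟩ ⟨z, hz⟩ hyz
      exact Subtype.ext (A.θ_inj t (congrArg Subtype.val hyz))
    · rintro ⟨y, hy⟩
      refine ⟨⟨A.θ t⁻¹ y, ?_⟩, Subtype.ext (A.θ_θ_inv t y)⟩
      have h1 := A.δ_θ t⁻¹ c y
      rw [hc _ (inv_mem ht), hy, A.φ_simple, A.σ_inv_σ] at h1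
      exact h1
  · -- a proper invariant set
    obtain ⟨L, hL1, hL2, hL3⟩ := Wall.exists_orbit A S hI.gen htr ⟨0, hl⟩
    exact ⟨L, ⟨_, hL3⟩, hL2, fun t _ i hi => hL1 t i hi⟩
  · have hg' := good_transfer Mx.toCoxeterSystem cs hg
    intro v hv j hj
    obtain ⟨a, ha, L, ⟨hLu, hL'⟩, l', hl', k, hk', e⟩ := hg' v hv j hj
    refine ⟨L, inv_of_T A S hI.gen hL', hLu, a, ha, l', hl', k, hk', ?_⟩
    rw [e]
    group

end Cfsg.Agent.Omega.ML.Ex.Lie2

end

section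


/-!
# `T` is not transitive on the nodes: the corollaries (helper218)

Over `InX X M K T A` (only the field `nmax` matters, (LA) and the W-part are not used):

* `not_trans`, `two` : for a building frame `F` of `K`, `T` is not transitive on the nodes; there is a nonempty proper
  `T`-invariant set of nodes;
* `false_of_subsingleton` : `K` has no building frame of rank one;
* **`false_of_rgd_one`, `false_of_rf_one`** : `K` has no root group datum of rank one (`L_2(q)`, `U_3(q)`, ...);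
* **`deadX_suz`, `deadXL_suz`** : the row of the Suzuki groups;
* `two_le` : the rank is at least two;  `fix_of_two` : rank two: `T` fixes both nodes (so `B_2`, `G_2` with a graph automorphism are out).
-/

set_option autoImplicit false
set_option linter.unusedSectionVars false

namespace Cfsg.Agent.Omega.ML.Ex.Lie2.RankOne

open Subgroup Cfsg Cfsg.Agent.Omega.ML.Ex
open Cfsg.Agent.Tits.Core Cfsg.Agent.Tits.Exchange Cfsg.Agent.Tits.OfBN Cfsg.Agent.Schreier.BNSch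
open Cfsg.Agent.FixBN Cfsg.Agent.FixBN.Cox Cfsg.Agent.Omega.ML.LieRow

universe u v w

section frame

variable {X : Type u} [Group X] [Finite X] {M : Type v} [Group M] [MulDistribMulAction X M] {K T A : Subgroup X}

/-- **`T` is not transitive on the nodes.** -/
theorem not_trans (h : InX X M K T A) {I : Type*} [Finite I] [Nonempty I] {Mx : CoxeterMatrix I} (F : Typ.Frame K Mx) :
    letI := F.gW; letI := F.act; ¬ ∀ i j : I, ∃ t ∈ T, F.A.σ t i = j := by
  have hKn := h.norm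
  have hKs := h.simple
  obtain ⟨W, gW, cs, C, act, Δ, S, B, hth, hfC, hnC, hfW⟩ := F
  obtain ⟨c, hc, hUc⟩ := exists_chamber B S hth h.two h.syl
  exact Wall.not_trans_of_nmax B S hth hc hUc h.gen h.nmax

/-- a nonempty proper invariant set of nodes -/
theorem two (h : InX X M K T A) {I : Type*} [Finite I] [Nonempty I] {Mx : CoxeterMatrix I} (F : Typ.Frame K Mx) :
    letI := F.gW; letI := F.act; ∃ L : Set I, L.Nonempty ∧ L ≠ Set.univ ∧ F.A.Inv L := by
  have hKn := h.norm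
  have hKs := h.simple
  have h1 := not_trans h F
  obtain ⟨W, gW, cs, C, act, Δ, S, B, hth, hfC, hnC, hfW⟩ := F
  obtain ⟨i₀⟩ := (inferInstance : Nonempty I)
  obtain ⟨L, h2, h3, h4⟩ := Wall.exists_orbit B S h.gen h1 i₀
  exact ⟨L, ⟨i₀, h4⟩, h3, h2⟩

/-- **Rank one, for frames.** -/
theorem false_of_subsingleton (h : InX X M K T A) {I : Type*} [Subsingleton I] [Nonempty I] {Mx : CoxeterMatrix I}
    (F : Typ.Frame K Mx) : False :=
  not_trans h F fun _ _ => ⟨1, one_mem _, Subsingleton.elim _ _⟩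

/-- rank one, for (B,N)-pairs -/
theorem false_of_split (h : InX X M K T A) {P : Cfsg.BNPair K} {U : Subgroup K} (hne : P.S.Nonempty)
    (hs : P.S.Subsingleton) (hP : Split P 2 U) : False := by
  have : Fact (Nat.Prime 2) := ⟨Nat.prime_two⟩
  have hKs := h.simple
  have hN : ((P.B ⊓ P.N).subgroupOf P.N).Normal := normal_subgroupOf P
  obtain ⟨Mx, cs, hcs⟩ := S0320.result P
  have hIn : Nonempty P.S := hne.to_subtype
  have hIs : Subsingleton P.S := ⟨fun a b => Subtype.ext (hs a.2 b.2)⟩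
  have h1 : Typ.HasSplitT 2 Mx K := ⟨P, U, Equiv.refl _, hP, hN, cs, hcs⟩
  obtain ⟨F⟩ := h1.frame h.norm
  exact false_of_subsingleton h F

/-- **Rank one, for root group data.** -/
theorem false_of_rgd_one (h : InX X M K T A) {Mx : CoxeterMatrix (Fin 1)} (hK : Typ.HasRGDT 2 Mx K) : False := by
  obtain ⟨F⟩ := hK.frame h.norm h.simple one_pos
  exact false_of_subsingleton h F

end frame

/-- the row of the simple groups with a root group datum of rank one -/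
theorem deadX_rgd_one : DeadX.{u, v} fun S _ => ∃ Mx : CoxeterMatrix (Fin 1), Typ.HasRGDT 2 Mx S :=
  fun _ _ _ _ _ _ _ _ _ _ h ⟨_, hK⟩ => false_of_rgd_one h hK

/-- **The row of the Suzuki groups.** -/
theorem deadX_suz : DeadX.{u, v} fun S _ => Lie.IsoSuzuki S := by
  intro X _ _ M _ _ _ K T A h hK
  obtain ⟨F, i1, i2, m, hm, hF, ⟨e⟩⟩ := hK
  have H := LieRecognition.SzMatrix.good hF
  have hs : IsSimpleGroup ↥(Cfsg.Lie.Sz F (2 ^ (m + 1))) := Cfsg.Agent.S1162.result hm hF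
  have h1 := SzSplit.split hm hF H hs
  refine false_of_split h (P := Transport.mapBN e.symm (SzSplit.bnPair H)) ⟨e.symm H.w, H.w, rfl, rfl⟩ ?_
    (Transport.split e.symm _ h1)
  rintro _ ⟨x, hx, rfl⟩ _ ⟨y, hy, rfl⟩
  have hx' : x = H.w := hx
  have hy' : y = H.w := hy
  rw [hx', hy']

/-- a row without the W-part and (LA) -/
theorem xl {𝒮 : ∀ (S : Type u) [Group S], Prop}
    (h : DeadX.{u, v} 𝒮) : DeadXL.{u, v, w} 𝒮 :=
  fun X _ _ M _ _ _ _ _ _ _ K T A _ _ hI _ _ hS => h X M K T A hI hS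

theorem deadXL_suz : DeadXL.{u, v, w} fun S _ => Lie.IsoSuzuki S := xl deadX_suz

section rf

variable {X : Type u} [Group X] [Finite X] {M : Type v} [Group M] [MulDistribMulAction X M] {K T A : Subgroup X}
  {l : ℕ} {Mx : CoxeterMatrix (Fin l)} {Ac : Fin l → Fin l → ℤ}
  {h : Cfsg.Agent.ChevalleyStructure.CoxeterGeom.IsCartan Mx Ac} {Tor : Subgroup K}
  {n : Fin l → K} {Xr : (Fin l → ℤ) → Subgroup K}

theorem hasRGDT {Y : Type*} [Group Y] {Tor : Subgroup Y} {n : Fin l → Y} {Xr : (Fin l → ℤ) → Subgroup Y}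
    (hR : Rg h Tor n Xr) : Typ.HasRGDT 2 Mx Y := ⟨Ac, h, Tor, n, Xr, hR.fin, hR.rgd, hR.gen⟩

/-- **the rank is at least two** -/
theorem two_le (hI : InX X M K T A) (hl : 0 < l) (hR : RF K T h Tor n Xr) : 2 ≤ l := by
  by_contra h1
  obtain rfl : l = 1 := by omega
  exact false_of_rgd_one hI (hasRGDT hR.toRg)

/-- rank two: both nodes are fixed -/
theorem fix_of_two (hl : l = 2) {σ : X → Fin l → Fin l} (hs : Sg T Mx Xr σ) : ∀ t ∈ T, ∀ i, σ t i = i := by
  subst hl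
  obtain ⟨L, ⟨i, hi⟩, hLu, hL⟩ := hs.two
  have hinj : ∀ t, Function.Injective (σ t) := by
    intro t a b hab
    have h1 := congrArg (σ t⁻¹) hab
    rwa [← hs.mul, ← hs.mul, inv_mul_cancel, hs.one, hs.one] at h1
  have h2 : ∀ j, j ≠ i → j ∉ L := by
    intro j hj hjL
    apply hLu
    rw [Set.eq_univ_iff_forall]
    intro k
    rcases eq_or_ne k i with rfl | hk
    · exact hi
    · have : k = j := by omega
      rwa [this]
  have h3 : ∀ t ∈ T, σ t i = i := by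
    intro t ht
    by_contra h4
    exact h2 _ h4 (hL t ht i hi)
  intro t ht j
  rcases eq_or_ne j i with rfl | hj
  · exact h3 t ht
  · have h4 : σ t j ≠ i := by
      intro h5
      exact hj (hinj t (h5.trans (h3 t ht).symm))
    omega

end rf

end Cfsg.Agent.Omega.ML.Ex.Lie2.RankOne

end

section


/-!
# The row `lie2`: data of `²E₆(q)` (helper949)

`G ≃ ²E₆(q)`, `q` even: a root group datum of type `F₄` with generation, `|X₀| ≠ |X₃|` (the orders are at most `q` and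
at least `q²`).
-/

set_option autoImplicit false

namespace Cfsg.Agent.Omega.ML.Ex.Lie2.DatE6

open Cfsg Cfsg.Lie
open CoxeterSystem Cfsg.Agent.ChevalleyStructure.CoxeterGeom Cfsg.Agent.Tits.Roots Cfsg.Agent.Tits.Core
  Cfsg.Agent.Nodes.BNOf Cfsg.Agent.Nodes.RGDLib
open Cfsg.Agent.ChevalleyStructure
open Cfsg.Agent.ChevalleyStructure.TwE6Basic (posE negE sg fix n exists_frob twisted_le_fix mem_fix x_injective x_add
  sg_x_class pair_mem)
open Cfsg.Agent.ChevalleyStructure.TwE6BN (rs x_mem_rs rs_single)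

universe u

/-- a root group datum of characteristic two and type `F₄`, with generation and `|X₀| ≠ |X₃|` -/
def HasNe (G : Type*) [Group G] : Prop :=
  ∃ (A : Fin 4 → Fin 4 → ℤ) (h : IsCartan CoxeterMatrix.F₄ A) (T : Subgroup G) (n : Fin 4 → G)
    (X : (Fin 4 → ℤ) → Subgroup G), Rg h T n X ∧ Nat.card (X (sr 0)) ≠ Nat.card (X (sr 3))

theorem HasNe.of_equiv {G H : Type*} [Group G] [Group H] (e : G ≃* H) (hG : HasNe G) : HasNe H := by
  obtain ⟨A, h, T, n, X, R, hc⟩ := hG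
  refine ⟨A, h, T.map e.toMonoidHom, fun i => e (n i), fun x => (X x).map e.toMonoidHom,
    ⟨R.fin, rgd_map_of_injective R.rgd e.toMonoidHom e.injective, ?_⟩, ?_⟩
  · have h1 : (RGD.Sup X {x | IsRoot CoxeterMatrix.F₄.toCoxeterSystem h x}).map e.toMonoidHom =
        RGD.Sup (fun x => (X x).map e.toMonoidHom) {x | IsRoot CoxeterMatrix.F₄.toCoxeterSystem h x} := by
      unfold RGD.Sup
      rw [Subgroup.map_iSup]
    rw [← h1, R.gen, Subgroup.map_top_of_surjective _ e.surjective]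
  · have h2 : ∀ Y : Subgroup G, Nat.card (Y.map e.toMonoidHom) = Nat.card Y := fun Y =>
      Subgroup.card_map_of_injective e.injective
    rwa [h2, h2]

section

variable {K : Type u} [Field K] [Fintype K] {q : ℕ} {φ : K →+* K}

theorem card_fixed_le (hq : 1 < q) : Nat.card {t : K // t ^ q = t} ≤ q := by
  classical
  rw [Nat.card_eq_fintype_card, Fintype.card_subtype]
  have h1 : (Finset.univ.filter fun t : K => t ^ q = t) ⊆ (Polynomial.X ^ q - Polynomial.X : Polynomial K).roots.toFinset := by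
    intro t ht
    rw [Finset.mem_filter] at ht
    rw [Multiset.mem_toFinset, Polynomial.mem_roots (FiniteField.X_pow_card_sub_X_ne_zero K hq)]
    simp [ht.2]
  calc _ ≤ _ := Finset.card_le_card h1
    _ ≤ _ := Multiset.toFinset_card_le _
    _ ≤ _ := Polynomial.card_roots' _
    _ = q := FiniteField.X_pow_card_sub_X_natDegree_eq K hq

theorem card_zero (hφ : ∀ x, φ x = x ^ q) (hq : 1 < q) : Nat.card (Nodes.RGDTwE6.X φ q (sr 0)) ≤ q := by
  refine le_trans ?_ (card_fixed_le (K := K) hq)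
  have key : ∀ g : Nodes.RGDTwE6.X φ q (sr 0), ∃ t : K, t ^ q = t ∧ ((g : ↥(twistedE6 K q)) : GL chevE6.Idx K) =
      TwE6Basic.x 46 t := by
    intro g
    have h1 : ((g : ↥(twistedE6 K q)) : GL chevE6.Idx K) ∈
        Nodes.RGDFold.R chevE6 Nodes.RGDTwE6.hp K Nodes.RGDTwE6.J (sg φ) (sr 0) := g.2
    rw [Nodes.RGDTwE6.R_pos] at h1
    obtain ⟨t, ht⟩ := rs_single (r := 46) (K := K) h1.1
    refine ⟨t, ?_, ht⟩
    have h2 := mem_fix.1 h1.2
    rw [ht] at h2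
    have h3 := sg_x_class φ (i := 0) (r := (46 : Fin 72)) (by decide +kernel) t
    have h4 : (TwE6Basic.rho (46 : Fin 72)).val = 46 := by decide +kernel
    rw [h4] at h3
    rw [← hφ]
    exact x_injective (r := 46) (by norm_num) (h3.symm.trans h2)
  refine Nat.card_le_card_of_injective (fun g => ⟨(key g).choose, (key g).choose_spec.1⟩) ?_
  intro g g' hg
  have h1 : (key g).choose = (key g').choose := congrArg Subtype.val hg
  apply Subtype.ext
  apply Subtype.ext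
  rw [(key g).choose_spec.2, (key g').choose_spec.2, h1]

theorem card_three (hφ : ∀ x, φ x = x ^ q) (hqq : ∀ t : K, (t ^ q) ^ q = t) :
    Nat.card K ≤ Nat.card (Nodes.RGDTwE6.X φ q (sr 3)) := by
  have hm : ∀ t : K, TwE6Basic.x 56 t * TwE6Basic.x 36 (t ^ q) ∈ twistedE6 K q := fun t =>
    pair_mem (q := q) t (rs := (56, 36)) (by simp)
  have hR : ∀ t : K, TwE6Basic.x 56 t * TwE6Basic.x 36 (t ^ q) ∈
      Nodes.RGDFold.R chevE6 Nodes.RGDTwE6.hp K Nodes.RGDTwE6.J (sg φ) (sr 3) := by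
    intro t
    rw [Nodes.RGDTwE6.R_pos]
    exact ⟨mul_mem (x_mem_rs (by decide +kernel) t) (x_mem_rs (by decide +kernel) _),
      twisted_le_fix φ hφ hqq (hm t)⟩
  refine Nat.card_le_card_of_injective
    (fun t => (⟨⟨_, hm t⟩, hR t⟩ : Nodes.RGDTwE6.X φ q (sr 3))) ?_
  intro t u h
  have h1 : TwE6Basic.x 56 t * TwE6Basic.x 36 (t ^ q) = TwE6Basic.x 56 u * TwE6Basic.x 36 (u ^ q) :=
    congrArg (fun z : Nodes.RGDTwE6.X φ q (sr 3) => ((z : ↥(twistedE6 K q)) : GL chevE6.Idx K)) h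
  exact (TwE6BN.pair3.x_pair_inj h1).1

end

/-- **`²E₆(q)`, `q` even.** -/
theorem ne_twE6 {K : Type u} [Field K] [Fintype K] [CharP K 2] {q : ℕ} (hq : IsPrimePow q)
    (hK : Fintype.card K = q ^ 2) : HasNe ↥(twistedE6 K q) := by
  have : Fact (Nat.Prime 2) := ⟨Nat.prime_two⟩
  obtain ⟨φ, hφ, hqq⟩ := exists_frob hq hK
  refine ⟨_, Nodes.RGDTwE6.isCartan, _, _, _,
    ⟨Nodes.RGDFold.finite_W (hp := Nodes.RGDTwE6.hp) CoxeterMatrix.F₄.toCoxeterSystem Nodes.RGDTwE6.isCartan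
      Nodes.RGDTwE6.foldData, Nodes.RGDTwE6.rgd _ hφ hqq 2, Nodes.RGDTwE6.G1_eq_top _ hφ hqq⟩, ?_⟩
  intro h
  have h1 := card_zero (K := K) hφ hq.one_lt
  have h2 := card_three hφ hqq
  rw [← h, Nat.card_eq_fintype_card, hK] at h2
  have h3 := hq.one_lt
  nlinarith [h2.trans h1]

end Cfsg.Agent.Omega.ML.Ex.Lie2.DatE6

end

end

-- merged: Cfsg.Agent.Mrg.Omega.ML.Ex.Lie2.DataB
section

section


/-!
# Data for the rows with perfect fixers: `PSU_N(q)`, `PSp_2m(q)` (helper613)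

* `le_comm_of_fp`, `le_comm_of_tr`, `le_comm_of_trNode` : `X_i ≤ ⁅L_i, L_i⁆`, `L_i = ⟨X_i, X_{-i}⟩`, from a torus element
  which acts without fixed points, resp. from a transitive torus;
* `dt_model` : the data of a Witt model;
* **`dt_PSU_even`, `dt_PSU_odd`, `dt_PSU`** : `PSU_N(q)`; **`dt_PSp`** : `PSp_2m(q)`, `q ≥ 4`.
-/

set_option autoImplicit false
set_option linter.unusedSectionVars false

namespace Cfsg.Agent.Omega.ML.Ex.Lie2

open CoxeterSystem Cfsg.Agent.ChevalleyStructure.CoxeterGeom Cfsg.Agent.Tits.Roots Cfsg.Agent.Nodes.TypeC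
open Cfsg.Agent.Nodes.Comb Cfsg.Agent.Nodes.Reps Cfsg.Agent.Nodes.WittRoot Cfsg.Agent.Nodes.BNOf
open Cfsg.Agent.Nodes Cfsg.Agent.Nodes.WittAll Cfsg.Agent.Nodes.WittU
open Cfsg.Agent.TitsThree Cfsg.Agent.TitsThree.Siegel Cfsg.Agent.TitsThree.SiegelGen Cfsg.Agent.TitsThree.WittFrame
  Cfsg.Agent.TitsThree.WBridge Cfsg.Agent.TitsThree.WittWeyl Cfsg.Agent.TitsThree.FrameCN
open Cfsg.Agent.Omega.Lie.End Cfsg.Agent.Omega.Lie.End.KWitt Cfsg.Agent.Omega.Lie.End.KWittRow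
open Cfsg.Agent.Omega.EH3.Kf
open scoped commutatorElement

/-! ### Perfect nodes -/

section perf

variable {Y : Type*} [Group Y]

/-- `P ≤ ⁅L, L⁆` if an element of `L` acts without fixed points on `P ≤ L` -/
theorem le_comm_of_fp {P L : Subgroup Y} [Finite P] {t : Y} (ht : t ∈ L) (hP : P ≤ L)
    (hn : ∀ x ∈ P, t * x * t⁻¹ ∈ P) (hf : ∀ x ∈ P, t * x * t⁻¹ = x → x = 1) : P ≤ ⁅L, L⁆ := by
  let f : P → P := fun x => ⟨t * x * t⁻¹ * (x : Y)⁻¹, mul_mem (hn x x.2) (inv_mem x.2)⟩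
  have hfi : Function.Injective f := by
    intro x y hxy
    have h1 : t * x * t⁻¹ * (x : Y)⁻¹ = t * y * t⁻¹ * (y : Y)⁻¹ := congrArg Subtype.val hxy
    have h2 : t * ((y : Y)⁻¹ * x) * t⁻¹ = (y : Y)⁻¹ * x := by
      have h3 : t * x * t⁻¹ = t * y * t⁻¹ * (y : Y)⁻¹ * x := by rw [← h1]; group
      calc t * ((y : Y)⁻¹ * x) * t⁻¹ = (t * y * t⁻¹)⁻¹ * (t * x * t⁻¹) := by group
        _ = (t * y * t⁻¹)⁻¹ * (t * y * t⁻¹ * (y : Y)⁻¹ * x) := by rw [h3]
        _ = (y : Y)⁻¹ * x := by group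
    have h3 := hf _ (mul_mem (inv_mem y.2) x.2) h2
    exact Subtype.ext (inv_mul_eq_one.1 h3).symm
  intro w hw
  obtain ⟨x, hx⟩ := (Finite.injective_iff_surjective.1 hfi) ⟨w, hw⟩
  have h1 : t * x * t⁻¹ * (x : Y)⁻¹ = w := congrArg Subtype.val hx
  rw [← h1]
  exact Subgroup.commutator_mem_commutator ht (hP x.2)

/-- `P ≤ ⁅L, L⁆` if `L` is transitive on the nontrivial elements of the group `P ≤ L` of exponent two -/
theorem le_comm_of_tr {P L : Subgroup Y} (hP : P ≤ L) (h2 : ∀ u ∈ P, u * u = 1)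
    (h3 : ∃ x ∈ P, ∃ y ∈ P, x ≠ 1 ∧ y ≠ 1 ∧ x ≠ y)
    (htr : ∀ u ∈ P, ∀ u' ∈ P, u ≠ 1 → u' ≠ 1 → ∃ t ∈ L, t * u * t⁻¹ = u') : P ≤ ⁅L, L⁆ := by
  obtain ⟨x, hx, y, hy, hx1, hy1, hxy⟩ := h3
  intro w hw
  obtain ⟨u, hu, hu1, huw⟩ : ∃ u ∈ P, u ≠ 1 ∧ u ≠ w := by
    by_cases h : x = w
    · exact ⟨y, hy, hy1, fun h' => hxy (h.trans h'.symm)⟩
    · exact ⟨x, hx, hx1, h⟩
  have h4 : w * u ≠ 1 := by
    intro h5
    apply huw
    exact mul_right_cancel ((h2 u hu).trans h5.symm)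
  obtain ⟨t, ht, e⟩ := htr u hu (w * u) (mul_mem hw hu) hu1 h4
  have h5 : w = ⁅t, u⁆ := by
    rw [commutatorElement_def, e]; group
  rw [h5]
  exact Subgroup.commutator_mem_commutator ht (hP hu)

variable {I : Type*} [DecidableEq I] {T : Subgroup Y} {n : I → Y} {X : (I → ℤ) → Subgroup Y} {i : I}

theorem le_comm_of_trNode (h : KTorus.TrNode T n X i) :
    X (sr i) ≤ ⁅X (sr i) ⊔ X (-sr i), X (sr i) ⊔ X (-sr i)⁆ :=
  le_comm_of_tr le_sup_left h.sq h.two fun u hu u' hu' h1 h1' => by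
    obtain ⟨t, ht, e⟩ := h.tr u hu u' hu' h1 h1'
    exact ⟨t, ht.2.1, e⟩

end perf

/-! ### Witt models -/

section model

variable {F : Type*} [Field F] {V : Type*} [AddCommGroup V] [Module F V] {H : HForm F V} {n : ℕ}
  {Fr : Frame H (Fin n)} {K : Type*} [Group K] (M : Model Fr K)

theorem commGen_model (G : TwC.Gd (WittModel.X M)) :
    Lev.CommGen (CoxeterMatrix.B n).toCoxeterSystem (TypeC.isCartan n) (WittModel.X M) :=
  fun _ hr h0 hs => G.gen _ hr h0 hs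

variable [CharP F 2] [Finite K] (hA : AmbT Fr 2 M.I)

include hA

/-- the nodes of type I -/
theorem node_one {i : Fin n} (hi : (i : ℕ) + 1 < n) {t : F} (ht0 : t ≠ 0) (ht1 : t ≠ 1) :
    WittModel.X M (sr i) ≤ ⁅Li (WittModel.X M) i, Li (WittModel.X M) i⁆ := by
  have hTL := mem_TL hA (hx_mem hA) (mono_hx hi ht0) (hx_mem_sup hi t)
  refine le_comm_of_fp (t := M.φ ⟨hx Fr (i, true) (nx i) t, hx_mem hA⟩) hTL.2 le_sup_left ?_ ?_
  · intro x hx
    obtain ⟨s, rfl⟩ := (mem_X_one hi).1 hx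
    exact (mem_X_one hi).2 ⟨_, phi_conj (hx_mem hA) _ (M.hX _ _ _) (hx_conj_X Fr (ne_nx hi) ht0 s)⟩
  · intro x hx1 hx2
    obtain ⟨s, rfl⟩ := (mem_X_one hi).1 hx1
    rw [phi_conj (hx_mem hA) _ (M.hX _ _ _) (hx_conj_X Fr (ne_nx hi) ht0 s)] at hx2
    have h1 := phi_inj_X (ne_nx hi) hx2
    apply X_eq_one
    have h3 : (t * t - 1) * s = 0 := by
      rw [sub_mul, one_mul, ← pow_two, h1, sub_self]
    have h5 : t * t - 1 = (t - 1) * (t - 1) := by
      have : (2 : F) = 0 := CharTwo.two_eq_zero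
      linear_combination (-1 + t) * this
    rw [h5] at h3
    exact (mul_eq_zero.1 h3).resolve_left (mul_ne_zero (sub_ne_zero.2 ht1) (sub_ne_zero.2 ht1))

/-- the last node -/
theorem node_two {j : Fin n} (hj : ¬ (j : ℕ) + 1 < n) {p0 : Fr.Adm} (hp0 : p0.c ≠ 0) {l : F} (hl0 : l ≠ 0)
    (hl1 : l * H.σ l ≠ 1) : WittModel.X M (sr j) ≤ ⁅Li (WittModel.X M) j, Li (WittModel.X M) j⁆ := by
  have hσ : H.σ l ≠ 0 := by simpa using hl0
  have hc : (Frame.Adm.smul l p0 : Fr.Adm).c ≠ 0 := mul_ne_zero (mul_ne_zero hl0 hσ) hp0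
  have hconj : ∀ r : Fr.Adm, hz Fr (j, true) (Frame.Adm.smul l p0) p0 * Fr.Z (j, true) r *
      (hz Fr (j, true) (Frame.Adm.smul l p0) p0)⁻¹ = Fr.Z (j, true) (Frame.Adm.smul (l * H.σ l) r) := by
    intro r
    rw [hz_conj_Z Fr hc hp0 r r (hz_smul_V0 Fr hl0 hp0 (Fr.ok_mem r.ok)) rfl]
    congr 2
    rw [Frame.Adm.smul_c, map_mul, map_mul, map_mul, map_inv₀, H.σσ]
    have : H.σ p0.c ≠ 0 := by simpa using hp0
    field_simp
  have hTL := mem_TL hA (hz_mem hA) (mono_hz hj hc hp0) (hz_mem_sup hj (Frame.Adm.smul l p0) p0)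
  refine le_comm_of_fp (t := M.φ ⟨hz Fr (j, true) (Frame.Adm.smul l p0) p0, hz_mem hA⟩) hTL.2 le_sup_left ?_ ?_
  · intro x hx
    obtain ⟨r, rfl⟩ := (mem_X_two hj).1 hx
    exact (mem_X_two hj).2 ⟨_, phi_conj (hz_mem hA) _ (M.hZ _ _) (hconj r)⟩
  · intro x hx1 hx2
    obtain ⟨r, rfl⟩ := (mem_X_two hj).1 hx1
    rw [phi_conj (hz_mem hA) _ (M.hZ _ _) (hconj r)] at hx2
    have h1 := phi_inj_Z hx2
    apply Z_eq_one
    refine smul_eq_self hl1 ?_ h1
    rw [map_mul, H.σσ, mul_comm]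

/-- **the data of a Witt model**, with visible root groups -/
theorem dtx_model [Finite V] (hn : 0 < n) {p0 : Fr.Adm} (hp0 : p0.c ≠ 0) (G : TwC.Gd (WittModel.X M))
    {t : F} (ht0 : t ≠ 0) (ht1 : t ≠ 1) {pf : Fin n → Prop}
    (hpf : ∀ j, pf j → ¬ (j : ℕ) + 1 < n → ∃ l : F, l ≠ 0 ∧ l * H.σ l ≠ 1) :
    ∃ nn : Fin n → K, Dt (TypeC.isCartan n) (WittModel.T M) nn (WittModel.X M) pf := by
  have : Fact (Nat.Prime 2) := ⟨Nat.prime_two⟩
  refine ⟨_,
    { fin := TypeC.finite_W (CoxeterMatrix.B n).toCoxeterSystem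
      rgd := rgdC_model M hA hp0 _
      gen := WittModel.G1_eq_top _ hn _
      comm := commGen_model M G
      perf := ?_ }⟩
  intro i hi
  by_cases h1 : (i : ℕ) + 1 < n
  · exact node_one M hA h1 ht0 ht1
  · obtain ⟨l, hl0, hl1⟩ := hpf i hi h1
    exact node_two M hA h1 hp0 hl0 hl1

/-- **the data of a Witt model** -/
theorem dt_model [Finite V] (hn : 0 < n) {p0 : Fr.Adm} (hp0 : p0.c ≠ 0) (G : TwC.Gd (WittModel.X M))
    {t : F} (ht0 : t ≠ 0) (ht1 : t ≠ 1) {pf : Fin n → Prop}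
    (hpf : ∀ j, pf j → ¬ (j : ℕ) + 1 < n → ∃ l : F, l ≠ 0 ∧ l * H.σ l ≠ 1) : HasDt (CoxeterMatrix.B n) pf K := by
  obtain ⟨nn, h⟩ := dtx_model M hA hn hp0 G ht0 ht1 hpf
  exact ⟨_, _, _, nn, _, h⟩

end model

/-! ### Unitary groups -/

section Unitary

open Cfsg.Agent.TitsThree.KSideU Cfsg.Agent.TitsThree.KSideUDesc

variable {F : Type*} [Field F] [Fintype F] {q N : ℕ}

theorem exists_elt (hF : Fintype.card F = q ^ 2) (hq : 2 < q) : ∃ l : F, l ≠ 0 ∧ l * l ^ q ≠ 1 := by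
  classical
  obtain ⟨g, hg⟩ := IsCyclic.exists_generator (α := Fˣ)
  refine ⟨g, g.ne_zero, fun h => ?_⟩
  have h1 : g ^ (q + 1) = 1 := by
    ext
    rw [Units.val_pow_eq_pow_val, pow_succ, mul_comm, Units.val_one]
    exact h
  have h2 : orderOf g = q ^ 2 - 1 := by
    rw [orderOf_eq_card_of_forall_mem_zpowers hg, Nat.card_eq_fintype_card, Fintype.card_units, hF]
  have h3 := orderOf_dvd_of_pow_eq_one h1
  rw [h2] at h3
  have h4 := Nat.le_of_dvd (by omega) h3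
  have h5 : 3 * q ≤ q ^ 2 := by rw [pow_two]; exact Nat.mul_le_mul_right _ hq
  omega

theorem exists_ne (hF : 2 < Fintype.card F) : ∃ t : F, t ≠ 0 ∧ t ≠ 1 := by
  classical
  obtain ⟨t, ht⟩ := Fintype.exists_ne_of_one_lt_card (α := Fˣ) (by rw [Fintype.card_units]; omega) 1
  exact ⟨t, t.ne_zero, fun h => ht (Units.ext h)⟩

theorem two_lt [CharP F 2] (hF : Fintype.card F = q ^ 2) : 2 < Fintype.card F := by
  have h1 : 1 < Fintype.card F := Fintype.one_lt_card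
  rw [hF] at h1 ⊢
  rcases Nat.lt_or_ge q 2 with h2 | h2
  · interval_cases q <;> simp at h1
  · have h5 : 2 * 2 ≤ q ^ 2 := by rw [pow_two]; exact Nat.mul_le_mul h2 h2
    omega

/-- **`PSU_N(q)`, `N` even**: the datum of the model over any Witt frame without anisotropic part -/
theorem dtx_PSU_even [CharP F 2] {m : ℕ} (hF : Fintype.card F = q ^ 2) (hm : 0 < m) (hN : 3 ≤ N)
    (W : WFrame (PU hF N) m) (hW : W.V0 = ⊥) : ∃ nn : Fin m → PSU N F q,
      Dt (TypeC.isCartan m) (WittModel.T (KInstU.model hF hN W)) nn (WittModel.X (KInstU.model hF hN W))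
        (fun i => (i : ℕ) + 1 < m ∨ 2 < q) := by
  have : Fact (Nat.Prime 2) := ⟨Nat.prime_two⟩
  have : Finite (PSU N F q) := Quotient.finite _
  obtain ⟨p0, hp0, -⟩ := exists_adm hF W
  have hA : AmbT (toFrame W) 2 (KInstU.model hF hN W).I := AmbT.of_amb (amb_U hF W) 2
  obtain ⟨t, ht0, ht1⟩ := exists_ne (two_lt hF)
  refine dtx_model (KInstU.model hF hN W) hA hm hp0
    (TwWitt.gd_of_tr _ (TwUni.htr hF W hW) hp0) ht0 ht1 ?_
  rintro j (hj | hj) hj'
  · exact absurd hj hj'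
  · exact exists_elt hF hj

/-- **`PSU_N(q)`, `N` odd**: the datum of the model over any Witt frame with anisotropic part `⟨d⟩` -/
theorem dtx_PSU_odd [CharP F 2] {m : ℕ} (hF : Fintype.card F = q ^ 2) (hm : 0 < m) (hN : 3 ≤ N)
    (W : WFrame (PU hF N) m) {d : Fin N → F} (hd : hermForm N F q d d = 1) (hW : W.V0 = Submodule.span F {d}) :
    ∃ nn : Fin m → PSU N F q,
      Dt (TypeC.isCartan m) (WittModel.T (KInstU.model hF hN W)) nn (WittModel.X (KInstU.model hF hN W))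
        (fun i => (i : ℕ) + 1 < m ∨ 2 < q) := by
  have : Fact (Nat.Prime 2) := ⟨Nat.prime_two⟩
  have : Finite (PSU N F q) := Quotient.finite _
  obtain ⟨p0, hp0, -⟩ := exists_adm hF W
  have hA : AmbT (toFrame W) 2 (KInstU.model hF hN W).I := AmbT.of_amb (amb_U hF W) 2
  obtain ⟨t, ht0, ht1⟩ := exists_ne (two_lt hF)
  refine dtx_model (KInstU.model hF hN W) hA hm hp0
    (UOdd.gd _ ⟨d, ?_, UOdd.exists_ok hF W hW⟩) ht0 ht1 ?_
  · have h1 : (HU hF N).h d d = 1 := hd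
    rw [h1]
    exact one_ne_zero
  rintro j (hj | hj) hj'
  · exact absurd hj hj'
  · exact exists_elt hF hj

/-- **`PSU_N(q)`, `N` even** -/
theorem dt_PSU_even [CharP F 2] {m : ℕ} (hF : Fintype.card F = q ^ 2) (hm : 2 ≤ m) (hN : N = 2 * m) :
    HasDt (CoxeterMatrix.B m) (fun i => (i : ℕ) + 1 < m ∨ 2 < q) (PSU N F q) := by
  subst hN
  obtain ⟨W, hW⟩ := exists_wframe_even (N := 2 * m) hF rfl
  obtain ⟨nn, h⟩ := dtx_PSU_even hF (by omega) (by omega) W hW
  exact ⟨_, _, _, nn, _, h⟩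

/-- **`PSU_N(q)`, `N` odd** -/
theorem dt_PSU_odd [CharP F 2] {m : ℕ} (hF : Fintype.card F = q ^ 2) (hm : 1 ≤ m) (hN : N = 2 * m + 1) :
    HasDt (CoxeterMatrix.B m) (fun i => (i : ℕ) + 1 < m ∨ 2 < q) (PSU N F q) := by
  subst hN
  obtain ⟨W, d, hd, hW⟩ := exists_wframe_odd (N := 2 * m + 1) hF rfl
  obtain ⟨nn, h⟩ := dtx_PSU_odd hF (by omega) (by omega) W hd hW
  exact ⟨_, _, _, nn, _, h⟩

/-- **`PSU_N(q)`** -/
theorem dt_PSU [CharP F 2] (hF : Fintype.card F = q ^ 2) (hN : 4 ≤ N) :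
    ∃ m, 2 ≤ m ∧ (N = 2 * m ∨ N = 2 * m + 1) ∧
      HasDt (CoxeterMatrix.B m) (fun i => (i : ℕ) + 1 < m ∨ 2 < q) (PSU N F q) := by
  obtain ⟨m, hm⟩ : ∃ m, N = 2 * m ∨ N = 2 * m + 1 := ⟨N / 2, by omega⟩
  refine ⟨m, by omega, hm, ?_⟩
  rcases hm with hm | hm
  · exact dt_PSU_even hF (by omega) hm
  · exact dt_PSU_odd hF (by omega) hm

end Unitary

/-! ### Symplectic groups -/

section Symplectic

open SpIdent SpGen

/-- **`PSp_2m(q)`, `q > 2`**, with visible root groups -/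
theorem dtx_PSp {F : Type*} [Field F] [Fintype F] [CharP F 2] (hF : 2 < Fintype.card F) {m : ℕ} (hm : 1 ≤ m) :
    ∃ nn : Fin m → PSp m F, Dt (TypeC.isCartan m) (WittModel.T (KInstSp.model m F)) nn
      (WittModel.X (KInstSp.model m F)) (fun _ => True) := by
  have : Fact (Nat.Prime 2) := ⟨Nat.prime_two⟩
  have : Finite (PSp m F) := Quotient.finite _
  have hA : AmbT (frame m F) 2 (KInstSp.model m F).I := AmbT.of_amb amb_Sp 2
  obtain ⟨t, ht0, ht1⟩ := exists_ne hF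
  have hw : ∀ p : (frame m F).Adm, p.w = 0 := fun p => (Submodule.mem_bot F).1 ((frame m F).ok_mem p.ok)
  refine dtx_model (KInstSp.model m F) hA (by omega) (p0 := SpIdent.adm 1) one_ne_zero
    (TwWitt.gd_of_sp _ hw (fun _ => rfl) (fun c => ⟨SpIdent.adm c, rfl⟩) ht0 ht1) ht0 ht1 ?_
  intro j _ _
  refine ⟨t, ht0, fun h => ht1 ?_⟩
  have h1 : t * t = 1 := h
  have h5 : (t - 1) * (t - 1) = 0 := by
    have : (2 : F) = 0 := CharTwo.two_eq_zero
    linear_combination h1 + (1 - t) * this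
  exact sub_eq_zero.1 (mul_self_eq_zero.1 h5)

/-- **`PSp_2m(q)`, `q > 2`** -/
theorem dt_PSp {F : Type*} [Field F] [Fintype F] [CharP F 2] (hF : 2 < Fintype.card F) {m : ℕ} (hm : 1 ≤ m) :
    HasDt (CoxeterMatrix.B m) (fun _ => True) (PSp m F) := by
  obtain ⟨nn, h⟩ := dtx_PSp hF hm
  exact ⟨_, _, _, nn, _, h⟩

end Symplectic

end Cfsg.Agent.Omega.ML.Ex.Lie2

end

section


/-!
# The leaf `psu2` of the Lie(2) row (helper218)

`PSU₄(2)`, `PSU₅(2)`: `CommGen`, the first node is perfect, the last root group has at most two elements with `u * u = 1`.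
-/

set_option autoImplicit false
set_option linter.unusedSectionVars false

namespace Cfsg.Agent.Omega.ML.Ex.Lie2.PsuTwo

open Cfsg
open Cfsg.Agent.Nodes Cfsg.Agent.Nodes.Reps Cfsg.Agent.TitsThree Cfsg.Agent.TitsThree.KSideU

/-- the data of `PSU_{2m}(2)`, `PSU_{2m+1}(2)` -/
theorem di_PSU {F : Type*} [Field F] [Fintype F] [CharP F 2] {m N : ℕ} (hF : Fintype.card F = 2 ^ 2) (hm : 0 < m)
    (hN3 : 3 ≤ N) (hN : N = 2 * m ∨ N = 2 * m + 1) :
    HasDi (CoxeterMatrix.B m) (fun i : Fin m => (i : ℕ) + 1 < m) (fun c => ∀ i : Fin m, (i : ℕ) + 1 = m → c i < 4)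
      (PSU N F 2) := by
  rcases hN with hN | hN
  · obtain ⟨W, hW⟩ := exists_wframe_even hF hN
    obtain ⟨nn, hD⟩ := dtx_PSU_even hF hm hN3 W hW
    refine ⟨_, _, _, nn, _, { toRg := hD.toRg, comm := hD.comm, perf := fun i hi => hD.perf i (Or.inl hi) }, ?_⟩
    intro i hi
    have hi' : i = ⟨m - 1, by omega⟩ := Fin.ext (by change (i : ℕ) = m - 1; omega)
    rw [hi']
    exact lt_of_le_of_lt (SemiDat.iv_U hF hN3 hm W) (by norm_num)
  · obtain ⟨W, d, hd, hW⟩ := exists_wframe_odd hF hN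
    obtain ⟨nn, hD⟩ := dtx_PSU_odd hF hm hN3 W hd hW
    refine ⟨_, _, _, nn, _, { toRg := hD.toRg, comm := hD.comm, perf := fun i hi => hD.perf i (Or.inl hi) }, ?_⟩
    intro i hi
    have hi' : i = ⟨m - 1, by omega⟩ := Fin.ext (by change (i : ℕ) = m - 1; omega)
    rw [hi']
    exact lt_of_le_of_lt (SemiDat.iv_U hF hN3 hm W) (by norm_num)

/-- **The leaf `psu2`.** -/
theorem psu2 (F : Type) [Field F] [Fintype F] [CharP F 2] (N : ℕ) (hF : Fintype.card F = 4) (hN : N = 4 ∨ N = 5) :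
    HasDi (CoxeterMatrix.B 2) (fun i => i = 0) (fun c => c 1 < 4) (PSU N F 2) := by
  obtain ⟨Ac, h, Tor, n, Xr, hD, hP⟩ := di_PSU (F := F) (m := 2) (N := N) (by rw [hF]; norm_num) two_pos (by omega)
    (by omega)
  refine ⟨Ac, h, Tor, n, Xr, { toRg := hD.toRg, comm := hD.comm, perf := fun i hi => hD.perf i ?_ }, hP 1 rfl⟩
  rw [hi]
  decide

end Cfsg.Agent.Omega.ML.Ex.Lie2.PsuTwo

end

section


/-!
# The Lie(2) row: commutators in hexagonal systems, characteristic two, `|F| ≥ 4` (helper690)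

`R : HexRel σ x₁ … x₆`, the values in `U`, `F = C_E(σ)` of characteristic two with an element `≠ 0, 1`:

* `two` : `x₂(t) ∈ [U,U]`;  `four` : `x₄(t) ∈ [U,U]`;  `three` : `x₃(a) ∈ [U,U]`;  `five` : `x₅(a) ∈ [U,U]`.
-/

set_option autoImplicit false

namespace Cfsg.Agent.Omega.ML.Ex.Lie2.HexComm

open Cfsg.Agent.SplitTwo
open scoped commutatorElement

variable {E : Type*} [Field E] [CharP E 2] {σ : E ≃+* E} {G : Type*} [Group G] {x1 x2 x3 x4 x5 x6 : E → G}

theorem kk_mem {U : Subgroup G} {a b : G} (ha : a ∈ U) (hb : b ∈ U) : kk a b ∈ ⁅U, U⁆ := by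
  have h1 : kk a b = ⁅a⁻¹, b⁻¹⁆ := by
    rw [kk, commutatorElement_def, inv_inv, inv_inv]
  rw [h1]
  exact Subgroup.commutator_mem_commutator (inv_mem ha) (inv_mem hb)

theorem conj_mem {U : Subgroup G} {g z : G} (hg : g ∈ U) (hz : z ∈ ⁅U, U⁆) : g * z * g⁻¹ ∈ ⁅U, U⁆ := by
  have h1 : g * z * g⁻¹ = ⁅g, z⁆ * z := by rw [commutatorElement_def]; group
  rw [h1]
  exact mul_mem (Subgroup.commutator_mem_commutator hg (Subgroup.commutator_le_self _ hz)) hz

/-- the adjoint is onto -/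
theorem exists_shp [Finite E] (h3 : ∀ a, σ (σ (σ a)) = a) (c : E) : ∃ a, shp σ a = c := by
  by_cases hc : c = 0
  · exact ⟨0, by rw [shp, map_zero, map_zero, zero_mul, hc]⟩
  have hinj : Function.Injective fun x : E => x ^ 2 := fun x y hxy => by
    rcases sq_eq_sq_iff_eq_or_eq_neg.1 (show x ^ 2 = y ^ 2 from hxy) with h1 | h1
    · exact h1
    · rw [h1, CharTwo.neg_eq]
  obtain ⟨s, hs⟩ := (Finite.injective_iff_surjective.1 hinj) (nrm σ c)
  have hs' : s ^ 2 = nrm σ c := hs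
  have hfix : σ (nrm σ c) = nrm σ c := by
    rw [nrm, map_mul, map_mul, h3]
    ring
  have hσs : σ s = s := hinj (by
    change σ s ^ 2 = s ^ 2
    rw [← map_pow, hs', hfix])
  have h1 : σ c ≠ 0 := (map_ne_zero σ).2 hc
  have h2 : σ (σ c) ≠ 0 := (map_ne_zero σ).2 h1
  refine ⟨s / c, ?_⟩
  rw [shp, map_div₀, map_div₀, hσs, hσs, div_mul_div_comm, ← pow_two, hs', nrm]
  field_simp

variable (R : HexRel σ x1 x2 x3 x4 x5 x6) {U : Subgroup G}
include R

theorem two (h1 : ∀ a, x1 a ∈ U) (h3 : ∀ a, x3 a ∈ U) {t : E} (ht : σ t = t) : x2 t ∈ ⁅U, U⁆ := by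
  have h : trc σ t 1 = t := by
    rw [trc, mul_one, ht, ht]
    have h2 := CharTwo.add_self_eq_zero t
    rw [h2, zero_add]
  rw [← h, ← R.c13]
  exact kk_mem (h1 _) (h3 _)

theorem four (h1 : ∀ a, x1 a ∈ U) (h3 : ∀ a, x3 a ∈ U) (h6 : ∀ t, σ t = t → x6 t ∈ U) {t : E} (ht : σ t = t) :
    x4 t ∈ ⁅U, U⁆ := by
  have h := R.c26 t 1 ht (map_one σ)
  rw [mul_one] at h
  rw [← h]
  exact kk_mem (Subgroup.commutator_le_self _ (two R h1 h3 ht)) (h6 1 (map_one σ))

theorem three [Finite E] (h1 : ∀ a, x1 a ∈ U) (h3 : ∀ a, x3 a ∈ U) (h6 : ∀ t, σ t = t → x6 t ∈ U) {l : E}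
    (hl : σ l = l) (hl0 : l ≠ 0) (hl1 : l ≠ 1) (c : E) : x3 c ∈ ⁅U, U⁆ := by
  obtain ⟨a, ha⟩ := exists_shp R.cube c
  -- `t = 1 / (l - 1)`
  have hd : l - 1 ≠ 0 := sub_ne_zero.2 hl1
  obtain ⟨t, ht⟩ : ∃ t, t = (l - 1)⁻¹ := ⟨_, rfl⟩
  have htσ : σ t = t := by rw [ht, map_inv₀, map_sub, map_one, hl]
  have htl : σ (t / l) = t / l := by rw [map_div₀, htσ, hl]
  have hn : σ (nrm σ a) = nrm σ a := by
    rw [nrm, map_mul, map_mul, R.cube]
    ring
  have hn' : σ (nrm σ (l * a)) = nrm σ (l * a) := by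
    rw [nrm, map_mul, map_mul, R.cube]
    ring
  have f2 : ∀ s, σ s = s → x2 s ∈ ⁅U, U⁆ := fun s hs => two R h1 h3 hs
  have f4 : ∀ s, σ s = s → x4 s ∈ ⁅U, U⁆ := fun s hs => four R h1 h3 h6 hs
  have e1 := R.c16 a t htσ
  have e2 := R.c16 (l * a) (t / l) htl
  have s2 : shp σ (l * a) = l ^ 2 * shp σ a := by
    rw [shp, shp, map_mul, map_mul, hl, hl]
    ring
  have e5 : t / l * (l * a) = t * a := by field_simp
  rw [s2, e5] at e2
  have k1 : kk (x1 a) (x6 t) ∈ ⁅U, U⁆ := kk_mem (h1 _) (h6 _ htσ)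
  have k2 : kk (x1 (l * a)) (x6 (t / l)) ∈ ⁅U, U⁆ := kk_mem (h1 _) (h6 _ htl)
  rw [e1] at k1
  rw [e2] at k2
  have m2 := f2 (-(t * nrm σ a)) (by rw [map_neg, map_mul, htσ, hn])
  have m2' := f2 (-(t / l * nrm σ (l * a))) (by rw [map_neg, map_mul, htl, hn'])
  have m4 := f4 (t ^ 2 * nrm σ a) (by rw [map_mul, map_pow, htσ, hn])
  have m4' := f4 ((t / l) ^ 2 * nrm σ (l * a)) (by rw [map_mul, map_pow, htl, hn'])
  -- generic: `p a b c ∈ D`, `p' a' b' c ∈ D` with `p, p', b, b' ∈ D` gives `a' a⁻¹ ∈ D`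
  have key : ∀ p p' u u' b b' v : G, p ∈ ⁅U, U⁆ → p' ∈ ⁅U, U⁆ → b ∈ ⁅U, U⁆ → b' ∈ ⁅U, U⁆ → u ∈ U → u' ∈ U →
      p * u * b * v ∈ ⁅U, U⁆ → p' * u' * b' * v ∈ ⁅U, U⁆ → u' * u⁻¹ ∈ ⁅U, U⁆ := by
    intro p p' u u' b b' v hp hp' hb hb' hu hu' h h'
    have c1 : u * b * v ∈ ⁅U, U⁆ := by
      have := mul_mem (inv_mem hp) h
      simpa [mul_assoc] using this
    have c2 : u' * b' * v ∈ ⁅U, U⁆ := by
      have := mul_mem (inv_mem hp') h'
      simpa [mul_assoc] using this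
    have c3 : u' * (b' * b⁻¹) * u⁻¹ ∈ ⁅U, U⁆ := by
      have h5 : u' * (b' * b⁻¹) * u⁻¹ = (u' * b' * v) * (u * b * v)⁻¹ := by group
      rw [h5]
      exact mul_mem c2 (inv_mem c1)
    have c4 : u' * (b' * b⁻¹) * u'⁻¹ ∈ ⁅U, U⁆ := conj_mem hu' (mul_mem hb' (inv_mem hb))
    have h6 : u' * u⁻¹ = (u' * (b' * b⁻¹) * u'⁻¹)⁻¹ * (u' * (b' * b⁻¹) * u⁻¹) := by group
    rw [h6]
    exact mul_mem (inv_mem c4) c3
  have hfin := key _ _ _ _ _ _ _ m2 m2' m4 m4' (h3 _) (h3 _) k1 k2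
  have e3 : x3 (t / l * (l ^ 2 * shp σ a)) * (x3 (t * shp σ a))⁻¹ = x3 c := by
    rw [mul_inv_eq_iff_eq_mul, ← R.add3]
    congr 1
    rw [ha, ht]
    field_simp
    ring
  rwa [e3] at hfin

theorem five [Finite E] (h1 : ∀ a, x1 a ∈ U) (h3 : ∀ a, x3 a ∈ U) (h6 : ∀ t, σ t = t → x6 t ∈ U) {l : E}
    (hl : σ l = l) (hl0 : l ≠ 0) (hl1 : l ≠ 1) (c : E) : x5 c ∈ ⁅U, U⁆ := by
  have hn : σ (nrm σ (-c)) = nrm σ (-c) := by
    rw [nrm, map_mul, map_mul, R.cube]
    ring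
  have e1 := R.c16 (-c) 1 (map_one σ)
  have k1 : kk (x1 (-c)) (x6 1) ∈ ⁅U, U⁆ := kk_mem (h1 _) (h6 _ (map_one σ))
  rw [e1, one_mul, one_mul, one_mul, one_pow, one_mul, neg_neg] at k1
  have m2 := two R h1 h3 (t := -(nrm σ (-c))) (by rw [map_neg, hn])
  have m3 := three R h1 h3 h6 hl hl0 hl1 (shp σ (-c))
  have m4 := four R h1 h3 h6 (t := nrm σ (-c)) hn
  have m := mul_mem (inv_mem (mul_mem (mul_mem m2 m3) m4)) k1
  rwa [inv_mul_cancel_left] at m

end Cfsg.Agent.Omega.ML.Ex.Lie2.HexComm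

end

end

-- merged: Cfsg.Agent.Mrg.Omega.ML.Ex.Lie2.DataG
section

section


/-!
# The Lie(2) row of the W-part: the data of `G₂(q)` and `³D₄(q)` (cut #23457 (4); helper833)

* `le_comm_of_tr` : `X_i ≤ [L_i, L_i]` for the nodes of type `TrNode`; `le_comm_node` : `|X_i| ≥ 4`, `X_i` of exponent two;
* `G2.commGen`, `G2.node`, **`dt_G2`** : `G₂(q)`, `q ≥ 4`;
* `D4.commGen`, `D4.node0`, `D4.node1`, **`dt_D4`** : `³D₄(q)`, `q ≥ 4`; `dt_D4'` : `³D₄(q)`, `q` even, the node over `F_{q³}`.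
-/

set_option autoImplicit false
set_option linter.unusedSectionVars false

namespace Cfsg.Agent.Omega.ML.Ex.Lie2.DataG

open CoxeterSystem Cfsg.Agent.ChevalleyStructure.CoxeterGeom Cfsg.Agent.Tits.Roots Cfsg.Agent.Tits.Core
  Cfsg.Agent.Tits.RootComb Cfsg.Agent.Nodes.Comb Cfsg.Agent.Nodes.Reps Cfsg.Agent.Nodes.BNOf Cfsg.Agent.Nodes.BNOf.RGD
  Cfsg.Agent.Nodes.FreeTorus Cfsg.Agent.Omega.Lie.End.KTorus
open Cfsg.Lie Cfsg.Agent.ChevalleyStructure
open Cfsg.Agent.Omega.EH3.Kf Cfsg.Agent.Omega.EH3.Kf.Lev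
open scoped commutatorElement

universe u v

section node

variable {I W Y : Type*} [Fintype I] [DecidableEq I] [Group W] [Group Y] {M : CoxeterMatrix I}
  {cs : CoxeterSystem M W} {A : I → I → ℤ} {h : IsCartan M A} {T : Subgroup Y} {n : I → Y}
  {X : (I → ℤ) → Subgroup Y}

/-- a node with a transitive torus -/
theorem le_comm_of_tr {i : I} (hN : TrNode T n X i) : X (sr i) ≤ ⁅Li X i, Li X i⁆ := by
  intro x hx
  by_cases hx1 : x = 1
  · rw [hx1]; exact one_mem _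
  obtain ⟨y, hy, hy1, hyx⟩ : ∃ y ∈ X (sr i), y ≠ 1 ∧ y ≠ x := by
    obtain ⟨a, ha, b, hb, ha1, hb1, hab⟩ := hN.two
    by_cases hax : a = x
    · exact ⟨b, hb, hb1, fun h1 => hab (hax.trans h1.symm)⟩
    · exact ⟨a, ha, ha1, hax⟩
  have hxy : x * y ≠ 1 := by
    intro h1
    apply hyx
    have h2 := hN.sq y hy
    exact (mul_right_cancel (h1.trans h2.symm)).symm
  obtain ⟨t, ht, e⟩ := hN.tr y hy (x * y) (mul_mem hx hy) hy1 hxy
  have h1 : ⁅t, y⁆ = x := by
    rw [commutatorElement_def, e, mul_inv_cancel_right]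
  rw [← h1]
  exact Subgroup.commutator_mem_commutator ht.2.1 (le_sup_left (a := X (sr i)) hy)

/-- a node with at least four elements, of exponent two -/
theorem le_comm_node [Finite W] [Finite Y] (R : RGD cs h 2 T n X) (hTc : ∀ s ∈ T, ∀ t ∈ T, s * t = t * s) {i : I}
    (h4 : 4 ≤ Nat.card (X (sr i))) (hsq : ∀ x ∈ X (sr i), x * x = 1) : X (sr i) ≤ ⁅Li X i, Li X i⁆ :=
  le_comm_of_tr (Cfsg.Agent.Omega.Lie.End.KTrFree.trNode R hTc h4 hsq)

end node

/-! ### `G₂(q)` -/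

namespace G2

variable {K : Type v} [Field K] [CharP K 2]

theorem commGen (hK : ∃ t : K, t ≠ 0 ∧ t ≠ 1) :
    CommGen CoxeterMatrix.G₂.toCoxeterSystem FamG2.isType.isCartan (FamG2.X K) := by
  intro x hx h0 hs
  obtain ⟨r, hr, rfl⟩ := (Nodes.RGDChev.isRoot_iff FamG2.isType _ _).1 hx
  have h1 := FamG2.pos_tab r hr (fun k => h0 k)
  have h2 : r = 8 ∨ r = 9 ∨ r = 10 ∨ r = 11 := by
    rcases h1 with rfl | rfl | h1
    · exact absurd FamG2.vec6 (hs 1)
    · exact absurd FamG2.vec7 (hs 0)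
    · exact h1
  intro g hg
  obtain ⟨t, rfl⟩ := FamG2.mem_X hr hg
  exact FamG2.mem_comm hK h2 t

theorem card_X [Finite K] {r : ℕ} (hr : r < 12) : Nat.card (FamG2.X K (Nodes.RGDChev.vec chevG2 2 r)) = Nat.card K := by
  refine (Nat.card_congr (Equiv.ofBijective (fun t : K => (⟨FamG2.e K r t, FamG2.e_mem hr t⟩ :
    FamG2.X K (Nodes.RGDChev.vec chevG2 2 r))) ⟨fun a b hab => ?_, fun g => ?_⟩)).symm
  · have h1 : FamG2.e K r a = FamG2.e K r b := congrArg Subtype.val hab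
    by_contra hne
    have h2 : FamG2.e K r (a - b) ≠ 1 := FamG2.e_ne hr (sub_ne_zero.2 hne)
    apply h2
    have h3 := FamG2.e_add (K := K) r (a - b) b
    rw [sub_add_cancel, h1] at h3
    exact mul_eq_right.1 h3
  · obtain ⟨t, ht⟩ := FamG2.mem_X hr g.2
    exact ⟨t, Subtype.ext ht.symm⟩

theorem node [Finite K] (h4 : 4 ≤ Nat.card K) (i : Fin 2) :
    FamG2.X K (sr i) ≤ ⁅Li (FamG2.X K) i, Li (FamG2.X K) i⁆ := by
  have b := FamChev.bd FamG2.isType (K := K)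
  have := b.fin
  refine le_comm_node b.rgd b.ab ?_ (b.el i)
  have h1 : ∃ r < 12, Nodes.RGDChev.vec chevG2 2 r = sr i := by
    fin_cases i
    · exact ⟨7, by norm_num, FamG2.vec7⟩
    · exact ⟨6, by norm_num, FamG2.vec6⟩
  obtain ⟨r, hr, e⟩ := h1
  change 4 ≤ Nat.card (FamG2.X K (sr i))
  rw [← e, card_X hr]
  exact h4

end G2

/-! ### `³D₄(q)` -/

namespace D4

open Cfsg.Agent.Nodes Cfsg.Agent.Nodes.RGDTwD4 Cfsg.Agent.Hexagon Cfsg.Agent.Nodes.RGDFold
open Cfsg.Agent.SplitTwo (HexPar HexRel)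

variable {K : Type v} [Field K] [Fintype K] [CharP K 2] {q : ℕ} {φ : K →+* K}

theorem cube (hK : Fintype.card K = q ^ 3) (hφ : ∀ x, φ x = x ^ q) {σ : K ≃+* K} (hσ : ∀ x, σ x = φ x) (a : K) :
    σ (σ (σ a)) = a := by
  rw [hσ, hσ, hσ, hφ, hφ, hφ, ← pow_mul, ← pow_mul]
  have : q * (q * q) = q ^ 3 := by ring
  rw [this, ← hK]
  exact FiniteField.pow_card a

theorem commGen (hK : Fintype.card K = q ^ 3) (hφ : ∀ x, φ x = x ^ q) :
    CommGen CoxeterMatrix.G₂.toCoxeterSystem RGDTwD4.isCartan (RGDTwD4.X φ q) := by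
  let σ : K ≃+* K := RingEquiv.ofBijective φ ((Finite.injective_iff_bijective).1 φ.injective)
  have hσ : ∀ x, σ x = φ x := fun x => rfl
  have h3 := cube hK hφ hσ
  have hle := D4Fixed.twisted_le_fix hK hφ
  have P := TwD4Par.hexPar hφ hle hσ h3
  let cs := CoxeterMatrix.G₂.toCoxeterSystem
  have hlt : ∀ r : ℕ, r < 24 → r < chevD4.nroots := fun r hr => hr
  have hle' : ∀ {z : Fin 2 → ℤ}, z ∈ RGD.Pos cs RGDTwD4.isCartan →
      RGDTwD4.X φ q z ≤ RGD.Sup (RGDTwD4.X φ q) (RGD.Pos cs RGDTwD4.isCartan) := fun hz => RGD.le_Sup hz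
  have p0 : (sr 0 : Fin 2 → ℤ) ∈ RGD.Pos cs RGDTwD4.isCartan := ⟨isRoot_sr cs _ 0, sr_nonneg 0⟩
  have p1 : (sr 1 : Fin 2 → ℤ) ∈ RGD.Pos cs RGDTwD4.isCartan := ⟨isRoot_sr cs _ 1, sr_nonneg 1⟩
  have p5 : V chevD4 J 19 ∈ RGD.Pos cs RGDTwD4.isCartan :=
    ⟨FamD4.isRoot_V cs (hlt 19 (by norm_num)), fun k => (FamD4.pos_tab k).1.le⟩
  have p3 : V chevD4 J 20 ∈ RGD.Pos cs RGDTwD4.isCartan :=
    ⟨FamD4.isRoot_V cs (hlt 20 (by norm_num)), fun k => (FamD4.pos_tab k).2.1.le⟩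
  obtain ⟨B, hB⟩ := FamD4.exists_moved hK hφ
  obtain ⟨g2, g3, g4, g5⟩ := FamD4.hexGen P.rel (U := RGD.Sup (RGDTwD4.X φ q) (RGD.Pos cs RGDTwD4.isCartan))
    (fun a => hle' p1 (by rw [FamD4.X_sr1 hle, P.mem1]; exact ⟨a, rfl⟩))
    (fun a => hle' p3 (by rw [FamD4.X_20 hle, P.mem3]; exact ⟨a, rfl⟩))
    (fun a => hle' p5 (by rw [FamD4.X_19 hle, P.mem5]; exact ⟨a, rfl⟩))
    (fun t ht => hle' p0 (by rw [FamD4.X_sr0 hle, P.mem6]; exact ⟨t, ht, rfl⟩)) ⟨B, hB⟩
  intro z hz h0 hs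
  rcases FamD4.pos_cases cs hz h0 hs with rfl | rfl | rfl | rfl
  · rw [FamD4.X_19 hle]
    intro g hg
    obtain ⟨a, rfl⟩ := (P.mem5 g).1 hg
    exact g5 a
  · rw [FamD4.X_20 hle]
    intro g hg
    obtain ⟨a, rfl⟩ := (P.mem3 g).1 hg
    exact g3 a
  · rw [FamD4.X_22 hle]
    intro g hg
    obtain ⟨t, ht, rfl⟩ := (P.mem2 g).1 hg
    exact g2 t ht
  · rw [FamD4.X_23 hle]
    intro g hg
    obtain ⟨t, ht, rfl⟩ := (P.mem4 g).1 hg
    exact g4 t ht

/-- the orders of the simple root groups -/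
theorem card_X1 (hK : Fintype.card K = q ^ 3) (hφ : ∀ x, φ x = x ^ q) :
    Nat.card (RGDTwD4.X φ q (sr 1)) = q ^ 3 := by
  let σ : K ≃+* K := RingEquiv.ofBijective φ ((Finite.injective_iff_bijective).1 φ.injective)
  have hσ : ∀ x, σ x = φ x := fun x => rfl
  have h3 := cube hK hφ hσ
  have hle := D4Fixed.twisted_le_fix hK hφ
  have P := TwD4Par.hexPar hφ hle hσ h3
  rw [FamD4.X_sr1 hle, ← hK, ← Nat.card_eq_fintype_card]
  refine (Nat.card_congr (Equiv.ofBijective (fun t : K => (⟨_, (P.mem1 _).2 ⟨t, rfl⟩⟩ :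
    TwD4RGD.X K q 1)) ⟨fun a b hab => ?_, fun g => ?_⟩)).symm
  · exact P.inj1 _ _ (congrArg Subtype.val hab)
  · obtain ⟨t, ht⟩ := (P.mem1 _).1 g.2
    exact ⟨t, Subtype.ext ht⟩

/-- the node over the field of `q³` elements -/
theorem node1 (hq : 2 ≤ q) (hK : Fintype.card K = q ^ 3) (hφ : ∀ x, φ x = x ^ q) :
    RGDTwD4.X φ q (sr 1) ≤ ⁅Li (RGDTwD4.X φ q) 1, Li (RGDTwD4.X φ q) 1⁆ := by
  let σ : K ≃+* K := RingEquiv.ofBijective φ ((Finite.injective_iff_bijective).1 φ.injective)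
  have hσ : ∀ x, σ x = φ x := fun x => rfl
  have h3 := cube hK hφ hσ
  have b := FamD4.bd hK hφ hσ h3
  have := b.fin
  refine le_comm_node b.rgd b.ab ?_ (b.el 1)
  rw [card_X1 hK hφ]
  have := Nat.pow_le_pow_left hq 3
  omega

/-- the node over the field of `q` elements -/
theorem node0 (hq : 4 ≤ q) (hK : Fintype.card K = q ^ 3) (hφ : ∀ x, φ x = x ^ q) :
    RGDTwD4.X φ q (sr 0) ≤ ⁅Li (RGDTwD4.X φ q) 0, Li (RGDTwD4.X φ q) 0⁆ := by
  let σ : K ≃+* K := RingEquiv.ofBijective φ ((Finite.injective_iff_bijective).1 φ.injective)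
  have hσ : ∀ x, σ x = φ x := fun x => rfl
  have h3 := cube hK hφ hσ
  have hle := D4Fixed.twisted_le_fix hK hφ
  have P := TwD4Par.hexPar hφ hle hσ h3
  have b := FamD4.bd hK hφ hσ h3
  have := b.fin
  refine le_comm_node b.rgd b.ab ?_ (b.el 0)
  rw [FamD4.X_sr0 hle]
  have hc := D4H1.card_fixed (by omega : 1 < q) hK hφ
  have hfin : Finite {b : Kˣ // φ b = b} := inferInstance
  have hfin2 : Finite (TwD4RGD.X K q 6) := inferInstance
  let f : Option {b : Kˣ // φ b = b} → TwD4RGD.X K q 6 := fun o =>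
    match o with
    | none => ⟨_, (P.mem6 _).2 ⟨0, map_zero σ, rfl⟩⟩
    | some b => ⟨_, (P.mem6 _).2 ⟨(b.1 : K), b.2, rfl⟩⟩
  have hf : Function.Injective f := by
    intro x y hxy
    have h1 := congrArg Subtype.val hxy
    match x, y with
    | none, none => rfl
    | none, some b => exact absurd (P.inj6 _ _ (map_zero σ) b.2 h1) b.1.ne_zero.symm
    | some b, none => exact absurd (P.inj6 _ _ b.2 (map_zero σ) h1) b.1.ne_zero
    | some b, some c =>
      have h2 := P.inj6 _ _ b.2 c.2 h1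
      exact congrArg some (Subtype.ext (Units.ext h2))
  have h1 := Nat.card_le_card_of_injective f hf
  rw [Finite.card_option, hc] at h1
  omega

end D4

/-- **`G₂(q)`, `q ≥ 4` even.** -/
theorem dt_G2 {F : Type v} [Field F] [Finite F] [CharP F 2] (h4 : 4 ≤ Nat.card F) :
    HasDt CoxeterMatrix.G₂ (fun _ => True) ↥(chevG2.group F) := by
  have b := FamChev.bd FamG2.isType (K := F)
  have ht : ∃ t : F, t ≠ 0 ∧ t ≠ 1 := by
    have := Fintype.ofFinite F
    rw [Nat.card_eq_fintype_card] at h4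
    exact FamG2.exists_ne_of_card (by omega)
  exact ⟨_, _, _, _, _,
    { fin := b.fin
      rgd := b.rgd
      gen := b.gen
      comm := G2.commGen ht
      perf := fun i _ => G2.node h4 i }⟩

/-- **`³D₄(q)`, `q ≥ 4` even.** -/
theorem dt_D4 {K : Type v} [Field K] [Fintype K] [CharP K 2] {q : ℕ} (hq : IsPrimePow q)
    (hK : Fintype.card K = q ^ 3) (h4 : 4 ≤ q) : HasDt CoxeterMatrix.G₂ (fun _ => True) ↥(twistedD4 K q) := by
  obtain ⟨φ, hφ⟩ := D4Fixed.exists_frob hq hK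
  let σ : K ≃+* K := RingEquiv.ofBijective φ ((Finite.injective_iff_bijective).1 φ.injective)
  have hσ : ∀ x, σ x = φ x := fun x => rfl
  have b := FamD4.bd hK hφ hσ (D4.cube hK hφ hσ)
  refine ⟨_, _, _, _, _,
    { fin := b.fin
      rgd := b.rgd
      gen := b.gen
      comm := D4.commGen hK hφ
      perf := fun i _ => ?_ }⟩
  fin_cases i
  · exact D4.node0 h4 hK hφ
  · exact D4.node1 (by omega) hK hφ

/-- `³D₄(q)`, `q` even: the node over the field of `q³` elements is perfect. -/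
theorem dt_D4' {K : Type v} [Field K] [Fintype K] [CharP K 2] {q : ℕ} (hq : IsPrimePow q)
    (hK : Fintype.card K = q ^ 3) : HasDt CoxeterMatrix.G₂ (fun i => i = 1) ↥(twistedD4 K q) := by
  obtain ⟨φ, hφ⟩ := D4Fixed.exists_frob hq hK
  let σ : K ≃+* K := RingEquiv.ofBijective φ ((Finite.injective_iff_bijective).1 φ.injective)
  have hσ : ∀ x, σ x = φ x := fun x => rfl
  have b := FamD4.bd hK hφ hσ (D4.cube hK hφ hσ)
  refine ⟨_, _, _, _, _,
    { fin := b.fin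
      rgd := b.rgd
      gen := b.gen
      comm := D4.commGen hK hφ
      perf := fun i hi => ?_ }⟩
  subst hi
  exact D4.node1 hq.one_lt hK hφ

end Cfsg.Agent.Omega.ML.Ex.Lie2.DataG

end

section


/-!
# Perfect rank one subgroups of a Witt model, characteristic two (helper209; C4, #23457 (4))

`M : Model Fr K`, `x` a signed index, `LZ = ⟨Z_x, Z_{-x}⟩`, `LX = ⟨X_{x,y}, X_{-x,-y}⟩`.

* `perf_Z` : `Z_x ≤ ⁅LZ, LZ⁆` if there are a central admissible pair `(0, c₀)`, `c₀ ≠ 0`, and `a ≠ 0` with `a σ(a) ≠ 1`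
  (symplectic and unitary groups over `𝔽_q`, `q ≥ 4`; the root group may be non-abelian);
* `perf_X` : `X_{x,y} ≤ ⁅LX, LX⁆` if there is `t ≠ 0, 1` in `F`;
* `perf_last`, `perf_ne` : the same for the simple nodes of `Nodes.WittModel.X M`.
-/

set_option autoImplicit false
set_option linter.unusedVariables false
set_option linter.unusedSectionVars false

namespace Cfsg.Agent.Omega.ML.Ex.Lie2.PerfU

open CoxeterSystem Cfsg.Agent.ChevalleyStructure.CoxeterGeom Cfsg.Agent.Tits.Roots Cfsg.Agent.Nodes.TypeC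
open Cfsg.Agent.Nodes.Comb Cfsg.Agent.Nodes.Reps Cfsg.Agent.Nodes.WittRoot Cfsg.Agent.Nodes.BNOf
open Cfsg.Agent.Nodes.RGDLib Cfsg.Agent.Nodes.WittAll
open Cfsg.Agent.TitsThree Cfsg.Agent.TitsThree.Siegel Cfsg.Agent.TitsThree.WittFrame
  Cfsg.Agent.TitsThree.WittWeyl Cfsg.Agent.TitsThree.FrameCN
open Cfsg.Agent.Omega.EH3.Kf.TwC Cfsg.Agent.Omega.EH3.Kf.TwWitt
open scoped commutatorElement

variable {F : Type*} [Field F] {V : Type*} [AddCommGroup V] [Module F V] {H : HForm F V} {n : ℕ}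
  {Fr : Frame H (Fin n)} {K : Type*} [Group K] (M : Model Fr K)

/-! ### Weyl elements in `K` -/

/-- the Weyl element of type II -/
def kZ (x : Fin n × Bool) (p : Fr.Adm) : K :=
  M.Z x p * M.Z (neg x) (Frame.Adm.smul (-(Fr.η x * (H.σ p.c)⁻¹)) p) *
    M.Z x (Frame.Adm.smul (H.ε * p.c * (H.σ p.c)⁻¹) p)

/-- the Weyl element of type I -/
theorem kZ_eq (x : Fin n × Bool) (p : Fr.Adm) (h : nZ Fr x p ∈ M.I) : kZ M x p = M.φ ⟨nZ Fr x p, h⟩ := by
  unfold kZ Model.Z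
  rw [← map_mul, ← map_mul]
  rfl

theorem nZ_mem_I (x : Fin n × Bool) (p : Fr.Adm) : nZ Fr x p ∈ M.I :=
  mul_mem (mul_mem (M.hZ _ _) (M.hZ _ _)) (M.hZ _ _)

theorem kZ_conj (x : Fin n × Bool) (p : Fr.Adm) (hc : p.c ≠ 0) (q : Fr.Adm) :
    kZ M x p * M.Z x q * (kZ M x p)⁻¹ =
      M.Z (neg x) (Frame.Adm.smul (H.ε⁻¹ * Fr.η x * p.c⁻¹) (refl Fr p hc q)) := by
  rw [kZ_eq M x p (nZ_mem_I M x p)]
  unfold Model.Z
  rw [← map_mul, ← map_inv, ← map_mul]
  exact congrArg M.φ (Subtype.ext (nZ_conj_Z Fr x p hc q))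

/-- reflections at central pairs are trivial -/
theorem refl_of_w {p : Fr.Adm} (hw : p.w = 0) (hc : p.c ≠ 0) (q : Fr.Adm) : refl Fr p hc q = q := by
  apply Frame.Adm.ext
  · rw [refl_w, hw, smul_zero, add_zero]
  · rw [refl_c]

/-- the torus element `h(p, q)` -/
theorem tor_conj {x : Fin n × Bool} {p p' : Fr.Adm} (hw : p.w = 0) (hc : p.c ≠ 0) (hw' : p'.w = 0) (hc' : p'.c ≠ 0)
    (q : Fr.Adm) : (kZ M (neg x) p' * kZ M x p) * M.Z x q * (kZ M (neg x) p' * kZ M x p)⁻¹ =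
      M.Z x (Frame.Adm.smul (H.ε⁻¹ * (p.c * p'.c)⁻¹) q) := by
  have h1 : (kZ M (neg x) p' * kZ M x p) * M.Z x q * (kZ M (neg x) p' * kZ M x p)⁻¹ =
      kZ M (neg x) p' * (kZ M x p * M.Z x q * (kZ M x p)⁻¹) * (kZ M (neg x) p')⁻¹ := by group
  rw [h1, kZ_conj M x p hc, refl_of_w hw, kZ_conj M (neg x) p' hc', refl_of_w hw', WittFrame.neg_neg,
    Frame.Adm.smul_smul]
  congr 2
  have h2 := Fr.η_neg x
  have h3 := H.ε_ne
  have h4 := Fr.η_ne x
  have e1 : Fr.η (neg x) = H.ε * (Fr.η x)⁻¹ := by rw [← h2]; field_simp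
  rw [e1, mul_inv]
  field_simp

section Z

variable {x : Fin n × Bool} {y y' : Fin n → ℤ} (ey : ee y = wt x + wt x) (ey' : ee y' = wt (neg x) + wt (neg x))

include ey ey' in
theorem kZ_mem {L : Subgroup K} (h1 : Nodes.WittModel.X M y ≤ L) (h2 : Nodes.WittModel.X M y' ≤ L) (p : Fr.Adm) :
    kZ M x p ∈ L :=
  mul_mem (mul_mem (h1 (Z_mem M ey _)) (h2 (Z_mem M ey' _))) (h1 (Z_mem M ey _))

include ey ey' in
theorem kZ_mem' {L : Subgroup K} (h1 : Nodes.WittModel.X M y ≤ L) (h2 : Nodes.WittModel.X M y' ≤ L) (p : Fr.Adm) :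
    kZ M (neg x) p ∈ L := by
  refine kZ_mem M (x := neg x) (y := y') (y' := y) ey' ?_ h2 h1 p
  rw [WittFrame.neg_neg]
  exact ey

include ey ey' in
/-- **The nodes of type `Z`.** -/
theorem perf_Z (h2 : (2 : F) = 0) {p0 : Fr.Adm} (hw : p0.w = 0) (hc : p0.c ≠ 0) {a : F} (ha0 : a ≠ 0)
    (ha : a * H.σ a ≠ 1) :
    Nodes.WittModel.X M y ≤ ⁅Nodes.WittModel.X M y ⊔ Nodes.WittModel.X M y',
      Nodes.WittModel.X M y ⊔ Nodes.WittModel.X M y'⁆ := by
  set L : Subgroup K := Nodes.WittModel.X M y ⊔ Nodes.WittModel.X M y' with hL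
  have hσa : H.σ a ≠ 0 := by simpa using ha0
  have hl0 : a * H.σ a ≠ 0 := mul_ne_zero ha0 hσa
  -- the torus element
  have hc1 : (Frame.Adm.smul a p0).c ≠ 0 := by
    rw [Frame.Adm.smul_c]
    exact mul_ne_zero hl0 hc
  have hw1 : (Frame.Adm.smul a p0).w = 0 := by rw [Frame.Adm.smul_w, hw, smul_zero]
  obtain ⟨g, hg⟩ : ∃ g, g = kZ M (neg x) p0 * kZ M x (Frame.Adm.smul a p0) := ⟨_, rfl⟩
  obtain ⟨g0, hg0⟩ : ∃ g, g = kZ M (neg x) p0 * kZ M x p0 := ⟨_, rfl⟩
  have hgL : g ∈ L := by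
    rw [hg]
    exact mul_mem (kZ_mem' M ey ey' le_sup_left le_sup_right _) (kZ_mem M ey ey' le_sup_left le_sup_right _)
  have hg0L : g0 ∈ L := by
    rw [hg0]
    exact mul_mem (kZ_mem' M ey ey' le_sup_left le_sup_right _) (kZ_mem M ey ey' le_sup_left le_sup_right _)
  have e1 : ∀ q, g * M.Z x q * g⁻¹ = M.Z x (Frame.Adm.smul (H.ε⁻¹ * ((Frame.Adm.smul a p0).c * p0.c)⁻¹) q) := by
    intro q
    rw [hg]
    exact tor_conj M hw1 hc1 hw hc q
  have e0 : ∀ q, g0 * M.Z x q * g0⁻¹ = M.Z x (Frame.Adm.smul (H.ε⁻¹ * (p0.c * p0.c)⁻¹) q) := by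
    intro q
    rw [hg0]
    exact tor_conj M hw hc hw hc q
  set u : F := a * H.σ a with hu
  have hσu : H.σ u = u := by rw [hu, map_mul, H.σσ, mul_comm]
  have key : ∀ q, (g⁻¹ * g0) * M.Z x q * (g⁻¹ * g0)⁻¹ = M.Z x (Frame.Adm.smul u q) := by
    intro q
    have h3 : (g⁻¹ * g0) * M.Z x q * (g⁻¹ * g0)⁻¹ = g⁻¹ * (g0 * M.Z x q * g0⁻¹) * g := by group
    have h4 : g * M.Z x (Frame.Adm.smul u q) * g⁻¹ = g0 * M.Z x q * g0⁻¹ := by
      rw [e1, e0, Frame.Adm.smul_smul]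
      congr 2
      rw [Frame.Adm.smul_c, ← hu]
      have := H.ε_ne
      field_simp
    rw [h3, ← h4]; group
  have hkL : g⁻¹ * g0 ∈ L := mul_mem (inv_mem hgL) hg0L
  -- commutators
  have hcom : ∀ q, M.Z x (Frame.Adm.smul u q * q⁻¹) ∈ ⁅L, L⁆ := by
    intro q
    have h3 : M.Z x (Frame.Adm.smul u q * q⁻¹) = ⁅g⁻¹ * g0, M.Z x q⁆ := by
      rw [commutatorElement_def, key, Z_mul]
      congr 1
      refine eq_inv_of_mul_eq_one_left ?_
      rw [← Z_mul, inv_mul_cancel, Z_one]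
    rw [h3]
    exact Subgroup.commutator_mem_commutator hkL ((le_sup_left : _ ≤ L) (Z_mem M ey q))
  have hu1 : u - 1 ≠ 0 := sub_ne_zero.2 ha
  set s : F := (u - 1)⁻¹ with hs
  have hσs : H.σ s = s := by rw [hs, map_inv₀, map_sub, hσu, map_one]
  intro k hk
  obtain ⟨p, rfl⟩ := (mem_ZK M ey).1 hk
  obtain ⟨r, hr⟩ : ∃ r, r = (Frame.Adm.smul u (Frame.Adm.smul s p) * (Frame.Adm.smul s p)⁻¹)⁻¹ * p := ⟨_, rfl⟩
  have hrw : r.w = 0 := by
    rw [hr]
    simp only [Frame.Adm.mul_w, Frame.Adm.inv_w, Frame.Adm.smul_w]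
    have : u • s • p.w + -(s • p.w) = p.w := by
      have h5 : u • s • p.w + -(s • p.w) = ((u - 1) * s) • p.w := by module
      rw [h5, hs, mul_inv_cancel₀ hu1, _root_.one_smul]
    rw [this]
    exact neg_add_cancel _
  have hr2 : Frame.Adm.smul u (Frame.Adm.smul s r) * (Frame.Adm.smul s r)⁻¹ = r := by
    apply Frame.Adm.ext
    · simp only [Frame.Adm.mul_w, Frame.Adm.inv_w, Frame.Adm.smul_w, hrw, smul_zero, neg_zero, add_zero]
    · simp only [Frame.Adm.mul_c, Frame.Adm.inv_c, Frame.Adm.smul_c, Frame.Adm.inv_w, Frame.Adm.smul_w, hrw, smul_zero,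
        H.zero_left, neg_zero, mul_zero, sub_zero, hσu, hσs]
      have h6 : u * u * (s * s * r.c) + -(s * s * r.c) = ((u - 1) * s) * ((u - 1) * s) * r.c +
          2 * ((u - 1) * s * s * r.c) := by ring
      rw [h6, h2, hs, mul_inv_cancel₀ hu1]; ring
  have e : M.Z x p = M.Z x (Frame.Adm.smul u (Frame.Adm.smul s p) * (Frame.Adm.smul s p)⁻¹) *
      M.Z x (Frame.Adm.smul u (Frame.Adm.smul s r) * (Frame.Adm.smul s r)⁻¹) := by
    rw [hr2, ← Z_mul, hr]
    congr 1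
    group
  rw [e]
  exact mul_mem (hcom _) (hcom _)

end Z

/-! ### Nodes of type `X` -/

/-- the Weyl element of type I -/
def kX (x y : Fin n × Bool) (t : F) : K := M.φ ⟨nX Fr x y t, mul_mem (mul_mem (M.hX _ _ _) (M.hX _ _ _)) (M.hX _ _ _)⟩

theorem kX_eq (x y : Fin n × Bool) (t : F) :
    ∃ a b c, kX M x y t = M.X x y a * M.X (neg y) (neg x) b * M.X x y c := by
  refine ⟨t, -t⁻¹, t, ?_⟩
  unfold kX Model.X
  rw [← map_mul, ← map_mul]
  rfl

section X

variable {x y : Fin n × Bool} (hxy : x.1 ≠ y.1) {z z' : Fin n → ℤ} (ez : ee z = wt x + wt y)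
  (ez' : ee z' = wt (neg x) + wt (neg y))

include hxy ez ez' in
theorem kX_mem {L : Subgroup K} (h1 : Nodes.WittModel.X M z ≤ L) (h2 : Nodes.WittModel.X M z' ≤ L) (t : F) :
    kX M x y t ∈ L := by
  obtain ⟨a, b, c, e⟩ := kX_eq M x y t
  rw [e]
  exact mul_mem (mul_mem (h1 (X_mem M hxy ez _))
    (h2 (X_mem M (a := neg y) (b := neg x) hxy.symm (by rw [ez', add_comm]) _))) (h1 (X_mem M hxy ez _))

include hxy ez ez' in
/-- **The nodes of type `X`.** -/
theorem perf_X (h2 : (2 : F) = 0) {t : F} (ht0 : t ≠ 0) (ht : t ≠ 1) :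
    Nodes.WittModel.X M z ≤ ⁅Nodes.WittModel.X M z ⊔ Nodes.WittModel.X M z',
      Nodes.WittModel.X M z ⊔ Nodes.WittModel.X M z'⁆ := by
  set L : Subgroup K := Nodes.WittModel.X M z ⊔ Nodes.WittModel.X M z' with hL
  obtain ⟨g, hg⟩ : ∃ g, g = kX M x y t * kX M x y 1 := ⟨_, rfl⟩
  have hgL : g ∈ L := by
    rw [hg]
    exact mul_mem (kX_mem M hxy ez ez' le_sup_left le_sup_right _) (kX_mem M hxy ez ez' le_sup_left le_sup_right _)
  have c1 : ∀ s, kX M x y 1 * M.X x y s * (kX M x y 1)⁻¹ = M.X (neg y) (neg x) (-((1 : F)⁻¹ ^ 2 * s)) := by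
    intro s
    unfold kX Model.X
    rw [← map_mul, ← map_inv, ← map_mul]
    exact congrArg M.φ (Subtype.ext (nX_conj_X Fr hxy one_ne_zero s))
  have c2 : ∀ s, kX M x y t * M.X (neg y) (neg x) s * (kX M x y t)⁻¹ = M.X x y (-(t ^ 2 * s)) := by
    intro s
    unfold kX Model.X
    rw [← map_mul, ← map_inv, ← map_mul]
    exact congrArg M.φ (Subtype.ext (nX_conj_X_neg Fr hxy ht0 s))
  have key : ∀ s, g * M.X x y s * g⁻¹ = M.X x y (t ^ 2 * s) := by
    intro s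
    have h3 : g * M.X x y s * g⁻¹ = kX M x y t * (kX M x y 1 * M.X x y s * (kX M x y 1)⁻¹) * (kX M x y t)⁻¹ := by
      rw [hg]; group
    rw [h3, c1, c2]
    congr 1
    rw [inv_one]; ring
  have ht2 : t ^ 2 - 1 ≠ 0 := by
    have : t ^ 2 - 1 = (t - 1) ^ 2 + 2 * (t - 1) := by ring
    rw [this, h2, zero_mul, add_zero]
    exact pow_ne_zero _ (sub_ne_zero.2 ht)
  intro k hk
  obtain ⟨s, rfl⟩ := (mem_XK M hxy ez).1 hk
  have e : M.X x y s = ⁅g, M.X x y ((t ^ 2 - 1)⁻¹ * s)⁆ := by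
    rw [commutatorElement_def, key, eq_mul_inv_iff_mul_eq, ← X_add]
    congr 1
    field_simp
    ring
  rw [e]
  exact Subgroup.commutator_mem_commutator hgL ((le_sup_left : _ ≤ L) (X_mem M hxy ez _))

end X

/-! ### The simple nodes -/

/-- the last node -/
theorem perf_last (h2 : (2 : F) = 0) {p0 : Fr.Adm} (hw : p0.w = 0) (hc : p0.c ≠ 0) {a : F} (ha0 : a ≠ 0)
    (ha : a * H.σ a ≠ 1) {i : Fin n} (hi : ¬ (i : ℕ) + 1 < n) :
    Nodes.WittModel.X M (sr i) ≤ ⁅Nodes.WittModel.X M (sr i) ⊔ Nodes.WittModel.X M (-sr i),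
      Nodes.WittModel.X M (sr i) ⊔ Nodes.WittModel.X M (-sr i)⁆ := by
  have hnx : nx i = (i, true) := by unfold nx; rw [dif_neg hi]
  refine perf_Z M (x := (i, true)) ?_ ?_ h2 hw hc ha0 ha
  · have := ee_sr i
    rw [bt, hnx] at this
    exact this
  · have := Nodes.WittRGD.ee_neg_sr i
    rw [hnx] at this
    exact this

/-- the other nodes -/
theorem perf_ne (h2 : (2 : F) = 0) {t : F} (ht0 : t ≠ 0) (ht : t ≠ 1) {i : Fin n} (hi : (i : ℕ) + 1 < n) :
    Nodes.WittModel.X M (sr i) ≤ ⁅Nodes.WittModel.X M (sr i) ⊔ Nodes.WittModel.X M (-sr i),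
      Nodes.WittModel.X M (sr i) ⊔ Nodes.WittModel.X M (-sr i)⁆ := by
  have hnx : nx i = (⟨i + 1, hi⟩, false) := by unfold nx; rw [dif_pos hi]
  have hne : ((i, true) : Fin n × Bool).1 ≠ (nx i).1 := by rw [hnx]; simp [Fin.ext_iff]
  exact perf_X M (x := (i, true)) (y := nx i) hne (ee_sr i) (Nodes.WittRGD.ee_neg_sr i) h2 ht0 ht

/-! ### Unitary and symplectic groups -/

section Families

open Cfsg.Agent.TitsThree.WBridge Cfsg.Agent.TitsThree.KSideU Cfsg.Agent.TitsThree.SiegelGen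

/-- an element of norm `≠ 0, 1` in `𝔽_{q²}`, `q ≥ 3` -/
theorem exists_norm {F : Type*} [Field F] [Fintype F] {q : ℕ} (hF : Fintype.card F = q ^ 2) (hq : 3 ≤ q) :
    ∃ a : F, a ≠ 0 ∧ a * a ^ q ≠ 1 := by
  classical
  obtain ⟨g, hg⟩ := IsCyclic.exists_generator (α := Fˣ)
  refine ⟨(g : F), g.ne_zero, fun h => ?_⟩
  have h1 : g ^ (q + 1) = 1 := by
    ext
    rw [Units.val_pow_eq_pow_val, pow_succ, mul_comm, h, Units.val_one]
  have h2 : orderOf g ∣ q + 1 := orderOf_dvd_of_pow_eq_one h1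
  have h3 : orderOf g = q ^ 2 - 1 := by
    rw [orderOf_eq_card_of_forall_mem_zpowers hg, Nat.card_eq_fintype_card, Fintype.card_units, hF]
  have h4 := Nat.le_of_dvd (by omega) h2
  rw [h3] at h4
  have h5 : 3 * q ≤ q ^ 2 := by nlinarith
  omega

theorem exists_ne_one {F : Type*} [Field F] [Finite F] (h : 3 ≤ Nat.card F) : ∃ a : F, a ≠ 0 ∧ a ≠ 1 := by
  classical
  have := Fintype.ofFinite F
  by_contra hcon
  push Not at hcon
  have h1 : (Finset.univ : Finset F) ⊆ {0, 1} := by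
    intro a _
    by_cases ha : a = 0
    · simp [ha]
    · simp [hcon a ha]
  have h2 := Finset.card_le_card h1
  have h3 : ({0, 1} : Finset F).card ≤ 2 := Finset.card_le_two
  rw [Finset.card_univ, ← Nat.card_eq_fintype_card] at h2
  omega

/-- **Unitary groups**, the last node, `q ≥ 4`. -/
theorem perf_U_last {F : Type*} [Field F] [Fintype F] {q N m : ℕ} (hF : Fintype.card F = q ^ 2) (hN : 3 ≤ N)
    (W : WFrame (PU hF N) m) (h2 : (2 : F) = 0) (hq : 3 ≤ q) {i : Fin m} (hi : ¬ (i : ℕ) + 1 < m) :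
    Nodes.WittModel.X (KInstU.model hF hN W) (sr i) ≤
      ⁅Nodes.WittModel.X (KInstU.model hF hN W) (sr i) ⊔ Nodes.WittModel.X (KInstU.model hF hN W) (-sr i),
      Nodes.WittModel.X (KInstU.model hF hN W) (sr i) ⊔ Nodes.WittModel.X (KInstU.model hF hN W) (-sr i)⁆ := by
  obtain ⟨p0, hc, hw⟩ := Nodes.WittU.exists_adm hF W
  obtain ⟨a, ha0, ha⟩ := exists_norm hF hq
  exact perf_last _ h2 hw hc ha0 ha hi

/-- **Unitary groups**, the other nodes. -/
theorem perf_U_ne {F : Type*} [Field F] [Fintype F] {q N m : ℕ} (hF : Fintype.card F = q ^ 2) (hN : 3 ≤ N)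
    (W : WFrame (PU hF N) m) (h2 : (2 : F) = 0) (hq : 2 ≤ q) {i : Fin m} (hi : (i : ℕ) + 1 < m) :
    Nodes.WittModel.X (KInstU.model hF hN W) (sr i) ≤
      ⁅Nodes.WittModel.X (KInstU.model hF hN W) (sr i) ⊔ Nodes.WittModel.X (KInstU.model hF hN W) (-sr i),
      Nodes.WittModel.X (KInstU.model hF hN W) (sr i) ⊔ Nodes.WittModel.X (KInstU.model hF hN W) (-sr i)⁆ := by
  obtain ⟨t, ht0, ht⟩ := exists_ne_one (F := F) (by
    rw [Nat.card_eq_fintype_card, hF]
    nlinarith)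
  exact perf_ne _ h2 ht0 ht hi

/-- **Symplectic groups**, all nodes, `q ≥ 4`. -/
theorem perf_Sp {F : Type*} [Field F] [Finite F] {m : ℕ} (h2 : (2 : F) = 0) (hq : 3 ≤ Nat.card F) (i : Fin m) :
    Nodes.WittModel.X (KInstSp.model m F) (sr i) ≤
      ⁅Nodes.WittModel.X (KInstSp.model m F) (sr i) ⊔ Nodes.WittModel.X (KInstSp.model m F) (-sr i),
      Nodes.WittModel.X (KInstSp.model m F) (sr i) ⊔ Nodes.WittModel.X (KInstSp.model m F) (-sr i)⁆ := by
  obtain ⟨t, ht0, ht⟩ := exists_ne_one hq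
  by_cases hi : (i : ℕ) + 1 < m
  · exact perf_ne _ h2 ht0 ht hi
  · refine perf_last _ h2 (p0 := SpIdent.adm 1) rfl one_ne_zero ht0 ?_ hi
    change t * t ≠ 1
    intro h
    have h3 : (t - 1) ^ 2 = 0 := by
      have : (t - 1) ^ 2 = t * t - 1 - 2 * (t - 1) := by ring
      rw [this, h, h2]; ring
    exact ht (sub_eq_zero.1 (pow_eq_zero_iff two_ne_zero |>.1 h3))

end Families

end Cfsg.Agent.Omega.ML.Ex.Lie2.PerfU

end

end

-- merged: Cfsg.Agent.Mrg.Omega.ML.Ex.Lie2.Rc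
section

/-!
# The orders of the simple root groups, diagram `B_m`, characteristic two (helper72)

* `HasInv Mx i G` : a root group datum of type `Mx`, the root group of the node `i` has at most one involution;
  `HasInv.of_equiv`, `HasInv.exists_rf`;
* `card_X`, `card_Z` : the orders of the simple root groups of a Witt model;
* **`hasRc_PSp`** : `PSp_{2m}(F)` : all orders are `|F|`; `hasRc_PSp_two`;
* **`hasRc_PSU_even`, `hasRc_PSU_odd`** : `PSU_{2m}(q)` : `q², .., q², q`, `PSU_{2m+1}(q)` : `q², .., q², q³`;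
  `hasRc_PSU4_two`, `hasRc_PSU5_two`;
* **`hasInv_PSp_two`, `hasInv_PSU_even`, `hasInv_PSU_odd`** : `q = 2`, one involution in the last root group.
-/

set_option autoImplicit false
set_option linter.unusedSectionVars false

namespace Cfsg.Agent.Omega.ML.Ex.Lie2

open Cfsg
open Subgroup CoxeterSystem Cfsg.Agent.ChevalleyStructure.CoxeterGeom Cfsg.Agent.Tits.Roots Cfsg.Agent.Tits.Core
  Cfsg.Agent.Nodes.Comb Cfsg.Agent.Nodes.Reps Cfsg.Agent.Nodes.BNOf
open Cfsg.Agent.Nodes Cfsg.Agent.Nodes.WittAll Cfsg.Agent.Nodes.WittU Cfsg.Agent.Nodes.WittRoot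
  Cfsg.Agent.Nodes.WittRGD Cfsg.Agent.TitsThree Cfsg.Agent.TitsThree.Siegel Cfsg.Agent.TitsThree.SiegelGen
  Cfsg.Agent.TitsThree.WittFrame Cfsg.Agent.TitsThree.WBridge Cfsg.Agent.TitsThree.FrameCN
  Cfsg.Agent.Omega.EH3.Kf.TwC Cfsg.Agent.Omega.EH3.Kf.TwWitt Cfsg.Agent.Nodes.TypeC

universe u

/-- a group with a root group datum of type `Mx` whose `i`-th simple root group has order `r` and at most one
involution -/
def HasInv {l : ℕ} (Mx : CoxeterMatrix (Fin l)) (i : Fin l) (r : ℕ) (G : Type*) [Group G] : Prop :=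
  ∃ (Ac : Fin l → Fin l → ℤ) (h : IsCartan Mx Ac) (Tor : Subgroup G) (n : Fin l → G)
    (Xr : (Fin l → ℤ) → Subgroup G), Rg h Tor n Xr ∧ Nat.card (Xr (sr i)) = r ∧
      ∃ z : G, ∀ u ∈ Xr (sr i), u * u = 1 → u = 1 ∨ u = z

theorem inv_map {G H : Type*} [Group G] [Group H] (e : G ≃* H) {S : Subgroup G} {z : G}
    (hS : ∀ u ∈ S, u * u = 1 → u = 1 ∨ u = z) : ∀ u ∈ S.map e.toMonoidHom, u * u = 1 → u = 1 ∨ u = e z := by
  rintro _ ⟨u, hu, rfl⟩ h1
  have h2 : e (u * u) = 1 := by rw [map_mul]; exact h1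
  rcases hS u hu (e.injective (h2.trans (map_one e).symm)) with h | h
  · left; rw [h]; exact map_one e
  · right; rw [h]; rfl

theorem HasInv.of_equiv {l : ℕ} {Mx : CoxeterMatrix (Fin l)} {i : Fin l} {r : ℕ} {G H : Type*} [Group G] [Group H]
    (e : G ≃* H) (hG : HasInv Mx i r G) : HasInv Mx i r H := by
  obtain ⟨Ac, h, Tor, n, Xr, D, hr, z, hz⟩ := hG
  exact ⟨Ac, h, _, _, _, D.map e, (Subgroup.card_map_of_injective e.injective).trans hr, e z, inv_map e hz⟩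

/-- **The datum for `T`.** -/
theorem HasInv.exists_rf {X : Type u} [Group X] [Finite X] {K T : Subgroup X} {l : ℕ} {Mx : CoxeterMatrix (Fin l)}
    {i : Fin l} {r : ℕ} (hK : K.Normal) (hT : IsPGroup 2 T) (hTi : ¬ 2 ∣ T.index)
    (hD : HasInv Mx i r K) : ∃ (Ac : Fin l → Fin l → ℤ) (h : IsCartan Mx Ac) (Tor : Subgroup K) (n : Fin l → K)
      (Xr : (Fin l → ℤ) → Subgroup K), RF K T h Tor n Xr ∧ Nat.card (Xr (sr i)) = r ∧
        ∃ z : K, ∀ u ∈ Xr (sr i), u * u = 1 → u = 1 ∨ u = z := by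
  obtain ⟨Ac, h, Tor, n, Xr, D, hr, z, hz⟩ := hD
  obtain ⟨g, hg⟩ := D.exists_rf hK hT hTi
  exact ⟨Ac, h, _, _, _, hg, (Subgroup.card_map_of_injective (MulAut.conj g).injective).trans hr, _,
    inv_map (MulAut.conj g) hz⟩

theorem HasInv.hasRc {l : ℕ} {Mx : CoxeterMatrix (Fin l)} {i : Fin l} {r : ℕ} {G : Type*} [Group G]
    (hG : HasInv Mx i r G) : HasRc Mx (fun c => c i = r) G := by
  obtain ⟨Ac, h, Tor, n, Xr, D, hr, -⟩ := hG
  exact ⟨Ac, h, Tor, n, Xr, D, hr⟩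

theorem HasRc.mono {l : ℕ} {Mx : CoxeterMatrix (Fin l)} {P P' : (Fin l → ℕ) → Prop} {G : Type*} [Group G]
    (hG : HasRc Mx P G) (hP : ∀ c, P c → P' c) : HasRc Mx P' G := by
  obtain ⟨Ac, h, Tor, n, Xr, D, hr⟩ := hG
  exact ⟨Ac, h, Tor, n, Xr, D, hP _ hr⟩

section Models

variable {F : Type*} [Field F] {V : Type*} [AddCommGroup V] [Module F V] {H : HForm F V} {n : ℕ}
  {Fr : Frame H (Fin n)} {K : Type*} [Group K] (M : Model Fr K)

/-- the datum of a model -/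
theorem rg_model (hA : AmbT Fr 2 M.I) [Finite V] [CharP F 2] {p0 : Fr.Adm} (hp0 : p0.c ≠ 0) (hn : 0 < n) :
    Rg (Mx := CoxeterMatrix.B n) (Nodes.TypeC.isCartan n) (WittModel.T M)
      (fun i => M.φ ⟨WittRGD.nn Fr p0 i, nn_mem hA p0 i⟩) (WittModel.X M) where
  fin := Nodes.TypeC.finite_W (CoxeterMatrix.B n).toCoxeterSystem
  rgd := by
    have : Fact (Nat.Prime 2) := ⟨Nat.prime_two⟩
    exact rgdC_model M hA hp0 _
  gen := WittModel.G1_eq_top _ hn _

theorem wt_last {i : Fin n} (hi : ¬ (i : ℕ) + 1 < n) : ee (sr i) = wt (i, true) + wt (i, true) := by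
  have hnx : nx i = (i, true) := by unfold nx; rw [dif_neg hi]
  have := ee_sr i
  rw [bt, hnx] at this
  exact this

/-- the order of the last root group -/
theorem card_Z (hA : AmbT Fr 2 M.I) [Finite V] [CharP F 2] {i : Fin n} (hi : ¬ (i : ℕ) + 1 < n) :
    Nat.card (WittModel.X M (sr i)) = Nat.card Fr.Adm := by
  have : Fact (Nat.Prime 2) := ⟨Nat.prime_two⟩
  refine (Nat.card_eq_of_bijective (fun p : Fr.Adm => (⟨M.Z (i, true) p, Z_mem M (wt_last hi) p⟩ :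
    WittModel.X M (sr i))) ⟨?_, ?_⟩).symm
  · intro p q e
    have e1 : M.Z (i, true) p = M.Z (i, true) q := congrArg Subtype.val e
    have e2 : M.Z (i, true) (p * q⁻¹) = 1 := by
      have e3 : M.Z (i, true) (p * q⁻¹) * M.Z (i, true) q = M.Z (i, true) q := by
        rw [← Z_mul, inv_mul_cancel_right, e1]
      exact mul_eq_right.1 e3
    exact mul_inv_eq_one.1 (Z_eq_one M hA e2)
  · rintro ⟨k, hk⟩
    obtain ⟨p, rfl⟩ := (mem_ZK M (wt_last hi)).1 hk
    exact ⟨p, rfl⟩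

/-- the order of the other root groups -/
theorem card_X (hA : AmbT Fr 2 M.I) [Finite V] [CharP F 2] {i : Fin n} (hi : (i : ℕ) + 1 < n) :
    Nat.card (WittModel.X M (sr i)) = Nat.card F := by
  have : Fact (Nat.Prime 2) := ⟨Nat.prime_two⟩
  have hnx : nx i = (⟨i + 1, hi⟩, false) := by unfold nx; rw [dif_pos hi]
  have hne : ((i, true) : Fin n × Bool).1 ≠ (nx i).1 := by rw [hnx]; simp [Fin.ext_iff]
  refine (Nat.card_eq_of_bijective (fun t : F => (⟨M.X (i, true) (nx i) t, X_mem M hne (ee_sr i) t⟩ :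
    WittModel.X M (sr i))) ⟨?_, ?_⟩).symm
  · intro s t e
    have e1 : M.X (i, true) (nx i) s = M.X (i, true) (nx i) t := congrArg Subtype.val e
    have e2 : M.X (i, true) (nx i) (s - t) = 1 := by
      have e3 : M.X (i, true) (nx i) (s - t) * M.X (i, true) (nx i) t = M.X (i, true) (nx i) t := by
        rw [← X_add, sub_add_cancel, e1]
      exact mul_eq_right.1 e3
    exact sub_eq_zero.1 (X_eq_one M hA hne e2)
  · rintro ⟨k, hk⟩
    obtain ⟨t, rfl⟩ := (mem_XK M hne (ee_sr i)).1 hk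
    exact ⟨t, rfl⟩

/-- one involution in the last root group -/
theorem inv_Z (hA : AmbT Fr 2 M.I) [Finite V] [CharP F 2] {i : Fin n} (hi : ¬ (i : ℕ) + 1 < n)
    (han : ∀ w ∈ Fr.V0, H.h w w = 0 → w = 0) {c1 : F} (hc : ∀ c : F, Fr.ok 0 c → c = 0 ∨ c = c1) :
    ∃ z : K, ∀ u ∈ WittModel.X M (sr i), u * u = 1 → u = 1 ∨ u = z := by
  have : Fact (Nat.Prime 2) := ⟨Nat.prime_two⟩
  have h2 : (2 : F) = 0 := CharTwo.two_eq_zero
  by_cases h1 : Fr.ok 0 c1
  swap
  · -- the root group has no elements of order two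
    refine ⟨1, fun u hu huu => Or.inl ?_⟩
    obtain ⟨p, rfl⟩ := (mem_ZK M (wt_last hi)).1 hu
    rw [← Z_mul] at huu
    have h3 := Z_eq_one M hA huu
    have h4 : (p * p).c = 0 := by rw [h3]; rfl
    rw [Frame.Adm.mul_c] at h4
    have h5 : H.h p.w p.w = 0 := by
      have h6 : H.ε⁻¹ * H.h p.w p.w = 2 * p.c := by linear_combination -h4
      rw [h2, zero_mul] at h6
      exact (mul_eq_zero.1 h6).resolve_left (inv_ne_zero H.ε_ne)
    have h6 : p.w = 0 := han _ (Fr.ok_mem p.ok) h5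
    have h7 : p.c = 0 := by
      have h8 := p.ok
      rw [h6] at h8
      rcases hc _ h8 with h9 | h9
      · exact h9
      · rw [h9] at h8; exact absurd h8 h1
    have h8 : p = 1 := Frame.Adm.ext h6 h7
    rw [h8]
    exact Z_one M _
  · refine ⟨M.Z (i, true) ⟨0, c1, h1⟩, fun u hu huu => ?_⟩
    obtain ⟨p, rfl⟩ := (mem_ZK M (wt_last hi)).1 hu
    rw [← Z_mul] at huu
    have h3 := Z_eq_one M hA huu
    have h4 : (p * p).c = 0 := by rw [h3]; rfl
    rw [Frame.Adm.mul_c] at h4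
    have h5 : H.h p.w p.w = 0 := by
      have h6 : H.ε⁻¹ * H.h p.w p.w = 2 * p.c := by linear_combination -h4
      rw [h2, zero_mul] at h6
      exact (mul_eq_zero.1 h6).resolve_left (inv_ne_zero H.ε_ne)
    have h6 : p.w = 0 := han _ (Fr.ok_mem p.ok) h5
    have h8 := p.ok
    rw [h6] at h8
    rcases hc _ h8 with h9 | h9
    · left
      have h10 : p = 1 := Frame.Adm.ext h6 h9
      rw [h10]
      exact Z_one M _
    · right
      have h10 : p = ⟨0, c1, h1⟩ := Frame.Adm.ext h6 h9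
      rw [h10]

end Models

/-! ### The families -/

theorem charTwo_of_two {F : Type*} [Field F] (h : (2 : F) = 0) : CharP F 2 :=
  CharTwo.of_one_ne_zero_of_two_eq_zero one_ne_zero h

theorem charTwo_of_card {F : Type*} [Field F] [Finite F] {k : ℕ} (h : Nat.card F = 2 ^ k) : CharP F 2 := by
  have : Fintype F := Fintype.ofFinite F
  refine charTwo_of_two ?_
  have h1 := FiniteField.cast_card_eq_zero F
  rw [← Nat.card_eq_fintype_card, h, Nat.cast_pow] at h1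
  exact_mod_cast eq_zero_of_pow_eq_zero h1

section Symplectic

variable {F : Type*} [Field F] [Finite F] {m : ℕ}

theorem card_adm_sp : Nat.card (SpIdent.frame m F).Adm = Nat.card F :=
  Nat.card_congr
    { toFun := fun a => a.c
      invFun := fun c => SpIdent.adm c
      left_inv := fun a => (SpIdent.eq_adm a).symm
      right_inv := fun _ => rfl }

/-- **`PSp_{2m}(F)`: all simple root groups have order `|F|`.** -/
theorem hasRc_PSp [CharP F 2] (hm : 1 ≤ m) : HasRc (CoxeterMatrix.B m) (fun c => ∀ i, c i = Nat.card F) (PSp m F) := by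
  have : Fact (Nat.Prime 2) := ⟨Nat.prime_two⟩
  have hA : AmbT (SpIdent.frame m F) 2 (KInstSp.model m F).I := AmbT.of_amb amb_Sp 2
  refine ⟨_, _, _, _, _, rg_model (KInstSp.model m F) hA (p0 := SpIdent.adm 1) one_ne_zero hm, ?_⟩
  intro i
  by_cases hi : (i : ℕ) + 1 < m
  · exact card_X _ hA hi
  · exact (card_Z _ hA hi).trans card_adm_sp

/-- **`PSp_{2m}(2)`.** -/
theorem hasRc_PSp_two (hF : Nat.card F = 2) (hm : 1 ≤ m) :
    HasRc (CoxeterMatrix.B m) (fun c => ∀ i : Fin m, (i : ℕ) + 1 = m → c i = 2) (PSp m F) := by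
  have := charTwo_of_card (k := 1) hF
  exact (hasRc_PSp hm).mono fun c hc i _ => (hc i).trans hF

theorem hasInv_PSp_two (hF : Nat.card F = 2) (hm : 1 ≤ m) :
    HasInv (CoxeterMatrix.B m) ⟨m - 1, by omega⟩ 2 (PSp m F) := by
  have : Fact (Nat.Prime 2) := ⟨Nat.prime_two⟩
  have := charTwo_of_card (k := 1) hF
  have hA : AmbT (SpIdent.frame m F) 2 (KInstSp.model m F).I := AmbT.of_amb amb_Sp 2
  have hi : ¬ ((⟨m - 1, by omega⟩ : Fin m) : ℕ) + 1 < m := by simp only; omega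
  refine ⟨_, _, _, _, _, rg_model (KInstSp.model m F) hA (p0 := SpIdent.adm 1) one_ne_zero hm,
    ((card_Z _ hA hi).trans card_adm_sp).trans hF, inv_Z _ hA hi (fun w hw _ => (Submodule.mem_bot F).1 hw)
      (c1 := 1) fun c _ => ?_⟩
  have : Fintype F := Fintype.ofFinite F
  have h1 := FiniteField.pow_card c
  rw [← Nat.card_eq_fintype_card, hF] at h1
  have h2 : c * (c - 1) = 0 := by linear_combination h1
  rcases mul_eq_zero.1 h2 with h | h
  · exact Or.inl h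
  · exact Or.inr (sub_eq_zero.1 h)

end Symplectic

section Unitary

open Cfsg.Agent.LieClassical.HermBasic Cfsg.Agent.TitsThree.KSideU

variable {F : Type*} [Field F] [Fintype F] {q N : ℕ} (hF : Fintype.card F = q ^ 2)

include hF

/-- the number of solutions of `c + c ^ q = b` -/
theorem card_trace {b : F} (hb : b ^ q = b) : Nat.card {c : F // c + c ^ q = b} = q := by
  classical
  have hq := Typ.two_le_q hF
  have hle : ∀ b : F, (Finset.univ.filter fun c : F => c + c ^ q = b).card ≤ q := by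
    intro b
    have h1 := Typ.card_trace_le hq b
    rwa [Nat.card_eq_fintype_card, Fintype.card_subtype] at h1
  have hE : (Finset.univ.filter fun b : F => b ^ q = b).card ≤ q := by
    have h1 : (Polynomial.X ^ q - Polynomial.X : Polynomial F) ≠ 0 := FiniteField.X_pow_card_sub_X_ne_zero F hq
    have h2 : (Polynomial.X ^ q - Polynomial.X : Polynomial F).natDegree = q :=
      FiniteField.X_pow_card_sub_X_natDegree_eq F hq
    calc (Finset.univ.filter fun b : F => b ^ q = b).card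
        ≤ (Polynomial.X ^ q - Polynomial.X : Polynomial F).roots.toFinset.card := by
          refine Finset.card_le_card fun b hb => ?_
          rw [Multiset.mem_toFinset, Polynomial.mem_roots h1, Polynomial.IsRoot.def]
          simp only [Polynomial.eval_sub, Polynomial.eval_pow, Polynomial.eval_X]
          rw [(Finset.mem_filter.1 hb).2, sub_self]
      _ ≤ q := (Multiset.toFinset_card_le _).trans ((Polynomial.card_roots' _).trans h2.le)
  have hmaps : ∀ c ∈ (Finset.univ : Finset F), c + c ^ q ∈ Finset.univ.filter fun b : F => b ^ q = b := by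
    intro c _
    rw [Finset.mem_filter]
    refine ⟨Finset.mem_univ _, ?_⟩
    rw [add_pow_q hF, pow_q_pow_q hF, add_comm]
  have hsum := Finset.card_eq_sum_card_fiberwise hmaps
  rw [Finset.card_univ, hF] at hsum
  rw [Nat.card_eq_fintype_card, Fintype.card_subtype]
  by_contra hne
  have hlt : (Finset.univ.filter fun c : F => c + c ^ q = b).card < q := lt_of_le_of_ne (hle b) hne
  have h1 : ∑ b ∈ Finset.univ.filter (fun b : F => b ^ q = b), (Finset.univ.filter fun c : F => c + c ^ q = b).card <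
      ∑ _b ∈ Finset.univ.filter (fun b : F => b ^ q = b), q :=
    Finset.sum_lt_sum (fun b _ => hle b) ⟨b, by rw [Finset.mem_filter]; exact ⟨Finset.mem_univ _, hb⟩, hlt⟩
  rw [Finset.sum_const, smul_eq_mul] at h1
  have h2 := Nat.mul_le_mul_right q hE
  rw [← hsum] at h1
  nlinarith

theorem card_adm {m : ℕ} (W : WFrame (PU hF N) m) : Nat.card (toFrame W).Adm = Nat.card W.V0 * q := by
  classical
  have : Fintype W.V0 := Fintype.ofFinite _
  have e : (toFrame W).Adm ≃ Σ w : W.V0, {c : F // c + c ^ q = -hermForm N F q w w} :=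
    { toFun := fun a => ⟨⟨a.w, a.ok.1⟩, ⟨a.c, a.ok.2⟩⟩
      invFun := fun x => ⟨x.1.1, x.2.1, x.1.2, x.2.2⟩
      left_inv := fun _ => rfl
      right_inv := fun _ => rfl }
  have h1 : ∀ w : W.V0, Nat.card {c : F // c + c ^ q = -hermForm N F q w w} = q := fun w =>
    card_trace hF (by rw [neg_pow_q hF, herm_self_pow hF])
  rw [Nat.card_congr e, Nat.card_sigma]
  simp only [h1]
  rw [Finset.sum_const, Finset.card_univ, ← Nat.card_eq_fintype_card, smul_eq_mul]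

theorem card_V0_odd {W : Submodule F (Fin N → F)} {d : Fin N → F} (hd : hermForm N F q d d = 1)
    (hW : W = Submodule.span F {d}) : Nat.card W = q ^ 2 := by
  have hd0 : d ≠ 0 := by
    rintro rfl
    rw [herm_zero_left] at hd
    exact zero_ne_one hd
  rw [hW, ← hF, ← Nat.card_eq_fintype_card]
  exact Nat.card_congr (LinearEquiv.toSpanNonzeroSingleton F _ d hd0).toEquiv.symm

/-- **`PSU_{2m}(q)`: the orders of the simple root groups are `q², .., q², q`.** -/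
theorem hasRc_PSU_even [CharP F 2] {m : ℕ} (hN : N = 2 * m) (hN3 : 3 ≤ N) :
    HasRc (CoxeterMatrix.B m) (fun c => ∀ i : Fin m, c i = if (i : ℕ) + 1 < m then q ^ 2 else q) (PSU N F q) := by
  have : Fact (Nat.Prime 2) := ⟨Nat.prime_two⟩
  obtain ⟨W, hW⟩ := exists_wframe_even hF hN
  obtain ⟨p0, hp0, -⟩ := exists_adm hF W
  have hA : AmbT (toFrame W) 2 (KInstU.model hF hN3 W).I := AmbT.of_amb (amb_U hF W) 2
  refine ⟨_, _, _, _, _, rg_model (KInstU.model hF hN3 W) hA hp0 (by omega), ?_⟩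
  intro i
  show Nat.card (WittModel.X (KInstU.model hF hN3 W) (sr i)) = _
  split_ifs with hi
  · rw [card_X _ hA hi, Nat.card_eq_fintype_card, hF]
  · rw [card_Z _ hA hi, card_adm, hW, Nat.card_unique, one_mul]

/-- **`PSU_{2m+1}(q)`: the orders of the simple root groups are `q², .., q², q³`.** -/
theorem hasRc_PSU_odd [CharP F 2] {m : ℕ} (hN : N = 2 * m + 1) (hm : 1 ≤ m) :
    HasRc (CoxeterMatrix.B m) (fun c => ∀ i : Fin m, c i = if (i : ℕ) + 1 < m then q ^ 2 else q ^ 3) (PSU N F q) := by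
  have : Fact (Nat.Prime 2) := ⟨Nat.prime_two⟩
  have hN3 : 3 ≤ N := by omega
  obtain ⟨W, d, hd, hW⟩ := exists_wframe_odd hF hN
  obtain ⟨p0, hp0, -⟩ := exists_adm hF W
  have hA : AmbT (toFrame W) 2 (KInstU.model hF hN3 W).I := AmbT.of_amb (amb_U hF W) 2
  refine ⟨_, _, _, _, _, rg_model (KInstU.model hF hN3 W) hA hp0 (by omega), ?_⟩
  intro i
  show Nat.card (WittModel.X (KInstU.model hF hN3 W) (sr i)) = _
  split_ifs with hi
  · rw [card_X _ hA hi, Nat.card_eq_fintype_card, hF]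
  · rw [card_Z _ hA hi, card_adm, card_V0_odd hF hd hW, ← pow_succ]

end Unitary

section UnitaryTwo

open Cfsg.Agent.LieClassical.HermBasic Cfsg.Agent.TitsThree.KSideU

variable {F : Type*} [Field F] [Fintype F] {N : ℕ} (hF : Fintype.card F = 2 ^ 2)

include hF

theorem charTwo_of_four : CharP F 2 := charTwo_of_card (k := 2) (by rw [Nat.card_eq_fintype_card, hF])

theorem inv_U [CharP F 2] (hN3 : 3 ≤ N) {m : ℕ} (W : WFrame (PU hF N) m)
    (hA : AmbT (toFrame W) 2 (KInstU.model hF hN3 W).I) {i : Fin m} (hi : ¬ (i : ℕ) + 1 < m) :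
    ∃ z : PSU N F 2, ∀ u ∈ WittModel.X (KInstU.model hF hN3 W) (sr i), u * u = 1 → u = 1 ∨ u = z := by
  refine inv_Z _ hA hi (fun w hw h => W.aniso w hw ((sing_iff hF).2 h)) (c1 := 1) fun c hc => ?_
  have h1 : c + c ^ 2 = -hermForm N F 2 0 0 := hc.2
  rw [herm_zero_left, neg_zero] at h1
  have h2 : (2 : F) = 0 := CharTwo.two_eq_zero
  have h3 : c * (c - 1) = 0 := by linear_combination h1 - c * h2
  rcases mul_eq_zero.1 h3 with h | h
  · exact Or.inl h
  · exact Or.inr (sub_eq_zero.1 h)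

/-- **`PSU_{2m}(2)`: the last root group has order two.** -/
theorem hasInv_PSU_even {m : ℕ} (hN : N = 2 * m) (hN3 : 3 ≤ N) :
    HasInv (CoxeterMatrix.B m) ⟨m - 1, by omega⟩ 2 (PSU N F 2) := by
  have : Fact (Nat.Prime 2) := ⟨Nat.prime_two⟩
  have := charTwo_of_four hF
  obtain ⟨W, hW⟩ := exists_wframe_even hF hN
  obtain ⟨p0, hp0, -⟩ := exists_adm hF W
  have hA : AmbT (toFrame W) 2 (KInstU.model hF hN3 W).I := AmbT.of_amb (amb_U hF W) 2
  have hi : ¬ ((⟨m - 1, by omega⟩ : Fin m) : ℕ) + 1 < m := by simp only; omega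
  refine ⟨_, _, _, _, _, rg_model (KInstU.model hF hN3 W) hA hp0 (by omega), ?_, inv_U hF hN3 W hA hi⟩
  rw [card_Z _ hA hi, card_adm, hW, Nat.card_unique, one_mul]

/-- **`PSU_{2m+1}(2)`: the last root group has order eight and one involution.** -/
theorem hasInv_PSU_odd {m : ℕ} (hN : N = 2 * m + 1) (hm : 1 ≤ m) :
    HasInv (CoxeterMatrix.B m) ⟨m - 1, by omega⟩ 8 (PSU N F 2) := by
  have : Fact (Nat.Prime 2) := ⟨Nat.prime_two⟩
  have := charTwo_of_four hF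
  have hN3 : 3 ≤ N := by omega
  obtain ⟨W, d, hd, hW⟩ := exists_wframe_odd hF hN
  obtain ⟨p0, hp0, -⟩ := exists_adm hF W
  have hA : AmbT (toFrame W) 2 (KInstU.model hF hN3 W).I := AmbT.of_amb (amb_U hF W) 2
  have hi : ¬ ((⟨m - 1, by omega⟩ : Fin m) : ℕ) + 1 < m := by simp only; omega
  refine ⟨_, _, _, _, _, rg_model (KInstU.model hF hN3 W) hA hp0 (by omega), ?_, inv_U hF hN3 W hA hi⟩
  rw [card_Z _ hA hi, card_adm, card_V0_odd hF hd hW]
  norm_num

/-- **`PSU_4(2)`.** -/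
theorem hasRc_PSU4_two : HasRc (CoxeterMatrix.B 2) (fun c => ∀ i : Fin 2, (i : ℕ) + 1 = 2 → c i = 2) (PSU 4 F 2) := by
  have := charTwo_of_four hF
  refine (hasRc_PSU_even hF (m := 2) rfl (by omega)).mono fun c hc i hi => ?_
  rw [hc i, if_neg (by omega)]

/-- **`PSU_5(2)`.** -/
theorem hasRc_PSU5_two : HasRc (CoxeterMatrix.B 2) (fun c => c 1 = 8) (PSU 5 F 2) :=
  (hasInv_PSU_odd hF (m := 2) rfl (by omega)).hasRc

end UnitaryTwo

end Cfsg.Agent.Omega.ML.Ex.Lie2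

end

-- merged: Cfsg.Agent.Mrg.Omega.ML.Ex.Lie2.Small
section

/-!
# `PSU₄(2)` and `PSU₅(2)` (helper72)

* `inv2_le_two` : at most one involution, at most two elements with `u * u = 1`;
* `dt_rg` : the data of a Witt model, all nodes except the last one perfect;
* **`di_PSU_even`, `di_PSU_odd`** : `PSU_N(2)`, at most two elements with `u * u = 1` in the last root group;
* **`di_PSU45`** : the leaf `psu2`.
-/

set_option autoImplicit false
set_option linter.unusedSectionVars false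

namespace Cfsg.Agent.Omega.ML.Ex.Lie2

open Cfsg
open Subgroup CoxeterSystem Cfsg.Agent.ChevalleyStructure.CoxeterGeom Cfsg.Agent.Tits.Roots Cfsg.Agent.Tits.Core
  Cfsg.Agent.Nodes.Comb Cfsg.Agent.Nodes.Reps Cfsg.Agent.Nodes.BNOf
open Cfsg.Agent.Nodes Cfsg.Agent.Nodes.WittAll Cfsg.Agent.Nodes.WittU Cfsg.Agent.Nodes.WittRoot
  Cfsg.Agent.TitsThree Cfsg.Agent.TitsThree.Siegel Cfsg.Agent.TitsThree.SiegelGen
  Cfsg.Agent.TitsThree.WittFrame Cfsg.Agent.TitsThree.WBridge Cfsg.Agent.TitsThree.FrameCN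
  Cfsg.Agent.Omega.EH3.Kf
open Cfsg.Agent.LieClassical.HermBasic Cfsg.Agent.TitsThree.KSideU

universe u

/-- at most one involution, at most two elements of order at most two -/
theorem card_inv_le {G : Type*} [Group G] {S : Subgroup G}
    (h : ∃ z : G, ∀ u ∈ S, u * u = 1 → u = 1 ∨ u = z) : Nat.card {u : G // u ∈ S ∧ u * u = 1} ≤ 2 := by
  obtain ⟨z, hz⟩ := h
  have h1 : Set.Finite {u : G | u = 1 ∨ u = z} := (Set.finite_singleton z).insert 1
  have h2 : Nat.card {u : G | u = 1 ∨ u = z} ≤ 2 := by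
    have h3 : {u : G | u = 1 ∨ u = z} = ({1, z} : Set G) := rfl
    rw [h3, Nat.card_coe_set_eq]
    exact Set.ncard_insert_le 1 {z} |>.trans (by rw [Set.ncard_singleton])
  refine le_trans ?_ h2
  have := h1.to_subtype
  exact Nat.card_le_card_of_injective (fun u : {u : G // u ∈ S ∧ u * u = 1} =>
    (⟨u.1, hz u.1 u.2.1 u.2.2⟩ : {u : G | u = 1 ∨ u = z})) fun x y e => Subtype.ext (congrArg (fun z => z.1) e)

theorem inv2_le_two {G : Type*} [Group G] {S : Subgroup G}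
    (h : ∃ z : G, ∀ u ∈ S, u * u = 1 → u = 1 ∨ u = z) : inv2 S ≤ 2 := card_inv_le h

/-- the datum for `T`, at most two elements with `u * u = 1` -/
theorem HasInv.exists_rf' {X : Type u} [Group X] [Finite X] {K T : Subgroup X} {l : ℕ} {Mx : CoxeterMatrix (Fin l)}
    {i : Fin l} {r : ℕ} (hK : K.Normal) (hT : IsPGroup 2 T) (hTi : ¬ 2 ∣ T.index)
    (hD : HasInv Mx i r K) : ∃ (Ac : Fin l → Fin l → ℤ) (h : IsCartan Mx Ac) (Tor : Subgroup K) (n : Fin l → K)
      (Xr : (Fin l → ℤ) → Subgroup K), RF K T h Tor n Xr ∧ Nat.card (Xr (sr i)) = r ∧ inv2 (Xr (sr i)) ≤ 2 := by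
  obtain ⟨Ac, h, Tor, n, Xr, D, hr, hz⟩ := hD.exists_rf hK hT hTi
  exact ⟨Ac, h, Tor, n, Xr, D, hr, inv2_le_two hz⟩

section model

variable {F : Type*} [Field F] {V : Type*} [AddCommGroup V] [Module F V] {H : HForm F V} {n : ℕ}
  {Fr : Frame H (Fin n)} {K : Type*} [Group K] (M : Model Fr K)

/-- the data of a Witt model, all nodes except the last one perfect -/
theorem dt_rg [CharP F 2] [Finite K] [Finite V] (hA : AmbT Fr 2 M.I) (hn : 0 < n) {p0 : Fr.Adm} (hp0 : p0.c ≠ 0)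
    (G : TwC.Gd (WittModel.X M)) {t : F} (ht0 : t ≠ 0) (ht1 : t ≠ 1) :
    Dt (Mx := CoxeterMatrix.B n) (Nodes.TypeC.isCartan n) (WittModel.T M)
      (fun i => M.φ ⟨WittRGD.nn Fr p0 i, nn_mem hA p0 i⟩) (WittModel.X M) (fun i => (i : ℕ) + 1 < n) where
  toRg := rg_model M hA hp0 hn
  comm := commGen_model M G
  perf := fun _ hi => node_one M hA hi ht0 ht1

end model

section UnitaryTwo

variable {F : Type*} [Field F] [Fintype F] {N : ℕ}

/-- **`PSU_{2m}(2)`.** -/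
theorem di_PSU_even (hF : Fintype.card F = 2 ^ 2) {m : ℕ} (hm : 2 ≤ m) (hN : N = 2 * m) :
    HasDi (CoxeterMatrix.B m) (fun i => (i : ℕ) + 1 < m) (fun c => ∀ i : Fin m, (i : ℕ) + 1 = m → c i ≤ 2)
      (PSU N F 2) := by
  subst hN
  have hN : 3 ≤ 2 * m := by omega
  have : Fact (Nat.Prime 2) := ⟨Nat.prime_two⟩
  have := charTwo_of_four hF
  have : Finite (PSU (2 * m) F 2) := Quotient.finite _
  obtain ⟨W, hW⟩ := exists_wframe_even (N := 2 * m) hF rfl
  obtain ⟨p0, hp0, -⟩ := exists_adm hF W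
  have hA : AmbT (toFrame W) 2 (KInstU.model hF hN W).I := AmbT.of_amb (amb_U hF W) 2
  obtain ⟨t, ht0, ht1⟩ := exists_ne (two_lt hF)
  exact ⟨_, _, _, _, _, dt_rg (KInstU.model hF hN W) hA (by omega) hp0
    (TwWitt.gd_of_tr _ (TwUni.htr hF W hW) hp0) ht0 ht1, fun i hi => inv2_le_two (inv_U hF hN W hA (by omega))⟩

/-- **`PSU_{2m+1}(2)`.** -/
theorem di_PSU_odd (hF : Fintype.card F = 2 ^ 2) {m : ℕ} (hm : 1 ≤ m) (hN : N = 2 * m + 1) :
    HasDi (CoxeterMatrix.B m) (fun i => (i : ℕ) + 1 < m) (fun c => ∀ i : Fin m, (i : ℕ) + 1 = m → c i ≤ 2)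
      (PSU N F 2) := by
  subst hN
  have hN : 3 ≤ 2 * m + 1 := by omega
  have : Fact (Nat.Prime 2) := ⟨Nat.prime_two⟩
  have := charTwo_of_four hF
  have : Finite (PSU (2 * m + 1) F 2) := Quotient.finite _
  obtain ⟨W, d, hd, hW⟩ := exists_wframe_odd (N := 2 * m + 1) hF rfl
  obtain ⟨p0, hp0, -⟩ := exists_adm hF W
  have hA : AmbT (toFrame W) 2 (KInstU.model hF hN W).I := AmbT.of_amb (amb_U hF W) 2
  obtain ⟨t, ht0, ht1⟩ := exists_ne (two_lt hF)
  have hdd : (HU hF (2 * m + 1)).h d d ≠ 0 := by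
    have h1 : (HU hF (2 * m + 1)).h d d = 1 := hd
    rw [h1]
    exact one_ne_zero
  exact ⟨_, _, _, _, _, dt_rg (KInstU.model hF hN W) hA (by omega) hp0
    (UOdd.gd _ ⟨d, hdd, UOdd.exists_ok hF W hW⟩) ht0 ht1,
    fun i hi => inv2_le_two (inv_U hF hN W hA (by omega))⟩

theorem HasDi.mono {l : ℕ} {Mx : CoxeterMatrix (Fin l)} {pf pf' : Fin l → Prop} {P P' : (Fin l → ℕ) → Prop}
    {G : Type*} [Group G] (hG : HasDi Mx pf P G) (hp : ∀ i, pf' i → pf i) (hP : ∀ c, P c → P' c) :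
    HasDi Mx pf' P' G := by
  obtain ⟨Ac, h, Tor, n, Xr, D, hr⟩ := hG
  exact ⟨Ac, h, Tor, n, Xr, { toRg := D.toRg, comm := D.comm, perf := fun i hi => D.perf i (hp i hi) }, hP _ hr⟩

/-- **The leaf `psu2`: `PSU₄(2)`, `PSU₅(2)`.** -/
theorem di_PSU45 (hF : Fintype.card F = 4) (hN : N = 4 ∨ N = 5) :
    HasDi (CoxeterMatrix.B 2) (fun i => i = 0) (fun c => c 1 < 4) (PSU N F 2) := by
  have hF' : Fintype.card F = 2 ^ 2 := hF.trans (by norm_num)
  rcases hN with rfl | rfl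
  · exact (di_PSU_even (N := 4) (m := 2) hF' le_rfl rfl).mono (by decide) fun c hc =>
      lt_of_le_of_lt (hc 1 rfl) (by norm_num)
  · exact (di_PSU_odd (N := 5) (m := 2) hF' (by norm_num) rfl).mono (by decide) fun c hc =>
      lt_of_le_of_lt (hc 1 rfl) (by norm_num)

end UnitaryTwo

end Cfsg.Agent.Omega.ML.Ex.Lie2

end

-- merged: Cfsg.Agent.Mrg.Omega.ML.Ex.WallSemi
section

/-!
# (ML), exact rows of Lie type in characteristic two: the semiregularity part of the WALL THEOREM (#22477 (5))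

`K` is a simple normal subgroup of `H` with a building, `C_H(K) = 1`.

* `eq_one_of_rigid` : an element of `H` which fixes all panels of `c` pointwise and one chamber opposite `c` is trivial;
* `mem_U_of_E1` : **an element of `H` which fixes all panels of `c` pointwise lies in `U c ≤ K`** (so low elements
  are in `K`, no field or graph automorphisms);
* `fix_near`, `fix_up` : walking away from a wall `ρ`;
* `semi` : if `x` fixes pointwise all panels which it stabilises and which are not on the wall `ρ`, and fixes one chamber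
  behind the wall `ρ`, then `x = 1`;
* `card_le` : a group `D` of such elements has order at most `q` (`q + 1` the size of a panel on `ρ`).
-/

set_option autoImplicit false
set_option linter.unusedSectionVars false

namespace Cfsg.Agent.Omega.ML.Ex.WallSemi

open Cfsg.Agent.Tits.Core Cfsg.Agent.Tits.Core.Bldg Cfsg.Agent.Tits.Exchange Cfsg.Agent.Tits
open Cfsg.Agent.FixBN Cfsg.Agent.FixBN.Cox Cfsg.Agent.UGT.U2.FOne Cfsg.Agent.ZN
open Cfsg.Agent.Omega.ML.LieRow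

variable {I : Type*} {M : CoxeterMatrix I} {W : Type*} [Group W] {cs : CoxeterSystem M W} {C : Type*}
  {Δ : Bldg cs C}

local prefix:100 "ℓ" => cs.length

/-! ### Walking -/

section walk

variable {f : C → C} {c : C} {ρ : W}

/-- if `ρ` is a left inversion of `u`, `u v` reduced, then it is one of `u v` -/
theorem inv_mono {u v : W} (h : ℓ (ρ * u) < ℓ u) (hl : ℓ (u * v) = ℓ u + ℓ v) : ℓ (ρ * (u * v)) < ℓ (u * v) := by
  have h1 := cs.length_mul_le (ρ * u) v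
  rw [mul_assoc] at h1
  omega

/-- the chambers behind the wall -/
theorem fix_up (fw : ∀ z, f z = z → ∀ k, Δ.δ c z * cs.simple k * (Δ.δ c z)⁻¹ ≠ ρ → ∀ y ∈ Δ.Pan k z, f y = y)
    {z : C} (hz : f z = z) (hi : ℓ (ρ * Δ.δ c z) < ℓ (Δ.δ c z)) :
    ∀ n : ℕ, ∀ y, ℓ (Δ.δ z y) = n → ℓ (Δ.δ c z * Δ.δ z y) = ℓ (Δ.δ c z) + ℓ (Δ.δ z y) → f y = y := by
  intro n
  induction n with
  | zero =>
    intro y hy _
    rw [cs.length_eq_zero_iff] at hy
    rw [← Δ.eq_of_δ_eq_one hy, hz]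
  | succ n ih =>
    intro y hy hl
    have hne : Δ.δ z y ≠ 1 := by
      intro h
      rw [h, cs.length_one] at hy
      omega
    obtain ⟨k, hk⟩ := cs.exists_rightDescent_of_ne_one hne
    have hk' : ℓ (Δ.δ z y * cs.simple k) < ℓ (Δ.δ z y) := hk
    have hk2 : ℓ (Δ.δ z y * cs.simple k) + 1 = ℓ (Δ.δ z y) := by
      rcases cs.length_mul_simple (Δ.δ z y) k with h | h
      · omega
      · exact h
    obtain ⟨y', hy1, hy2⟩ := Δ.exists_between (x := z) (z := y) (v := Δ.δ z y * cs.simple k) (w := cs.simple k)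
      (by rw [cs.simple_mul_simple_cancel_right]) (by
        rw [cs.simple_mul_simple_cancel_right, cs.length_simple]; omega)
    have hl' : ℓ (Δ.δ c z * Δ.δ z y') = ℓ (Δ.δ c z) + ℓ (Δ.δ z y') := by
      have h1 := cs.length_mul_le (Δ.δ c z) (Δ.δ z y')
      have h2 := cs.length_mul_le (Δ.δ c z * Δ.δ z y') (cs.simple k)
      rw [hy1, mul_assoc, cs.simple_mul_simple_cancel_right, cs.length_simple] at h2
      rw [hy1] at h1 ⊢
      omega
    have h3 : f y' = y' := ih y' (by rw [hy1]; omega) hl'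
    have h4 : Δ.δ c y' = Δ.δ c z * Δ.δ z y' := Δ.δ_mul hl'
    refine fw y' h3 k ?_ y (Or.inr hy2)
    intro h5
    have h6 := inv_mono hi hl'
    have h7 : ρ * Δ.δ c y' = Δ.δ c y' * cs.simple k := by
      rw [← h5]
      group
    rw [← h4, h7, h4, mul_assoc, hy1, cs.simple_mul_simple_cancel_right, hl] at h6
    rw [hy1] at hl'
    omega

/-- the chambers before the wall -/
theorem fix_near (fw : ∀ z, f z = z → ∀ k, Δ.δ c z * cs.simple k * (Δ.δ c z)⁻¹ ≠ ρ → ∀ y ∈ Δ.Pan k z, f y = y)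
    (hc : f c = c) : ∀ n : ℕ, ∀ z, ℓ (Δ.δ c z) = n → ¬ ℓ (ρ * Δ.δ c z) < ℓ (Δ.δ c z) → f z = z := by
  intro n
  induction n with
  | zero =>
    intro z hz _
    rw [cs.length_eq_zero_iff] at hz
    rw [← Δ.eq_of_δ_eq_one hz, hc]
  | succ n ih =>
    intro z hz hi
    have hne : Δ.δ c z ≠ 1 := by
      intro h
      rw [h, cs.length_one] at hz
      omega
    obtain ⟨k, hk⟩ := cs.exists_rightDescent_of_ne_one hne
    have hk2 : ℓ (Δ.δ c z * cs.simple k) + 1 = ℓ (Δ.δ c z) := by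
      have hk' : ℓ (Δ.δ c z * cs.simple k) < ℓ (Δ.δ c z) := hk
      rcases cs.length_mul_simple (Δ.δ c z) k with h | h
      · omega
      · exact h
    obtain ⟨z', hz1, hz2⟩ := Δ.exists_between (x := c) (z := z) (v := Δ.δ c z * cs.simple k) (w := cs.simple k)
      (by rw [cs.simple_mul_simple_cancel_right]) (by
        rw [cs.simple_mul_simple_cancel_right, cs.length_simple]; omega)
    have e : Δ.δ c z = Δ.δ c z' * cs.simple k := by rw [hz1, cs.simple_mul_simple_cancel_right]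
    have h3 : f z' = z' := by
      apply ih z' (by rw [hz1]; omega)
      intro h4
      apply hi
      rw [e]
      apply inv_mono h4
      rw [cs.length_simple, ← e, hz1]
      omega
    refine fw z' h3 k ?_ z (Or.inr hz2)
    intro h5
    apply hi
    have h6 : ρ * Δ.δ c z = Δ.δ c z' := by
      rw [← h5, e]
      calc Δ.δ c z' * cs.simple k * (Δ.δ c z')⁻¹ * (Δ.δ c z' * cs.simple k)
          = Δ.δ c z' * (cs.simple k * cs.simple k) := by group
        _ = Δ.δ c z' := by rw [cs.simple_mul_simple_self, mul_one]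
    rw [h6, hz1]
    omega

end walk

/-! ### Rigidity -/

section rigid

variable {H : Type*} [Group H] {K : Subgroup H} [MulAction K C] (A : HAct Δ K)
  [F : OppRes.Cox cs] (S : Sys Δ K 2)

include A S

/-- an element which fixes the panels of `c` pointwise preserves the types -/
theorem φ_of_E1 [Nonempty I] (hth : Δ.Thick) {x : H} {c : C} (hxP : ∀ i, ∀ y ∈ Δ.Pan i c, A.θ x y = y) (w : W) :
    A.φ x w = w := by
  have hxc : A.θ x c = c := hxP (Classical.arbitrary I) c (Δ.self_mem_Pan _ c)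
  have h1 : ∀ i, A.φ x (cs.simple i) = cs.simple i := by
    intro i
    obtain ⟨y, -, -, hy, -⟩ := hth c i
    rw [← hy, ← A.δ_θ, hxc, hxP i y (Δ.mem_Pan_of_δ hy)]
  obtain ⟨ω, rfl⟩ := cs.wordProd_surjective w
  induction ω with
  | nil => simp
  | cons i ω ih => rw [cs.wordProd_cons, map_mul, ih, h1]

/-- **Rigidity.** -/
theorem eq_one_of_rigid [K.Normal] [Nonempty I] [IsSimpleGroup K] (hth : Δ.Thick)
    (hC : ∀ h : H, (∀ k ∈ K, h * k = k * h) → h = 1) {x : H} {c d : C}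
    (hxP : ∀ i, ∀ y ∈ Δ.Pan i c, A.θ x y = y) (hd : Δ.Opp c d) (hxd : A.θ x d = d) : x = 1 := by
  have : Nonempty C := ⟨c⟩
  have hφ : ∀ w, A.φ x w = w := φ_of_E1 A S hth hxP
  have hiso : ∀ a b, Δ.δ (A.θ x a) (A.θ x b) = Δ.δ a b := fun a b => by rw [A.δ_θ, hφ]
  have hall : ∀ y, A.θ x y = y := by
    intro y
    refine Rigid.rigid (Δ := Δ) (Δ' := Δ) hth (φ := fun y => A.θ x y) (ψ := fun y => y) (J := Set.univ) (c := c)
      (d := d) (fun a _ b _ => hiso a b) (fun a _ b _ => rfl) (fun i _ y hy => hxP i y hy) hd hxd y ?_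
    rw [Δ.Res_univ]; trivial
  apply hC
  intro k hk
  have h1 : (MulAut.conjNormal x ⟨k, hk⟩ : K) = ⟨k, hk⟩ := by
    rw [← mul_inv_eq_one]
    apply eq_one_of_smul S hth
    intro y
    rw [mul_smul]
    have h2 := θ_conj A S x ⟨k, hk⟩ ((⟨k, hk⟩ : K)⁻¹ • y)
    rw [smul_inv_smul, hall, hall] at h2
    exact h2.symm
  have h2 := congrArg Subtype.val h1
  rw [MulAut.conjNormal_apply] at h2
  exact mul_inv_eq_iff_eq_mul.1 h2

/-- **An element which fixes all panels of `c` pointwise lies in `U c`.** -/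
theorem mem_U_of_E1 [K.Normal] [Nonempty I] [IsSimpleGroup K] (hth : Δ.Thick)
    (hC : ∀ h : H, (∀ k ∈ K, h * k = k * h) → h = 1) {x : H} {c : C}
    (hxP : ∀ i, ∀ y ∈ Δ.Pan i c, A.θ x y = y) : ∃ u ∈ S.U c, (u : H) = x := by
  have : Nonempty C := ⟨c⟩
  have hxc : A.θ x c = c := hxP (Classical.arbitrary I) c (Δ.self_mem_Pan _ c)
  have hφ : ∀ w, A.φ x w = w := φ_of_E1 A S hth hxP
  have hiso : ∀ a b, Δ.δ (A.θ x a) (A.θ x b) = Δ.δ a b := fun a b => by rw [A.δ_θ, hφ]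
  obtain ⟨d, hd⟩ := Δ.exists_δ c (w0 cs)
  have hd' : Δ.Opp c (A.θ x d) := by
    change Δ.δ c (A.θ x d) = w0 cs
    have h1 := hiso c d
    rw [hxc] at h1
    rw [h1, hd]
  obtain ⟨u, hu, hud⟩ := S.trans c d (A.θ x d) hd hd'
  refine ⟨u, hu, ?_⟩
  have huc : u • c = c := S.fix c u hu
  -- `u` fixes the panels of `c`
  have hpan : ∀ i, ∀ y ∈ Δ.Pan i c, u • y = y := by
    intro i
    set p := Δ.proj {i} c d with hp
    have hpm : p ∈ Δ.Pan i c := by
      rw [Δ.Pan_eq_Res]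
      exact Δ.proj_mem {i} c d
    have hproj := Δ.isProj_proj {i} c d
    rw [← hp] at hproj
    -- the projection of `θ x d`
    have h1 : Δ.IsProj {i} c (A.θ x d) p := by
      refine ⟨hproj.1, fun a ha => ?_⟩
      have ha' : A.θ x a = a := hxP i a (by rw [Δ.Pan_eq_Res]; exact ha)
      have hp' : A.θ x p = p := hxP i p hpm
      have e1 : Δ.δ (A.θ x d) a = Δ.δ d a := by
        have h2 := hiso d a
        rwa [ha'] at h2
      have e2 : Δ.δ (A.θ x d) p = Δ.δ d p := by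
        have h2 := hiso d p
        rwa [hp'] at h2
      rw [e1, e2]
      exact hproj.2 a ha
    have h2 : Δ.IsProj {i} c (u • d) (u • p) := by
      refine ⟨?_, fun a ha => ?_⟩
      · rw [mem_Res]
        have h3 := S.iso u c p
        rw [huc] at h3
        rw [h3]
        exact hproj.1
      · have h3 : u⁻¹ • a ∈ Δ.Res {i} c := by
          rw [mem_Res]
          have h4 := S.iso u⁻¹ c a
          have h5 : u⁻¹ • c = c := inv_smul_eq_iff.2 huc.symm
          rw [h5] at h4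
          rw [h4]
          exact ha
        have h4 := hproj.2 _ h3
        have e1 : Δ.δ (u • d) a = Δ.δ d (u⁻¹ • a) := by
          rw [← S.iso u d (u⁻¹ • a), smul_inv_smul]
        have e2 : Δ.δ (u • p) a = Δ.δ p (u⁻¹ • a) := by
          rw [← S.iso u p (u⁻¹ • a), smul_inv_smul]
        have e3 : Δ.δ (u • d) (u • p) = Δ.δ d p := S.iso u d p
        rw [e1, e2, e3]
        exact h4
    rw [hud] at h2
    have h3 : u • p = p := by
      rw [← Δ.proj_eq_of_isProj h2, Δ.proj_eq_of_isProj h1]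
    have hne : p ≠ c := by
      intro h4
      have h5 := hproj.isMinR
      rw [isMinR_iff] at h5
      have h6 := h5 i rfl
      rw [h4, Δ.symm c d, hd, F.w0_inv] at h6
      have h7 := F.len_mul_w0 (cs.simple i)
      have h8 := F.len_w0_mul (cs.simple i)
      rw [cs.length_simple] at h8
      omega
    have h4 : Δ.δ c p = cs.simple i := by
      rcases hpm with h | h
      · exact absurd h hne
      · exact h
    intro y hy
    exact S.pan c p i h4 u hu h3 y hy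
  -- `u⁻¹ x` is trivial
  have h1 : (u : H)⁻¹ * x = 1 := by
    refine eq_one_of_rigid A S hth hC (c := c) (d := d) ?_ hd ?_
    · intro i y hy
      rw [A.θ_mul, hxP i y hy]
      have h2 := A.θ_K u y
      rw [hpan i y hy] at h2
      have h3 := A.θ_inv_θ (u : H) y
      rw [h2] at h3
      exact h3
    · rw [A.θ_mul]
      have h2 := A.θ_K u d
      rw [hud] at h2
      rw [← h2, A.θ_inv_θ]
  have h2 := inv_mul_eq_one.1 h1
  exact h2

end rigid

/-! ### Semiregularity -/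

section semi

variable {H : Type*} [Group H] {K : Subgroup H} [MulAction K C] (A : HAct Δ K)
  [F : OppRes.Cox cs] (S : Sys Δ K 2) {c : C} {ρ : W}

include A S

/-- **Semiregularity.** -/
theorem semi [K.Normal] [Nonempty I] [IsSimpleGroup K] (hth : Δ.Thick)
    (hC : ∀ h : H, (∀ k ∈ K, h * k = k * h) → h = 1) {x : H} (hxP : ∀ i, ∀ y ∈ Δ.Pan i c, A.θ x y = y)
    (fw : ∀ z, A.θ x z = z → ∀ k, Δ.δ c z * cs.simple k * (Δ.δ c z)⁻¹ ≠ ρ → ∀ y ∈ Δ.Pan k z, A.θ x y = y)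
    {z : C} (hz : A.θ x z = z) (hi : ℓ (ρ * Δ.δ c z) < ℓ (Δ.δ c z)) : x = 1 := by
  obtain ⟨d, hd⟩ := Δ.exists_δ z ((Δ.δ c z)⁻¹ * w0 cs)
  have hl : ℓ (Δ.δ c z * Δ.δ z d) = ℓ (Δ.δ c z) + ℓ (Δ.δ z d) := by
    have h1 := F.len_mul_w0 (Δ.δ c z)⁻¹
    rw [cs.length_inv] at h1
    rw [hd, mul_inv_cancel_left]
    omega
  have h1 : A.θ x d = d := fix_up (f := fun y => A.θ x y) fw hz hi _ d rfl hl
  refine eq_one_of_rigid A S hth hC hxP (d := d) ?_ h1
  change Δ.δ c d = w0 cs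
  rw [Δ.δ_mul hl, hd, mul_inv_cancel_left]

/-- **The order of a group of such elements.** -/
theorem card_le [K.Normal] [Nonempty I] [IsSimpleGroup K] [Finite C] (hth : Δ.Thick)
    (hC : ∀ h : H, (∀ k ∈ K, h * k = k * h) → h = 1) {D : Subgroup H}
    (hxP : ∀ x ∈ D, ∀ i, ∀ y ∈ Δ.Pan i c, A.θ x y = y)
    (fw : ∀ x ∈ D, ∀ z, A.θ x z = z → ∀ k, Δ.δ c z * cs.simple k * (Δ.δ c z)⁻¹ ≠ ρ → ∀ y ∈ Δ.Pan k z, A.θ x y = y)
    {v : W} {j : I} (hv : v * cs.simple j * v⁻¹ = ρ) (hlt : ℓ v < ℓ (v * cs.simple j)) {q : ℕ}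
    (hq : ∀ x, Nat.card (Δ.Pan j x) = q + 1) : Nat.card D ≤ q := by
  classical
  have hvj : ℓ (v * cs.simple j) = ℓ v + 1 := by
    rcases cs.length_mul_simple v j with h | h
    · exact h
    · omega
  obtain ⟨y', hy'⟩ := Δ.exists_δ c v
  obtain ⟨z, hyz, hcz⟩ := Δ.exists_step c y' j
  have hzl : Δ.δ c z = v * cs.simple j := by rw [hcz, hy']
  have e1 : ρ * v = v * cs.simple j := by rw [← hv]; group
  have e2 : ρ * (v * cs.simple j) = v := by
    rw [← hv]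
    calc v * cs.simple j * v⁻¹ * (v * cs.simple j) = v * (cs.simple j * cs.simple j) := by group
      _ = v := by rw [cs.simple_mul_simple_self, mul_one]
  have hxc : ∀ x ∈ D, A.θ x c = c := fun x hx => hxP x hx (Classical.arbitrary I) c (Δ.self_mem_Pan _ c)
  have hfy : ∀ x ∈ D, A.θ x y' = y' := by
    intro x hx
    refine fix_near (f := fun y => A.θ x y) (fw x hx) (hxc x hx) _ y' rfl ?_
    rw [hy', e1]
    omega
  have hiso : ∀ x ∈ D, ∀ a b, Δ.δ (A.θ x a) (A.θ x b) = Δ.δ a b := fun x hx a b => by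
    rw [A.δ_θ, φ_of_E1 A S hth (hxP x hx)]
  let g : D → {y : Δ.Pan j y' // (y : C) ≠ y'} := fun x =>
    ⟨⟨A.θ (x : H) z, by
      have h1 := hiso x x.2 y' z
      rw [hfy x x.2, hyz] at h1
      exact Or.inr h1⟩, by
      intro h
      have h1 : A.θ (x : H) z = A.θ (x : H) y' := by rw [hfy x x.2]; exact h
      exact Δ.ne_of_δ_simple hyz (A.θ_inj _ h1).symm⟩
  have hg : Function.Injective g := by
    rintro ⟨x, hx⟩ ⟨y, hy⟩ h
    have h1 : A.θ x z = A.θ y z := congrArg Subtype.val (congrArg Subtype.val h)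
    have h2 : y⁻¹ * x = 1 := by
      refine semi A S hth hC (hxP _ (D.mul_mem (D.inv_mem hy) hx)) (fw _ (D.mul_mem (D.inv_mem hy) hx)) (z := z) ?_ ?_
      · rw [A.θ_mul, h1, A.θ_inv_θ]
      · rw [hzl, e2]
        omega
    exact Subtype.ext (inv_mul_eq_one.1 h2).symm
  have hfin : Finite {y : Δ.Pan j y' // (y : C) ≠ y'} := inferInstance
  have h1 := Nat.card_le_card_of_injective g hg
  have h2 : Nat.card {y : Δ.Pan j y' // (y : C) ≠ y'} + 1 = Nat.card (Δ.Pan j y') := by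
    have h3 : Nat.card {y : Δ.Pan j y' // ¬ (y : C) ≠ y'} = 1 := by
      have : Unique {y : Δ.Pan j y' // ¬ (y : C) ≠ y'} :=
        ⟨⟨⟨⟨y', Δ.self_mem_Pan j y'⟩, not_not.2 rfl⟩⟩, fun a => Subtype.ext (Subtype.ext (not_not.1 a.2))⟩
      exact Nat.card_unique
    have h4 := Nat.card_congr (Equiv.sumCompl (fun y : Δ.Pan j y' => (y : C) ≠ y'))
    rw [Nat.card_sum, h3] at h4
    exact h4
  rw [hq] at h2
  omega

end semi

end Cfsg.Agent.Omega.ML.Ex.WallSemi

end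

-- merged: Cfsg.Agent.Mrg.Omega.ML.Ex.WallSemiB
section

/-!
# The WALL THEOREM, part (5): one non-trivial wall

* `fix_all` : the members of `F` in `O₂(D₁)` fix pointwise all panels on trivial walls which they stabilise;
* `card_le_of_wall` : if there is only one non-trivial wall `ρ = v s_j v⁻¹` for the type of `D₁`, then a member of `F` in
  `O₂(D₁)` has order at most `q`, `q + 1` the size of the panels of type `j`;
* `free_of_wall` : it acts freely on the chambers `≠ y'` of a panel `Pan j y'`, fixing `y'`;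
* `exists_rho` : type `B_n` : the exceptional reflection is conjugate to the last simple reflection;
* `card_le_B`, `free_B` : type `B_n`, `J₁` the complement of the first node.
-/

set_option autoImplicit false
set_option linter.unusedSectionVars false

namespace Cfsg.Agent.Omega.ML.Ex.WallSemi

open Cfsg.Agent.Tits.Core Cfsg.Agent.Tits.Core.Bldg Cfsg.Agent.Tits.Exchange Cfsg.Agent.Tits
open Cfsg.Agent.FixBN Cfsg.Agent.FixBN.Cox Cfsg.Agent.UGT.U2.FOne Cfsg.Agent.ZN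
open Cfsg.Agent.Omega.ML.LieRow Cfsg.Agent.Omega.ML.Ex.Wall
open Cfsg.Agent.MinSimple.VModule (o2_isPGroup o2_le le_o2 le_normalizer_o2 o2_le_of_sylow mem_normalizer_of_map_le)

variable {I : Type*} {M : CoxeterMatrix I} {W : Type*} [Group W] {cs : CoxeterSystem M W} {C : Type*}
  {Δ : Bldg cs C}

local prefix:100 "ℓ" => cs.length

section main

variable {H : Type*} [Group H] {K : Subgroup H} [MulAction K C] (A : HAct Δ K)
variable [F : OppRes.Cox cs] (S : Sys Δ K 2) {T : Subgroup H}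

include A S

variable [K.Normal] [Finite H] [Nonempty I] [IsSimpleGroup K] (hth : Δ.Thick)
  (hC : ∀ h : H, (∀ k ∈ K, h * k = k * h) → h = 1) (hT : IsPGroup 2 T) (hTi : ¬ 2 ∣ T.index)
  (hKT : K ⊔ T = ⊤) (htr : ¬ ∀ i j : I, ∃ t ∈ T, A.σ t i = j) {c : C} (hc : ∀ t ∈ T, A.θ t c = c)
  (hUc : S.U c = T.subgroupOf K) {FF : Set (Subgroup H)}
  (hinv : ∀ B ∈ FF, ∀ h : H, B.map (MulAut.conj h).toMonoidHom ∈ FF)

include hth hC hT hTi hKT htr hc hUc hinv

/-- the members of `F` in `O₂(D₁)` fix the residues of the chambers of the residue of `D₁` -/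
theorem fix_res {D₁ : Subgroup H} (hTD : T ≤ D₁)
    (la : ∀ B ∈ FF, B ≤ o2 D₁ → ∀ R : Subgroup H, T ≤ R → R ≠ ⊤ → B ≤ o2 R) {B : Subgroup H} (hB : B ∈ FF)
    (hBD : B ≤ o2 D₁) {b : H} (hb : b ∈ B) :
    ∀ x ∈ Δ.Res (tp Δ (D₁.subgroupOf K) c) c, ∀ L : Set I, A.Inv L → L ≠ Set.univ → ∀ y ∈ Δ.Res L x,
      A.θ b y = y := by
  have : Nonempty C := ⟨c⟩
  have hU : S.U c ≤ D₁.subgroupOf K := by
    rw [hUc]
    exact fun k hk => hTD hk
  intro x hx L hL hLu y hy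
  obtain ⟨g, hgD, rfl⟩ := exists_smul S hU hx
  have hgD' : (g : H) ∈ D₁ := hgD
  have hlowg : Low A c ((g : H)⁻¹ * b * (g : H)) := by
    have h1 := hinv B hB (g : H)⁻¹
    refine low_of_o2 A S hth hT hTi hKT htr hc (fun R hTR hR => la _ h1 ?_ R hTR hR ?_)
    · rintro _ ⟨b', hb', rfl⟩
      have h2 := le_normalizer_o2 D₁ (inv_mem hgD')
      exact (Subgroup.mem_normalizer_iff.1 h2 b').1 (hBD hb')
    · exact ⟨b, hb, by simp⟩
  have h2 : A.θ ((g : H)⁻¹) y ∈ Δ.Res L c := by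
    change Δ.δ c (A.θ ((g : H)⁻¹) y) ∈ WJ cs L
    have h3 : A.θ ((g : H)⁻¹) y = g⁻¹ • y := by
      rw [← Subgroup.coe_inv, A.θ_K]
    have hy' : Δ.δ (g • c) y ∈ WJ cs L := hy
    rw [h3]
    rw [← S.iso g, smul_inv_smul]
    exact hy'
  have h1 := hlowg.res L hL hLu _ h2
  have h3 : A.θ ((g : H)⁻¹ * b * g) (A.θ ((g : H)⁻¹) y) = A.θ ((g : H)⁻¹) (A.θ b y) := by
    rw [← A.θ_mul, ← A.θ_mul]
    congr 1
    group
  rw [h3] at h1
  exact A.θ_inj _ h1

/-- **Panels on trivial walls.** -/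
theorem fix_all {D₁ : Subgroup H} (hTD : T ≤ D₁)
    (la : ∀ B ∈ FF, B ≤ o2 D₁ → ∀ R : Subgroup H, T ≤ R → R ≠ ⊤ → B ≤ o2 R) {B : Subgroup H} (hB : B ∈ FF)
    (hBD : B ≤ o2 D₁) {b : H} (hb : b ∈ B) {z : C} (hz : A.θ b z = z) {k : I}
    (htriv : Triv A (tp Δ (D₁.subgroupOf K) c) (Δ.δ c z * cs.simple k * (Δ.δ c z)⁻¹)) :
    ∀ y ∈ Δ.Pan k z, A.θ b y = y := by
  have : Nonempty C := ⟨c⟩
  have hlow : Low A c b := low_of_o2 A S hth hT hTi hKT htr hc (fun R hTR hR => la B hB hBD R hTR hR hb)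
  exact fix_of_triv (A := A) hlow.iso (fix_res A S hth hC hT hTi hKT htr hc hUc hinv hTD la hB hBD hb) htriv hz

/-- **One non-trivial wall**: the order. -/
theorem card_le_of_wall [Finite C] {D₁ : Subgroup H} (hTD : T ≤ D₁)
    (la : ∀ B ∈ FF, B ≤ o2 D₁ → ∀ R : Subgroup H, T ≤ R → R ≠ ⊤ → B ≤ o2 R) {B : Subgroup H} (hB : B ∈ FF)
    (hBD : B ≤ o2 D₁) {ρ : W}
    (htriv : ∀ g k, g * cs.simple k * g⁻¹ ≠ ρ → Triv A (tp Δ (D₁.subgroupOf K) c) (g * cs.simple k * g⁻¹))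
    {v : W} {j : I} (hv : v * cs.simple j * v⁻¹ = ρ) {q : ℕ} (hq : ∀ x, Nat.card (Δ.Pan j x) = q + 1) :
    Nat.card B ≤ q := by
  have : Nonempty C := ⟨c⟩
  have hlow : ∀ b ∈ B, Low A c b := fun b hb =>
    low_of_o2 A S hth hT hTi hKT htr hc (fun R hTR hR => la B hB hBD R hTR hR hb)
  have fw : ∀ x ∈ B, ∀ z, A.θ x z = z → ∀ k, Δ.δ c z * cs.simple k * (Δ.δ c z)⁻¹ ≠ ρ → ∀ y ∈ Δ.Pan k z, A.θ x y = y :=
    fun x hx z hz k hk => fix_all A S hth hC hT hTi hKT htr hc hUc hinv hTD la hB hBD hx hz (htriv _ _ hk)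
  by_cases hlt : ℓ v < ℓ (v * cs.simple j)
  · exact card_le A S hth hC (fun x hx => (hlow x hx).pan) fw hv hlt hq
  · have h1 : ℓ (v * cs.simple j) < ℓ (v * cs.simple j * cs.simple j) := by
      rw [cs.simple_mul_simple_cancel_right]
      have := cs.length_mul_simple v j
      omega
    refine card_le A S hth hC (fun x hx => (hlow x hx).pan) fw (v := v * cs.simple j) (j := j) ?_ h1 hq
    rw [← hv, mul_inv_rev, cs.inv_simple]
    simp only [mul_assoc, cs.simple_mul_simple_cancel_left]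

/-- **One non-trivial wall**: the action on a panel. -/
theorem free_of_wall {D₁ : Subgroup H} (hTD : T ≤ D₁)
    (la : ∀ B ∈ FF, B ≤ o2 D₁ → ∀ R : Subgroup H, T ≤ R → R ≠ ⊤ → B ≤ o2 R) {B : Subgroup H} (hB : B ∈ FF)
    (hBD : B ≤ o2 D₁) {ρ : W}
    (htriv : ∀ g k, g * cs.simple k * g⁻¹ ≠ ρ → Triv A (tp Δ (D₁.subgroupOf K) c) (g * cs.simple k * g⁻¹))
    {v : W} {j : I} (hv : v * cs.simple j * v⁻¹ = ρ) :
    ∃ y', (∀ b ∈ B, A.θ b y' = y') ∧ ∀ b ∈ B, ∀ z, Δ.δ y' z = cs.simple j → A.θ b z = z → b = 1 := by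
  have : Nonempty C := ⟨c⟩
  obtain ⟨v, hv, hlt⟩ : ∃ v, v * cs.simple j * v⁻¹ = ρ ∧ ℓ v < ℓ (v * cs.simple j) := by
    by_cases hlt : ℓ v < ℓ (v * cs.simple j)
    · exact ⟨v, hv, hlt⟩
    · refine ⟨v * cs.simple j, ?_, ?_⟩
      · rw [← hv, mul_inv_rev, cs.inv_simple]
        simp only [mul_assoc, cs.simple_mul_simple_cancel_left]
      · rw [cs.simple_mul_simple_cancel_right]
        have := cs.length_mul_simple v j
        omega
  have hlow : ∀ b ∈ B, Low A c b := fun b hb =>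
    low_of_o2 A S hth hT hTi hKT htr hc (fun R hTR hR => la B hB hBD R hTR hR hb)
  have fw : ∀ x ∈ B, ∀ z, A.θ x z = z → ∀ k, Δ.δ c z * cs.simple k * (Δ.δ c z)⁻¹ ≠ ρ → ∀ y ∈ Δ.Pan k z, A.θ x y = y :=
    fun x hx z hz k hk => fix_all A S hth hC hT hTi hKT htr hc hUc hinv hTD la hB hBD hx hz (htriv _ _ hk)
  obtain ⟨y', hy'⟩ := Δ.exists_δ c v
  have e1 : ρ * v = v * cs.simple j := by rw [← hv]; group
  have e2 : ρ * (v * cs.simple j) = v := by
    rw [← hv]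
    calc v * cs.simple j * v⁻¹ * (v * cs.simple j) = v * (cs.simple j * cs.simple j) := by group
      _ = v := by rw [cs.simple_mul_simple_self, mul_one]
  refine ⟨y', fun b hb => ?_, fun b hb z hz hbz => ?_⟩
  · refine fix_near (f := fun y => A.θ b y) (fw b hb)
      ((hlow b hb).pan (Classical.arbitrary I) c (Δ.self_mem_Pan _ c)) _ y' rfl ?_
    rw [hy', e1]
    omega
  · have h1 : Δ.δ c z = v * cs.simple j := by
      rw [Δ.step_lt c y' z j hz (by rw [hy']; exact hlt), hy']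
    refine semi A S hth hC (hlow b hb).pan (fw b hb) hbz ?_
    rw [h1, e2]
    exact hlt

end main

/-! ### Type `B_n` -/

section TypeB

open Cfsg.Agent.Nodes.TypeC Cfsg.Agent.Nodes.Comb CoxeterSystem Cfsg.Agent.ChevalleyStructure.CoxeterGeom
  Cfsg.Agent.Tits.Roots

variable {n : ℕ} {W : Type*} [Group W] (cs : CoxeterSystem (CoxeterMatrix.B n) W)

/-- the exceptional reflection is conjugate to the last simple reflection -/
theorem exists_rho (hn : 0 < n) : ∃ v : W, ee (rep cs (isCartan n) v (sr ⟨n - 1, by omega⟩)) =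
    wt (⟨0, hn⟩, true) + wt (⟨0, hn⟩, true) := by
  have key : ∀ d : ℕ, ∀ q : Fin n, (q : ℕ) + d + 1 = n → ∃ v : W,
      ee (rep cs (isCartan n) v (sr ⟨n - 1, by omega⟩)) = wt (q, true) + wt (q, true) := by
    intro d
    induction d with
    | zero =>
      intro q hq
      refine ⟨1, ?_⟩
      have hq' : (⟨n - 1, by omega⟩ : Fin n) = q := Fin.ext (by simp only; omega)
      rw [map_one, Module.End.one_apply, hq', ee_sr, bt, nx, dif_neg (by omega)]
    | succ d ih =>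
      intro q hq
      obtain ⟨v, hv⟩ := ih ⟨(q : ℕ) + 1, by omega⟩ (by simp only; omega)
      refine ⟨cs.simple q * v, ?_⟩
      rw [rep_mul_apply, WallGood.ee_rep_simple cs hv q, sg_down (by omega)]
  exact key (n - 1) ⟨0, hn⟩ (by simp only; omega)

/-- **Type `B_n`** : all reflections but one are trivial for the complement of the first node. -/
theorem triv_B {C : Type*} {Δ : Bldg cs C} {H : Type*} [Group H] {K : Subgroup H} [MulAction K C] (A : HAct Δ K)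
    (hn : 2 ≤ n) (hLL : ∀ L : Set (Fin n), L ≠ Set.univ → A.Inv L) :
    ∃ v : W, ∀ g k, g * cs.simple k * g⁻¹ ≠ v * cs.simple ⟨n - 1, by omega⟩ * v⁻¹ →
      Triv A {k : Fin n | (k : ℕ) ≠ 0} (g * cs.simple k * g⁻¹) := by
  obtain ⟨v, hv⟩ := exists_rho cs (n := n) (by omega)
  refine ⟨v, fun g k hgk => ?_⟩
  rcases WallGood.trivB cs hn (LL := fun L => A.Inv L ∧ L ≠ Set.univ) (fun L hL => ⟨hLL L hL, hL⟩) g k with h | ⟨s, hs⟩
  · obtain ⟨w, hw, L, ⟨hL, hLu⟩, l, hl, m, hm, e⟩ := h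
    refine ⟨L, hL, hLu, w, hw, l, hl, m, hm, ?_⟩
    rw [e]
    group
  · exact absurd (WallGood.unique_of_ee cs hs hv) hgk

end TypeB

section rowB

variable {n : ℕ} {W : Type*} [Group W] {cs : CoxeterSystem (CoxeterMatrix.B n) W} {C : Type*} {Δ : Bldg cs C}
  {H : Type*} [Group H] {K : Subgroup H} [MulAction K C] (A : HAct Δ K)
  [F : OppRes.Cox cs] (S : Sys Δ K 2) {T : Subgroup H}

include A S

variable [K.Normal] [Finite H] [IsSimpleGroup K] (hth : Δ.Thick)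
  (hC : ∀ h : H, (∀ k ∈ K, h * k = k * h) → h = 1) (hT : IsPGroup 2 T) (hTi : ¬ 2 ∣ T.index)
  (hKT : K ⊔ T = ⊤) {c : C} (hc : ∀ t ∈ T, A.θ t c = c)
  (hUc : S.U c = T.subgroupOf K) {FF : Set (Subgroup H)}
  (hinv : ∀ B ∈ FF, ∀ h : H, B.map (MulAut.conj h).toMonoidHom ∈ FF)

include hth hC hT hTi hKT hc hUc hinv

/-- **Type `B_n`**, type of `D₁` the complement of the first node: `|B| ≤ q`. -/
theorem card_le_B [Finite C] (hn : 2 ≤ n) (hLL : ∀ L : Set (Fin n), L ≠ Set.univ → A.Inv L) {D₁ : Subgroup H}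
    (hTD : T ≤ D₁) (hJ : tp Δ (D₁.subgroupOf K) c = {k : Fin n | (k : ℕ) ≠ 0})
    (la : ∀ B ∈ FF, B ≤ o2 D₁ → ∀ R : Subgroup H, T ≤ R → R ≠ ⊤ → B ≤ o2 R) {B : Subgroup H} (hB : B ∈ FF)
    (hBD : B ≤ o2 D₁) {q : ℕ} (hq : ∀ x, Nat.card (Δ.Pan ⟨n - 1, by omega⟩ x) = q + 1) : Nat.card B ≤ q := by
  have : Nonempty (Fin n) := ⟨⟨0, by omega⟩⟩
  have htr : ¬ ∀ i j : Fin n, ∃ t ∈ T, A.σ t i = j := by
    intro h
    obtain ⟨t, -, ht⟩ := h ⟨0, by omega⟩ ⟨1, by omega⟩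
    have h1 : A.Inv ({⟨0, by omega⟩} : Set (Fin n)) := by
      apply hLL
      intro h2
      have h3 : (⟨1, by omega⟩ : Fin n) ∈ ({⟨0, by omega⟩} : Set (Fin n)) := by rw [h2]; trivial
      rw [Set.mem_singleton_iff, Fin.ext_iff] at h3
      simp at h3
    have h2 := h1 t _ rfl
    rw [ht, Set.mem_singleton_iff, Fin.ext_iff] at h2
    simp at h2
  obtain ⟨v, hv⟩ := triv_B cs A hn hLL
  refine card_le_of_wall A S hth hC hT hTi hKT htr hc hUc hinv hTD la hB hBD (v := v)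
    (ρ := v * cs.simple ⟨n - 1, by omega⟩ * v⁻¹) ?_ rfl hq
  intro g k hgk
  rw [hJ]
  exact hv g k hgk

/-- **Type `B_n`**, type of `D₁` the complement of the first node: `B` acts freely on `Pan ∖ {y'}`. -/
theorem free_B (hn : 2 ≤ n) (hLL : ∀ L : Set (Fin n), L ≠ Set.univ → A.Inv L) {D₁ : Subgroup H}
    (hTD : T ≤ D₁) (hJ : tp Δ (D₁.subgroupOf K) c = {k : Fin n | (k : ℕ) ≠ 0})
    (la : ∀ B ∈ FF, B ≤ o2 D₁ → ∀ R : Subgroup H, T ≤ R → R ≠ ⊤ → B ≤ o2 R) {B : Subgroup H} (hB : B ∈ FF)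
    (hBD : B ≤ o2 D₁) :
    ∃ y', (∀ b ∈ B, A.θ b y' = y') ∧ ∀ b ∈ B, ∀ z, Δ.δ y' z = cs.simple ⟨n - 1, by omega⟩ → A.θ b z = z → b = 1 := by
  have : Nonempty (Fin n) := ⟨⟨0, by omega⟩⟩
  have htr : ¬ ∀ i j : Fin n, ∃ t ∈ T, A.σ t i = j := by
    intro h
    obtain ⟨t, -, ht⟩ := h ⟨0, by omega⟩ ⟨1, by omega⟩
    have h1 : A.Inv ({⟨0, by omega⟩} : Set (Fin n)) := by
      apply hLL
      intro h2
      have h3 : (⟨1, by omega⟩ : Fin n) ∈ ({⟨0, by omega⟩} : Set (Fin n)) := by rw [h2]; trivial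
      rw [Set.mem_singleton_iff, Fin.ext_iff] at h3
      simp at h3
    have h2 := h1 t _ rfl
    rw [ht, Set.mem_singleton_iff, Fin.ext_iff] at h2
    simp at h2
  obtain ⟨v, hv⟩ := triv_B cs A hn hLL
  refine free_of_wall A S hth hC hT hTi hKT htr hc hUc hinv hTD la hB hBD (v := v)
    (ρ := v * cs.simple ⟨n - 1, by omega⟩ * v⁻¹) ?_ rfl
  intro g k hgk
  rw [hJ]
  exact hv g k hgk

end rowB

end Cfsg.Agent.Omega.ML.Ex.WallSemi

end

-- merged: Cfsg.Agent.Mrg.Omega.ML.Ex.Lie2.FiveP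
section

/-!
# The Lie(2) row: the end node moves `m` (helper993, over helper221's `free_B`)

`X_last` acts simply transitively on the chambers `≠ c` of the last panel; `A` acts freely on the chambers `≠ y'` of a
panel of the last type, and fixes `y'`; so `|A|` is at most the number of the elements `u` of `X_last` with `u² = 1`.
-/

set_option autoImplicit false
set_option linter.unusedSectionVars false

namespace Cfsg.Agent.Omega.ML.Ex.Lie2

open Subgroup CoxeterSystem Cfsg.Agent.ChevalleyStructure.CoxeterGeom Cfsg.Agent.Tits.Roots Cfsg.Agent.Tits.Core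
  Cfsg.Agent.Tits.Core.Bldg
  Cfsg.Agent.Tits.RootComb Cfsg.Agent.Nodes.Comb Cfsg.Agent.Nodes.Reps Cfsg.Agent.Nodes.BNOf Cfsg.Agent.FixBN
  Cfsg.Agent.Omega.ML.LieRow Cfsg.Agent.Tits.OfBN Cfsg.Agent.LieExceptional.BNPairCore
open Cfsg.Agent.Omega.ML.Ex.Wall (cjs cjs_inv B_mem la_nd stab_ne_top le_stab)

universe u v

section pan

variable {I : Type*} [Fintype I] [DecidableEq I] {W : Type*} [Group W] [Finite W] {M : CoxeterMatrix I}
  {cs : CoxeterSystem M W} {Ac : I → I → ℤ} {h : IsCartan M Ac}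
  {K : Type*} [Group K] {W' : Type*} [Group W'] {cs' : CoxeterSystem M W'} {C : Type*} {Δ : Bldg cs' C}
  [MulAction K C] (S : Sys Δ K 2) {Tor : Subgroup K} {n : I → K} {X : (I → ℤ) → Subgroup K}
  [Cfsg.Agent.Tits.OppRes.Cox cs']

include S in
/-- an element of `X_i` which fixes `n i • c` is trivial -/
theorem eq_one_of_pan (R : RGD cs h 2 Tor n X) {c : C} (hU : S.U c = RGD.Sup X (RGD.Pos cs h)) {i : I} {z : K}
    (hz : z ∈ X (sr i)) (h2 : z • (n i • c) = n i • c) : z = 1 := by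
  have hXU : X (sr i) ≤ S.U c := by
    rw [hU]
    exact RGD.le_Sup (S := RGD.Pos cs h) ⟨isRoot_sr cs h i, sr_nonneg i⟩
  have h3 := S.mem_U_of_fix (hXU hz) h2
  have h4 : n i * ((n i)⁻¹ * z * n i) * (n i)⁻¹ ∈ S.U (n i • c) := by
    have e : n i * ((n i)⁻¹ * z * n i) * (n i)⁻¹ = z := by group
    rwa [e]
  have h5 := S.conj_mem_U_iff.1 h4
  rw [hU] at h5
  have h6 : (n i)⁻¹ * z * n i ∈ X (-sr i) := by
    have := R.conj_mem' (rp_simple cs R.nsys i) (isRoot_sr cs h i) hz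
    rwa [inv_simple, rep_simple_sr] at this
  have h7 := neg_inf R h6 h5
  have e : z = n i * ((n i)⁻¹ * z * n i) * (n i)⁻¹ := by group
  rw [e, h7, mul_one, mul_inv_cancel]

include S in
/-- `X_i` is transitive on the chambers `≠ c` of the panel -/
theorem exists_pan (R : RGD cs h 2 Tor n X) {c : C} (hU : S.U c = RGD.Sup X (RGD.Pos cs h))
    (hn : ∀ i, Δ.δ c (n i • c) = cs'.simple i) {i : I} {y : C} (hy : Δ.δ c y = cs'.simple i) :
    ∃ x ∈ X (sr i), x • (n i • c) = y := by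
  obtain ⟨u, hu, huy⟩ := S.exists_move ((hn i).trans hy.symm)
  rw [hU, R.Upos_eq i] at hu
  obtain ⟨x, hx, v, hv, rfl⟩ := exists_mul_of_mem_sup (R.X_le_normalizer_V i) hu
  refine ⟨x, hx, ?_⟩
  rw [← huy, mul_smul]
  congr 1
  -- `v` fixes `n i • c`
  have h1 : (n i)⁻¹ * v * n i ∈ RGD.Sup X (RGD.PosNe cs h i) := by
    have h2 := R.cj_n_V i
    rw [← h2] at hv
    obtain ⟨w, hw, rfl⟩ := hv
    have e : (n i)⁻¹ * ((MulAut.conj (n i)).toMonoidHom w) * n i = w := by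
      change (n i)⁻¹ * (n i * w * (n i)⁻¹) * n i = w
      group
    rw [e]
    exact hw
  have h2 : (n i)⁻¹ * v * n i ∈ S.U c := by
    rw [hU, R.Upos_eq i]
    exact (le_sup_right : _ ≤ X (sr i) ⊔ RGD.Sup X (RGD.PosNe cs h i)) h1
  have h3 := S.fix c _ h2
  have h4 : n i • (((n i)⁻¹ * v * n i) • c) = v • (n i • c) := by
    rw [← mul_smul, ← mul_smul]
    congr 1
    group
  rw [← h4, h3]

include S in
/-- **The count.** A subgroup of exponent two of `U c`, which fixes `y'` and acts freely on the chambers `≠ y'` of the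
panel of type `i`, has at most `inv2 (X_i)` elements. -/
theorem card_le_inv2 [Finite K] (hth : Δ.Thick) [IsSimpleGroup K] (R : RGD cs h 2 Tor n X) {c c' : C}
    (hU : S.U c = RGD.Sup X (RGD.Pos cs h))
    (hn : ∀ i, Δ.δ c (n i • c) = cs'.simple i) {i : I} {B : Subgroup K} (hB : B ≤ S.U c') (hB2 : ∀ b ∈ B, b * b = 1)
    {y' : C} (hy : ∀ b ∈ B, b • y' = y') (hfree : ∀ b ∈ B, ∀ z, Δ.δ y' z = cs'.simple i → b • z = z → b = 1) :
    Nat.card B ≤ inv2 (X (sr i)) := by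
  have : Nonempty I := ⟨i⟩
  have : Nonempty C := ⟨c⟩
  obtain ⟨k, hk⟩ := exists_smul_top S hth c y'
  have key : ∀ b : B, ∃ a : K, a ∈ X (sr i) ∧ a * a = 1 ∧ a • (n i • c) = (k⁻¹ * (b : K) * k) • (n i • c) := by
    rintro ⟨b, hb⟩
    have h1 : b ∈ S.U y' := S.mem_U_of_fix (hB hb) (hy b hb)
    have h2 : k⁻¹ * b * k ∈ S.U c := by
      rw [← hk] at h1
      have e : k * (k⁻¹ * b * k) * k⁻¹ = b := by group
      rw [← e] at h1
      exact S.conj_mem_U_iff.1 h1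
    set β : K := k⁻¹ * b * k with hβ
    have hββ : β * β = 1 := by
      rw [hβ]
      calc k⁻¹ * b * k * (k⁻¹ * b * k) = k⁻¹ * (b * b) * k := by group
        _ = 1 := by rw [hB2 b hb]; group
    have h3 : Δ.δ c (β • (n i • c)) = cs'.simple i := by
      have h4 := S.iso β c (n i • c)
      rw [S.fix c β h2, hn] at h4
      exact h4
    obtain ⟨a, ha, hab⟩ := exists_pan S R hU hn h3
    have haU : a ∈ S.U c := by
      rw [hU]
      exact RGD.le_Sup (S := RGD.Pos cs h) ⟨isRoot_sr cs h i, sr_nonneg i⟩ ha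
    refine ⟨a, ha, ?_, hab⟩
    have h5 : a⁻¹ * β ∈ S.U c := mul_mem (inv_mem haU) h2
    have h6 : (a⁻¹ * β) • (n i • c) = n i • c := by
      rw [mul_smul, ← hab, inv_smul_smul]
    have h7 : (a⁻¹ * β) • (β • (n i • c)) = β • (n i • c) :=
      S.pan c (n i • c) i (hn i) _ h5 h6 _ (Or.inr h3)
    have h8 : (a * a) • (n i • c) = n i • c := by
      rw [mul_smul, hab]
      have h9 : a⁻¹ • (n i • c) = β • (n i • c) := by
        have h10 : (a⁻¹ * β) • (β • (n i • c)) = a⁻¹ • (n i • c) := by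
          rw [mul_smul, smul_smul β β, hββ, one_smul]
        rw [← h10, h7]
      rw [← h9, smul_inv_smul]
    exact eq_one_of_pan S R hU (mul_mem ha ha) h8
  refine Nat.card_le_card_of_injective
    (fun b => (⟨(key b).choose, (key b).choose_spec.1, (key b).choose_spec.2.1⟩ :
      {u : K // u ∈ X (sr i) ∧ u * u = 1})) ?_
  intro b b' hbb
  have h1 : (key b).choose = (key b').choose :=
    congrArg (fun z : {u : K // u ∈ X (sr i) ∧ u * u = 1} => (z : K)) hbb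
  have h2 := (key b).choose_spec.2.2
  have h3 := (key b').choose_spec.2.2
  rw [h1, h3] at h2
  have h4 : ((b : K)⁻¹ * (b' : K)) • (k • (n i • c)) = k • (n i • c) := by
    have h5 : (k⁻¹ * (b' : K) * k) • (n i • c) = (k⁻¹ * (b : K) * k) • (n i • c) := h2
    have h6 : ∀ b : K, k • ((k⁻¹ * b * k) • (n i • c)) = b • (k • (n i • c)) := by
      intro b
      generalize n i • c = z
      rw [smul_smul, smul_smul]
      congr 1
      group
    rw [mul_smul, ← h6 (b' : K), h5, h6, inv_smul_smul]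
  have h5 : (b : K)⁻¹ * (b' : K) = 1 := by
    refine hfree _ (mul_mem (inv_mem b.2) b'.2) _ ?_ h4
    rw [← hk, S.iso, hn]
  exact Subtype.ext (inv_mul_eq_one.1 h5)

end pan

/-- **The end node of `B_l` moves `m`.** -/
theorem fiveP : FiveI.{u, v} := by
  intro X _ _ M _ _ _ K T B m l Ac h Tor n Xr hl hI hL hR hi2 hJ
  have hKn := hI.norm
  have hKs := hI.simple
  have hfin : Finite (CoxeterMatrix.B l).Group := hR.fin
  have hne : Nonempty (Fin l) := ⟨⟨0, by omega⟩⟩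
  obtain ⟨F, hF⟩ := frameN hKn hR.rgd hR.gen
  obtain ⟨W, gW, cs, C, act, Δ, S, A, hth, hfC, hnC, hfW⟩ := F
  obtain ⟨c, hU, hn, htp⟩ := hF
  change S.U c = _ at hU
  change ∀ i, Δ.δ c (n i • c) = cs.simple i at hn
  change ∀ P : Subgroup K, _ → ∀ i, i ∈ tp Δ P c ↔ _ at htp
  have hUT : S.U c = T.subgroupOf K := hU.trans hR.syl
  have hc : ∀ t ∈ T, A.θ t c = c := by
    obtain ⟨c', hc', hUc'⟩ := exists_chamber A S hth hI.two hI.syl
    have h3 : c' = c := UGT.U2.FOne.U_inj S hth (hUc'.trans hUT.symm)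
    rw [← h3]
    exact hc'
  have hJm : tp Δ ((MulAction.stabilizer X m).subgroupOf K) c = Jm Xr m := by
    ext i
    rw [htp _ ?_ i]
    · exact Iff.rfl
    · rw [hR.syl]
      exact fun x hx => hL.fix x hx
  have htr := Wall.not_trans_of_nmax A S hth hc hUT hI.gen hI.nmax
  have hLL : ∀ L : Set (Fin l), L ≠ Set.univ → A.Inv L := by
    intro L _
    refine inv_of_T A S hI.gen fun t ht i hi => ?_
    have hid : A.σ t i = i := by
      rcases Nat.lt_or_ge l 3 with h3 | h3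
      · obtain rfl : l = 2 := by omega
        by_contra hti
        apply htr
        have hinj : ∀ a b, A.σ t a = A.σ t b → a = b := fun a b hab => by
          have h4 := congrArg (A.σ t⁻¹) hab
          rwa [A.σ_inv_σ, A.σ_inv_σ] at h4
        have h2 : ∀ a b c : Fin 2, a ≠ b → c ≠ b → a = c := by decide
        intro a b
        rcases eq_or_ne a b with rfl | hab
        · exact ⟨1, one_mem _, A.σ_one a⟩
        · refine ⟨t, ht, ?_⟩
          by_contra hcon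
          have h5 : A.σ t a = a := h2 _ b _ hcon hab
          rcases eq_or_ne a i with rfl | hai
          · exact hti h5
          · have h6 : A.σ t i = a := h2 _ i _ hti hai
            exact hai (hinj _ _ (h5.trans h6.symm))
      · exact WallSig.sigB h3 (WallSig.sig_M A t) i
    rw [hid]
    exact hi
  have hC := Wall.cen_one A S hI
  have hTD : T ≤ MulAction.stabilizer X m := le_stab hL
  have hBo : B ≤ ZN.o2 (MulAction.stabilizer X m) := hI.low _ hTD (stab_ne_top hI hL.ne)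
  obtain ⟨y', hy, hfree⟩ := WallSemi.free_B A S hth hC hI.two hI.syl hI.gen hc hUT (FF := cjs X B) cjs_inv hl hLL hTD
    (hJm.trans hJ) (la_nd hL) B_mem hBo
  -- `B` is in `U c`
  have hBU : ∀ b ∈ B, ∃ u ∈ S.U c, (u : X) = b := fun b hb =>
    Wall.low_mem A S hth hC (Wall.low_of_o2 A S hth hI.two hI.syl hI.gen htr hc fun R hTR hR => hI.low R hTR hR hb)
  have hBK : B ≤ K := fun b hb => by
    obtain ⟨u, -, rfl⟩ := hBU b hb
    exact u.2
  have h1 : Nat.card (B.subgroupOf K) ≤ inv2 (Xr (sr ⟨l - 1, by omega⟩)) := by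
    refine card_le_inv2 (c' := c) S hth hR.rgd hU hn (fun b hb => ?_) (fun b hb => ?_) (y' := y') (fun b hb => ?_)
      fun b hb z hz hbz => ?_
    · obtain ⟨u, hu, hub⟩ := hBU b hb
      rwa [← Subtype.ext hub]
    · exact Subtype.ext (hI.el _ hb)
    · have h2 : A.θ (b : X) y' = y' := hy _ hb
      rwa [A.θ_K] at h2
    · have h2 : (b : X) = 1 := hfree _ hb z hz (by
        change A.θ (b : X) z = z
        rw [A.θ_K]
        exact hbz)
      exact Subtype.ext h2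
  have h2 : Nat.card (B.subgroupOf K) = Nat.card B := Nat.card_congr (subgroupOfEquivOfLe hBK).toEquiv
  have h3 := hi2 ⟨l - 1, by omega⟩ (by simp only; omega)
  have h4 := hI.four
  omega

end Cfsg.Agent.Omega.ML.Ex.Lie2

end

-- merged: Cfsg.Agent.Mrg.Omega.ML.Ex.RowTwF4W
section

/-!
# The row `²F₄(q)`, `q > 2`, of the exact situation with the W-part (helper333)

`twF4W : InX X M K T A → WPart K T p → Iso2F4 K → False`; `deadXW`, `deadXL`.

`X = K` (`eq_top`: all automorphisms of 2-power order are inner); all minimal parabolics `J k (k + 8)` are perfect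
(`J_perf`), so by the W-part none of them fixes a nontrivial vector of `M` (`WPart.commutator_fix`); `A` is in the
unipotent radicals of both minimal parabolics over `T`; `ZWalk.false_of` for an atom in `A`.
-/

set_option autoImplicit false
set_option linter.unusedSectionVars false

namespace Cfsg.Agent.Omega.ML.Ex.RowTwF4W

open Subgroup Cfsg Cfsg.Lie Cfsg.Agent.ZN
open Cfsg.Agent.SplitTwo Cfsg.Agent.SplitTwo.ZS Cfsg.Agent.TitsThree.RankTwoZ Cfsg.Agent.SplitTwo.RootSysZ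
open Cfsg.Agent.KFacts.TwF4 Cfsg.Agent.KFacts.TwF4.Arc Cfsg.Agent.KFacts.TwF4.Inv Cfsg.Agent.KFacts.TwF4.SylU
open Cfsg.Agent.KFacts.TwF4.Perf Cfsg.Agent.KFacts.TwF4.Layers
open Cfsg.Agent.Omega.ML.TwF4Opp Cfsg.Agent.Omega.ML.LieTwF4
open Cfsg.Agent.MinSimple.VModule (o2_isPGroup o2_le le_o2 le_normalizer_o2)
open Cfsg.Agent.ClassTwoFusion.Quad Cfsg.Agent.Omega.NOThree.NoOver
open scoped commutatorElement

universe u v w

/-- all chambers of an apartment are conjugate -/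
theorem exists_conj {G : Type*} [Group G] {X : ℤ → Subgroup G} {m : ℤ} (Z : ZSys m X) (a b : ℤ) :
    ∃ g : G, ∀ x ∈ J X a (a + m - 1), g * x * g⁻¹ ∈ J X b (b + m - 1) := by
  have odd : ∀ a b : ℤ, ¬ (2 : ℤ) ∣ a - b → ∃ g : G, ∀ x ∈ J X a (a + m - 1), g * x * g⁻¹ ∈ J X b (b + m - 1) := by
    intro a b h
    obtain ⟨i, hi⟩ : ∃ i : ℤ, 2 * i = 2 * m - 1 + a + b := ⟨(2 * m - 1 + a + b) / 2, by omega⟩
    obtain ⟨n, hn⟩ := Z.exists_refl i
    exact ⟨n, fun x hx => hn.mem_J hx (by omega) (by omega)⟩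
  by_cases h : (2 : ℤ) ∣ a - b
  · obtain ⟨g, hg⟩ := odd a (a + 1) (by omega)
    obtain ⟨g', hg'⟩ := odd (a + 1) b (by omega)
    refine ⟨g' * g, fun x hx => ?_⟩
    have e : g' * g * x * (g' * g)⁻¹ = g' * (g * x * g⁻¹) * g'⁻¹ := by group
    rw [e]
    exact hg' _ (hg x hx)
  · exact odd a b h

section full

variable {F : Type*} [Field F] {σ : F →+* F} {G : Type u} [Group G] (S : Full σ G)

/-- the involutions of `X k` are central in `X k` -/
theorem cin (k : ℤ) (y : G) (hy : y ∈ S.XZ k) (hyy : y * y = 1) (x : G) (hx : x ∈ S.XZ k) : x * y = y * x := by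
  rcases Int.even_or_odd' k with ⟨a, rfl | rfl⟩
  · obtain ⟨p, u, rfl⟩ := (S.mem_XZ_even a y).1 hy
    obtain ⟨q, v, rfl⟩ := (S.mem_XZ_even a x).1 hx
    rw [S.e_mul, S.add_self, S.add_self, zero_add] at hyy
    have h1 := (S.e_eq_one hyy).2
    have hp : p = 0 := by
      rcases mul_eq_zero.1 h1 with h | h
      · exact h
      · exact (map_eq_zero σ).1 h
    subst hp
    rw [S.e_mul, S.e_mul, map_zero, mul_zero, zero_mul, add_comm q, add_comm v]
  · obtain ⟨t, rfl⟩ := (S.mem_XZ_odd a y).1 hy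
    obtain ⟨s, rfl⟩ := (S.mem_XZ_odd a x).1 hx
    rw [S.o_add, S.o_add, add_comm]

variable [Finite F] [Finite G]

/-- `J 1 9` is perfect -/
theorem J19_perf (hF : ∃ c : Fˣ, c ≠ 1) : ⁅J S.XZ 1 9, J S.XZ 1 9⁆ = J S.XZ 1 9 := by
  apply le_antisymm (Subgroup.commutator_le.2 fun x hx y hy => mul_mem (mul_mem (mul_mem hx hy) (inv_mem hx)) (inv_mem hy))
  obtain ⟨c, hc⟩ := hF
  have hσc : Units.map (σ : F →* F) c ≠ 1 := σ_ne hc
  have hdiv : Units.map (σ : F →* F) c / c ≠ 1 := fun h => hc (s2 S (div_eq_one.1 h))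
  have hdiv' : c / Units.map (σ : F →* F) c ≠ 1 := fun h => hc (s2 S (div_eq_one.1 h).symm)
  have hh : S.h c c ∈ J S.XZ 1 9 := HO_le_J S (h_mem_HO S c)
  have aux : ∀ {k : ℤ}, 1 ≤ k → k ≤ 9 → (∀ x ∈ S.XZ k, S.h c c * x * (S.h c c)⁻¹ = x → x = 1) →
      S.XZ k ≤ ⁅J S.XZ 1 9, J S.XZ 1 9⁆ := fun {k} h1 h2 h3 =>
    le_comm_of_fix hh (X_le_J h1 h2) (h_X S _ _ k) h3
  have k1 : S.XZ 1 ≤ ⁅J S.XZ 1 9, J S.XZ 1 9⁆ := by
    refine aux (by norm_num) (by norm_num) (fixo S (a := 0) ?_ fun x hx => (mem_X1 S).1 hx)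
    show chE σ 0 c c * chE σ 1 c c ≠ 1
    rw [chE_zero, chE_one]; exact sq_ne S hc
  have k2 : S.XZ 2 ≤ ⁅J S.XZ 1 9, J S.XZ 1 9⁆ :=
    aux (by norm_num) (by norm_num) (fixe S (a := 1) (by rw [chE_one]; exact hc) fun x hx => (mem_X2 S).1 hx)
  have k3 : S.XZ 3 ≤ ⁅J S.XZ 1 9, J S.XZ 1 9⁆ := by
    refine aux (by norm_num) (by norm_num) (fixo S (a := 1) ?_ fun x hx => (mem_X3 S).1 hx)
    show chE σ 1 c c * chE σ 2 c c ≠ 1
    rw [chE_one, chE_two, mul_div_cancel]; exact hσc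
  have k4 : S.XZ 4 ≤ ⁅J S.XZ 1 9, J S.XZ 1 9⁆ :=
    aux (by norm_num) (by norm_num) (fixe S (a := 2) (by rw [chE_two]; exact hdiv) fun x hx => (mem_X4 S).1 hx)
  have k6 : S.XZ 6 ≤ ⁅J S.XZ 1 9, J S.XZ 1 9⁆ :=
    aux (by norm_num) (by norm_num) (fixe S (a := 3) (by rw [chE_three]; exact hdiv') fun x hx => (mem_X6 S).1 hx)
  have k5 : S.XZ 5 ≤ ⁅J S.XZ 1 9, J S.XZ 1 9⁆ := by
    intro x hx
    obtain ⟨t, rfl⟩ := (mem_X5 S).1 hx
    have h := S.e_e1 2 t 0 1 0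
    have e : S.o 2 t = (S.e 3 1 0 * S.e 2 t 0)⁻¹ * (S.e 2 t 0 * S.e 3 1 0) := by
      rw [show (2 : ZMod 8) + 1 = 3 by decide] at h
      rw [h, mul_one]; group
    rw [e]
    have m6 := k6 ((mem_X6 S).2 ⟨1, 0, rfl⟩)
    have m4 := k4 ((mem_X4 S).2 ⟨t, 0, rfl⟩)
    exact mul_mem (inv_mem (mul_mem m6 m4)) (mul_mem m4 m6)
  have k7 : S.XZ 7 ≤ ⁅J S.XZ 1 9, J S.XZ 1 9⁆ := by
    refine aux (by norm_num) (by norm_num) (fixo S (a := 3) ?_ fun x hx => (mem_X7 S).1 hx)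
    show chE σ 3 c c * chE σ 4 c c ≠ 1
    rw [chE_three, chE_four, div_mul_eq_mul_div, mul_inv_cancel, one_div]
    exact inv_ne_one.2 hσc
  have k8 : S.XZ 8 ≤ ⁅J S.XZ 1 9, J S.XZ 1 9⁆ :=
    aux (by norm_num) (by norm_num) (fixe S (a := 4) (by rw [chE_four]; exact inv_ne_one.2 hc) fun x hx => (mem_X8 S).1 hx)
  have k9 : S.XZ 9 ≤ ⁅J S.XZ 1 9, J S.XZ 1 9⁆ := by
    refine aux (by norm_num) (by norm_num) (fixo S (a := 4) ?_ fun x hx => (mem_X9 S).1 hx)
    show chE σ 4 c c * chE σ 5 c c ≠ 1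
    rw [chE_four, chE_five]; exact sq_ne S (inv_ne_one.2 hc)
  refine J_le fun k h1 h2 => ?_
  have hk : k = 1 ∨ k = 2 ∨ k = 3 ∨ k = 4 ∨ k = 5 ∨ k = 6 ∨ k = 7 ∨ k = 8 ∨ k = 9 := by omega
  rcases hk with rfl | rfl | rfl | rfl | rfl | rfl | rfl | rfl | rfl
  exacts [k1, k2, k3, k4, k5, k6, k7, k8, k9]

/-- **the minimal parabolics are perfect** -/
theorem J_perf (hF : ∃ c : Fˣ, c ≠ 1) (k : ℤ) : ⁅J S.XZ k (k + 8), J S.XZ k (k + 8)⁆ = J S.XZ k (k + 8) := by
  rcases Int.even_or_odd' k with ⟨a, rfl | rfl⟩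
  · have h := Layers.J_perfect S hF (a + 2)
    rw [show 2 * (a + 2) - 4 = 2 * a by ring, show 2 * (a + 2) + 4 = 2 * a + 8 by ring] at h
    exact h
  · have h := map_perfect (S.ck a) (J19_perf S hF)
    rw [S.map_J, show 1 + 2 * a = 2 * a + 1 by ring, show 9 + 2 * a = 2 * a + 1 + 8 by ring] at h
    exact h

theorem hyp (hF : ∃ c : Fˣ, c ≠ 1) (hR : S.R.p = 2) : ZWalk.Hyp 8 S.XZ where
  Z := S.zsys8
  h2 := two_X S hR
  perf := J_perf S hF
  cin := cin S

end full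

section row

variable {X : Type u} [Group X] [Finite X] {M : Type v} [Group M] [Finite M] [MulDistribMulAction X M]
  {W : Type w} [CommGroup W] [Finite W] [MulDistribMulAction X W] {K T A : Subgroup X} {p : W →* M}

/-- `X = K`: the elements of `T` are inner on `K` -/
theorem eq_top (h : InX X M K T A) (hS : Iso2F4 K) : K = ⊤ := by
  have hn := h.norm
  obtain ⟨F, _, _, σ, m, G, _, _, SS, hcard, hF, hR, ⟨e⟩⟩ := exists_full hS
  have hA : T ≤ K := by
    intro a ha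
    obtain ⟨n, hn'⟩ := h.two ⟨a, ha⟩
    have han : a ^ 2 ^ n = 1 := congrArg Subtype.val hn'
    obtain ⟨α, hα⟩ : ∃ α : MulAut K, α = MulAut.conjNormal a := ⟨_, rfl⟩
    have h1 : α ^ 2 ^ n = 1 := by
      rw [hα, ← map_pow, han, map_one]
    obtain ⟨β, hβ⟩ : ∃ β : MulAut G, β = MulAut.congr e.symm α := ⟨_, rfl⟩
    have h2 : β ^ 2 ^ n = 1 := by rw [hβ, ← map_pow, h1, map_one]
    obtain ⟨x, hx⟩ := Cfsg.Agent.KFacts.TwF4.OutTwo.inner SS hcard hF hR h2
    have h3 : ∀ s : K, (α s : K) = e x * s * (e x)⁻¹ := by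
      intro s
      have h4 : β (e.symm s) = x * e.symm s * x⁻¹ := by rw [hx, MulAut.conj_apply]
      have h5 : β (e.symm s) = e.symm (α s) := by
        rw [hβ]
        show e.symm (α (e.symm.symm (e.symm s))) = _
        rw [MulEquiv.symm_symm, MulEquiv.apply_symm_apply]
      rw [h5] at h4
      have h6 := congrArg e h4
      rwa [MulEquiv.apply_symm_apply, map_mul, map_mul, map_inv, MulEquiv.apply_symm_apply] at h6
    have h4 : ((e x : K) : X)⁻¹ * a ∈ centralizer (K : Set X) := by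
      rw [mem_centralizer_iff]
      intro s hs
      have h5 := congrArg Subtype.val (h3 ⟨s, hs⟩)
      rw [hα, MulAut.conjNormal_apply] at h5
      have h6 : a * s * a⁻¹ = (e x : K) * s * ((e x : K) : X)⁻¹ := h5
      have h7 : s = ((e x : K) : X)⁻¹ * (a * s * a⁻¹) * (e x : K) := by rw [h6]; group
      calc s * (((e x : K) : X)⁻¹ * a)
          = ((e x : K) : X)⁻¹ * (a * s * a⁻¹) * (e x : K) * (((e x : K) : X)⁻¹ * a) := by rw [← h7]
        _ = ((e x : K) : X)⁻¹ * a * s := by group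
    rw [h.cen, mem_bot] at h4
    rw [← inv_mul_eq_one.1 h4]
    exact (e x).2
  rw [← h.gen]
  exact (sup_eq_left.2 hA).symm

/-- the radicals -/
theorem le_rad {F : Type*} [Field F] [Finite F] {σ : F →+* F} {G : Type*} [Group G] [Finite G] [IsSimpleGroup G]
    (S : Full σ G) (hF : ∃ c : Fˣ, c ≠ 1) (hR : S.R.p = 2) (f : G ≃* X) {y : G}
    (low : ∀ R : Subgroup X, (J S.XZ 1 8).map f.toMonoidHom ≤ R → R ≠ ⊤ → f y ∈ o2 R) :
    y ∈ J S.XZ 2 8 ∧ y ∈ J S.XZ 1 7 := by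
  have Z := S.zsys8
  have hU1 : J S.XZ 1 8 ≤ normalizer (J S.XZ 2 8 : Set G) := by
    refine J_le fun k h1 h2 => ?_
    exact (X_le_J (by omega) (by omega)).trans (Z.le_normalizer (a := 2) (b := 8) (by norm_num))
  have hU2 : J S.XZ 1 8 ≤ normalizer (J S.XZ 1 7 : Set G) := by
    refine J_le fun k h1 h2 => ?_
    exact (X_le_J (by omega) (by omega)).trans (Z.le_normalizer (a := 1) (b := 7) (by norm_num))
  have key : ∀ N : Subgroup G, J S.XZ 1 8 ≤ N → N ≠ ⊤ →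
      y ∈ (o2 (N.map f.toMonoidHom)).comap f.toMonoidHom := fun N hN hN1 =>
    low (N.map f.toMonoidHom) (Subgroup.map_mono hN) (map_ne_top f hN1)
  have htwo : ∀ N : Subgroup G, IsPGroup 2 ↥((o2 (N.map f.toMonoidHom)).comap f.toMonoidHom) := fun N =>
    (o2_isPGroup _).comap_of_injective f.toMonoidHom f.injective
  exact ⟨two_le_one S hF hR (htwo _) (norm_comap f _)
    (key _ hU1 (norm_ne_top S (by norm_num) (by norm_num))), two_le_two S hF hR (htwo _) (norm_comap f _)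
    (key _ hU2 (norm_ne_top S (by norm_num) (by norm_num)))⟩

/-- **the row `²F₄(q)`, `q > 2`** -/
theorem twF4W (h : InX X M K T A) (hw : WPart K T p) (hK : Iso2F4 K) : False := by
  have htop := eq_top h hK
  have hsim := h.simple
  obtain ⟨F, _, _, σ, m, G, _, _, S, hcard, hF, hR, ⟨e'⟩⟩ := exists_full hK
  have hsG : IsSimpleGroup G := e'.isSimpleGroup
  have e : K ≃* X := (MulEquiv.subgroupCongr htop).trans topEquiv
  obtain ⟨f, hf⟩ := exists_iso S hF hR (e'.trans e) h.two h.syl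
  -- no minimal parabolic fixes a vector
  have hp : ∀ k, ∀ v : M, (∀ x ∈ J S.XZ k (k + 8), f x • v = v) → v = 1 := by
    intro k v hv
    obtain ⟨w, rfl⟩ := hw.surj v
    have h1 : ∀ x ∈ J S.XZ k (k + 8), f x • w = w := by
      intro x hx
      refine hw.commutator_fix (L := (J S.XZ k (k + 8)).map f.toMonoidHom) (by rw [htop]; exact le_top) ?_ (f x) ?_
      · rintro _ ⟨y, hy, rfl⟩
        exact hv y hy
      · rw [← Subgroup.map_commutator, J_perf S hF k]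
        exact mem_map_of_mem f.toMonoidHom hx
    obtain ⟨g, hg⟩ := exists_conj S.zsys8 1 k
    have h2 : ∀ t ∈ T, t • ((f g)⁻¹ • w) = (f g)⁻¹ • w := by
      intro t ht
      rw [← hf] at ht
      obtain ⟨y, hy, rfl⟩ := ht
      have h3 := h1 _ (J_mono le_rfl (by omega) (hg y (J_mono le_rfl (by norm_num) hy)))
      have e1 : f (g * y * g⁻¹) = f g * f y * (f g)⁻¹ := by rw [map_mul, map_mul, map_inv]
      rw [e1, mul_smul, mul_smul] at h3
      show f y • ((f g)⁻¹ • w) = (f g)⁻¹ • w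
      rw [eq_inv_smul_iff, h3]
    have h3 := hw.fixT _ h2
    have h4 := (hw.ker _).2 h3
    rw [hw.eqv] at h4
    have h5 := congrArg (fun z => f g • z) h4
    simp only [smul_inv_smul, smul_one] at h5
    exact h5
  let _ : MulDistribMulAction G M := MulDistribMulAction.compHom M f.toMonoidHom
  have hsm : ∀ (g : G) (v : M), g • v = f g • v := fun _ _ => rfl
  have hcv : ∀ B : Subgroup G, cv M (B : Set G) = cv M ((B.map f.toMonoidHom : Subgroup X) : Set X) := by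
    intro B
    ext v
    constructor
    · rintro hv _ ⟨b, hb, rfl⟩
      exact hv b hb
    · intro hv b hb
      exact hv (f b) (mem_map_of_mem f.toMonoidHom hb)
  have hM : Nontrivial M := by
    by_contra hcon
    rw [not_nontrivial_iff_subsingleton] at hcon
    apply h.A_ne_bot
    rw [eq_bot_iff]
    intro a ha
    exact mem_bot.2 (h.faith a fun v => Subsingleton.elim _ _)
  -- the atom
  have hAm : (A.comap f.toMonoidHom).map f.toMonoidHom = A :=
    Subgroup.map_comap_eq_self_of_surjective f.surjective A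
  have hA1 : (cv M ((A.comap f.toMonoidHom : Subgroup G) : Set G)).index ≤ Nat.card (A.comap f.toMonoidHom) := by
    rw [hcv, hAm, h.exact, ← hAm, card_map_of_injective f.injective, hAm]
  obtain ⟨B, ⟨hBA, hB0, hB1⟩, hBmin⟩ : ∃ B : Subgroup G, (B ≤ A.comap f.toMonoidHom ∧ B ≠ ⊥ ∧
      (cv M (B : Set G)).index ≤ Nat.card B) ∧ ∀ C : Subgroup G, C ≤ B → C ≠ ⊥ → C ≠ B →
        Nat.card C < (cv M (C : Set G)).index := by
    have hfin : Set.Finite {B : Subgroup G | B ≤ A.comap f.toMonoidHom ∧ B ≠ ⊥ ∧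
      (cv M (B : Set G)).index ≤ Nat.card B} := Set.toFinite _
    obtain ⟨B, hB⟩ := hfin.exists_minimal ⟨A.comap f.toMonoidHom, le_rfl, by
      intro h0
      apply h.A_ne_bot
      rw [← hAm, h0, Subgroup.map_bot], hA1⟩
    refine ⟨B, hB.prop, fun C hC hC0 hCB => ?_⟩
    by_contra hcon
    exact hCB (le_antisymm hC (hB.le_of_le ⟨hC.trans hB.prop.1, hC0, not_lt.1 hcon⟩ hC))
  have hBl : ∀ b ∈ B, b ∈ J S.XZ 2 8 ∧ b ∈ J S.XZ 1 7 := by
    intro b hb
    refine le_rad S hF hR f fun R h1 h2 => ?_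
    rw [hf] at h1
    exact h.low R h1 h2 (hBA hb)
  refine ZWalk.false_of (M := M) (hyp S hF hR) (fun x h1 h2 => inf_eq_one S hF hR h1 (by norm_num at h2; exact h2)) h.sq
    h.comm hM (fun k v hv => hp k v fun x hx => hv x hx) hB0 (fun b hb => ?_) (fun b hb => (hBl b hb).1)
    (fun b hb => J_mono le_rfl (by norm_num) (hBl b hb).2) hB1 hBmin
  have h1 := h.el (f b) (hBA hb)
  rw [← map_mul] at h1
  exact (map_eq_one_iff f f.injective).1 h1

end row

theorem deadXW : DeadXW.{u, v, w} fun S _ => Iso2F4 S := fun _ _ _ _ _ _ _ _ _ _ _ _ _ _ _ h hw hK => twF4W h hw hK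

theorem deadXL : DeadXL.{u, v, w} fun S _ => Iso2F4 S := fun _ _ _ _ _ _ _ _ _ _ _ _ _ _ _ _ h hw _ hK =>
  twF4W h hw hK

end Cfsg.Agent.Omega.ML.Ex.RowTwF4W

end

-- merged: Cfsg.Agent.Mrg.Omega.ML.Ex.Lie2.Fin
section

/-!
# The Lie(2) row with the W-part and (LA): the leaves (helper993)

**`lie2 : DeadXL (IsLieTypeChar 2)`**.
-/

set_option autoImplicit false

namespace Cfsg.Agent.Omega.ML.Ex.Lie2

open Cfsg
open Subgroup CoxeterSystem Cfsg.Agent.ChevalleyStructure.CoxeterGeom Cfsg.Agent.Tits.Roots Cfsg.Agent.Tits.Core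

universe u v w

/-- `PSp_2m(2)` -/
theorem psp2 (F : Type) [Field F] [Fintype F] [CharP F 2] (m : ℕ) (hm : 3 ≤ m) (hF : Fintype.card F = 2) :
    HasRc (CoxeterMatrix.B m) (fun c => ∀ i : Fin m, (i : ℕ) + 1 = m → c i < 4) (PSp m F) := by
  have : Fact (Nat.Prime 2) := ⟨Nat.prime_two⟩
  obtain ⟨Ac, h, Tor, n, Xr, hW, R, hX, hr⟩ := Typ.par_PSp (F := F) (m := m) (by omega) (p := 2)
  refine ⟨Ac, h, Tor, n, Xr, ⟨hW, R, hX⟩, ?_⟩
  intro i hi
  have hi' : i = ⟨m - 1, by omega⟩ := Fin.ext (by change (i : ℕ) = m - 1; omega)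
  rw [hi']
  refine lt_of_le_of_lt hr ?_
  rw [Nat.card_eq_fintype_card, hF]
  norm_num

/-- `²E₆(q)` -/
theorem e6 (F : Type) [Field F] [Fintype F] [CharP F 2] (q : ℕ) (hq : IsPrimePow q) (hF : Fintype.card F = q ^ 2) :
    HasRc CoxeterMatrix.F₄ (fun c => c 0 ≠ c 3) ↥(Lie.twistedE6 F q) := by
  obtain ⟨A, h, T, n, X, hR, hc⟩ := DatE6.ne_twE6 hq hF
  exact ⟨A, h, T, n, X, hR, hc⟩

/-- `³D₄(2)` -/
theorem d42 : DeadXL.{u, v, w} fun S _ => ∃ (F : Type) (_ : Field F) (_ : Fintype F), CharP F 2 ∧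
    Fintype.card F = 8 ∧ Nonempty (S ≃* Lie.twistedD4 F 2) := by
  intro X _ _ M _ _ _ W _ _ _ K T A p m hI hw hL hK
  refine RankOne.xl RowTwDTwo.deadX_twD4_two X M W K T A p m hI hw hL ?_
  obtain ⟨F, i1, i2, i3, h8, e⟩ := hK
  exact ⟨F, i1, i2, i3, by rw [h8]; norm_num, e⟩

/-- the leaves, over `FiveI` -/
theorem leaves_of_five (five : FiveI.{u, v}) : Leaves.{u, v, w} where
  wall := wallT
  five := five
  f42 := f42
  d42 := d42
  sz := RankOne.deadXL_suz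
  tf := RowTwF4W.deadXL
  psp := fun _ _ _ _ _ hm hF => dt_PSp hF (by omega)
  psp2 := psp2
  psu := fun _ _ _ _ _ _ hF hN => dt_PSU hF hN
  psu2 := fun _ _ _ _ _ h1 h2 => di_PSU45 h1 h2
  g2 := fun _ _ _ _ h4 => DataG.dt_G2 (by rw [Nat.card_eq_fintype_card]; exact h4)
  d4 := fun _ _ _ _ _ hq hF h4 => DataG.dt_D4 hq hF h4
  f4 := fun F _ _ _ h4 => DatF4.hasDt_F4 F h4
  e6 := e6

/-- **The Lie(2) row, over `FiveI`.** -/
theorem lie2_of_five (five : FiveI.{u, v}) : DeadXL.{u, v, w} fun S _ => IsLieTypeChar 2 S :=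
  (leaves_of_five five).lie2

/-- **The Lie(2) row.** -/
theorem lie2 : DeadXL.{u, v, w} fun S _ => IsLieTypeChar 2 S := lie2_of_five fiveP

end Cfsg.Agent.Omega.ML.Ex.Lie2

end
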