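import Cfsg.Agent.Mrg.Omega.ML.RowTits
import Cfsg.Agent.Mrg.KFacts.RgdPerf
import Cfsg.Agent.Mrg.Omega.ML.Ex.RowTitsX
import Cfsg.Agent.Mrg.Omega.Tools.OddFix
import Cfsg.Agent.Lib.SylowNormalInf
import Cfsg.Agent.Mrg.Omega.ML.Ex.Typ.List
import Cfsg.Agent.Mrg.Omega.EH3.Kf.TwWitt
import Cfsg.Agent.Mrg.Nodes.RGDAllP
import Cfsg.Agent.Mrg.Omega.EH3.Kf.InL
import Cfsg.Agent.KFacts.RgdRigid
import Cfsg.Agent.Mrg.Omega.ML.Ex.KnownDone

-- merged: Cfsg.Agent.Mrg.Omega.ML.Ex.Lie2.CPerf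
section

/-!
# The Lie(2) row with the W-part: `U ≤ ⁅P, P⁆` (829's (C) in RGD form; helper993)

`P ≥ U` contains `X (-sr j)`, `j ∈ J`.  If the non-simple positive root groups are in `⁅U, U⁆` (`CommGen`) and every
node `i` has a neighbour in `J`, or is in `J` and `X_i ≤ ⁅L_i, L_i⁆`, then `U ≤ ⁅P, P⁆`.

* `exists_refl` : `P` contains an element `t n_j`, `t ∈ T`, for `j ∈ J`;
* `le_comm_of_adj` : one node with a neighbour in `J`;  `le_comm` : the theorem.
-/

set_option autoImplicit false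
set_option linter.unusedSectionVars false

namespace Cfsg.Agent.Omega.ML.Ex.Lie2

open Subgroup CoxeterSystem Cfsg.Agent.ChevalleyStructure.CoxeterGeom Cfsg.Agent.Tits.Roots Cfsg.Agent.Tits.Core
  Cfsg.Agent.Tits.Exchange Cfsg.Agent.Nodes.Reps Cfsg.Agent.Nodes.BNOf Cfsg.Agent.Nodes.StabComb
  Cfsg.Agent.Nodes.Bruhat Cfsg.Agent.Omega.EH3.Kf.Lev
open scoped commutatorElement

variable {I W Y : Type*} [Fintype I] [DecidableEq I] [Group W] [Group Y] {M : CoxeterMatrix I}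
  {cs : CoxeterSystem M W} {A : I → I → ℤ} {h : IsCartan M A} {p : ℕ} {T : Subgroup Y} {n : I → Y}
  {X : (I → ℤ) → Subgroup Y}

/-- the group of the node `i` -/
def Li (X : (I → ℤ) → Subgroup Y) (i : I) : Subgroup Y := X (sr i) ⊔ X (-sr i)

variable (R : RGD cs h p T n X)

include R

/-- `P` contains `t n_j`, `t ∈ T`, if `X_j, X_{-j} ≤ P` -/
theorem exists_refl {P : Subgroup Y} {j : I} (h1 : X (sr j) ≤ P) (h2 : X (-sr j) ≤ P) :
    ∃ g ∈ P, Rp cs R.nsys (cs.simple j) g := by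
  obtain ⟨u, hu, hu1⟩ := exists_ne_one R j
  have h3 : n j * u * (n j)⁻¹ ∈ X (-sr j) := by
    have := R.conj_mem (rp_simple cs R.nsys j) (isRoot_sr cs h j) hu
    rwa [rep_simple_sr] at this
  have h4 : n j * u * (n j)⁻¹ ≠ 1 := fun h3 => hu1 (mul_eq_left.1 (mul_inv_eq_one.1 h3))
  obtain ⟨a, ha, t, ht, b, hb, e⟩ := R.rk1 j _ h3 h4
  refine ⟨t * n j, ?_, ?_⟩
  · have h5 : t * n j = a⁻¹ * (n j * u * (n j)⁻¹) * b⁻¹ := by
      conv_rhs => rw [e]
      group
    rw [h5]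
    exact mul_mem (mul_mem (inv_mem (h1 ha)) (h2 h3)) (inv_mem (h1 hb))
  · have := (rp_of_mem (cs := cs) (hN := R.nsys) ht).mul (rp_simple cs R.nsys j)
    rwa [one_mul] at this

/-- a positive root `s_j a_i` is not simple if `i`, `j` are joined -/
theorem refl_not_simple {i j : I} (hij : i ≠ j) (hM : M i j ≠ 2) :
    0 ≤ rep cs h (cs.simple j) (sr i) ∧ ∀ k, rep cs h (cs.simple j) (sr i) ≠ sr k := by
  have hA : A j i < 0 := by
    rcases h.rel j i hij.symm with ⟨h1, -⟩ | ⟨-, h1, -⟩ | ⟨-, ⟨h1, -⟩ | ⟨h1, -⟩⟩ | ⟨-, ⟨h1, -⟩ | ⟨h1, -⟩⟩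
    · rw [M.symmetric] at h1
      exact absurd h1 hM
    all_goals omega
  have hp : pairing A j (sr i) = A j i := by
    unfold pairing
    rw [Finset.sum_eq_single i]
    · simp [sr]
    · intro k _ hk
      simp [sr, hk]
    · intro hk
      exact absurd (Finset.mem_univ i) hk
  have e := rep_simple_eq cs h j (sr i)
  rw [hp] at e
  constructor
  · rw [e]
    intro k
    by_cases hk : k = j
    · subst hk
      simp [sr, hij.symm]
      omega
    · have h5 := sr_nonneg i k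
      simpa [sr, hk] using h5
  · intro k hk
    have h1 := congrFun (e.symm.trans hk) i
    have h2 := congrFun (e.symm.trans hk) j
    by_cases hki : k = i
    · subst hki
      simp [sr, hij.symm] at h2
      omega
    · simp [sr, hij, Ne.symm hki] at h1

/-- **A node with a neighbour in `J`.** -/
theorem le_comm_of_adj (hc : CommGen cs h X) {P : Subgroup Y} (hU : RGD.Sup X (RGD.Pos cs h) ≤ P) {i j : I}
    (hij : i ≠ j) (hM : M i j ≠ 2) (hj : X (-sr j) ≤ P) : X (sr i) ≤ ⁅P, P⁆ := by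
  obtain ⟨g, hg, hR⟩ := exists_refl R (P := P) (le_trans (RGD.le_Sup (S := RGD.Pos cs h)
    ⟨isRoot_sr cs h j, sr_nonneg j⟩) hU) hj
  obtain ⟨h0, h1⟩ := refl_not_simple R hij hM
  intro x hx
  have h2 : g * x * g⁻¹ ∈ ⁅P, P⁆ :=
    Subgroup.commutator_mono hU hU (hc _ ((isRoot_sr cs h i).act _) h0 h1 (R.conj_mem hR (isRoot_sr cs h i) hx))
  have h3 : P ≤ normalizer ((⁅P, P⁆ : Subgroup Y) : Set Y) := by
    intro y hy
    rw [mem_normalizer_iff]
    have key : ∀ y ∈ P, ∀ z ∈ ⁅P, P⁆, y * z * y⁻¹ ∈ ⁅P, P⁆ := by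
      intro y hy z hz
      have hle : ⁅P, P⁆ ≤ P := Subgroup.commutator_le.2 fun a ha b hb => by
        rw [commutatorElement_def]
        exact mul_mem (mul_mem (mul_mem ha hb) (inv_mem ha)) (inv_mem hb)
      have h4 : y * z * y⁻¹ = ⁅y, z⁆ * z := by rw [commutatorElement_def]; group
      rw [h4]
      exact mul_mem (Subgroup.commutator_mem_commutator hy (hle hz)) hz
    intro z
    refine ⟨key y hy z, fun hz => ?_⟩
    have := key y⁻¹ (inv_mem hy) _ hz
    rwa [inv_inv, ← mul_assoc, ← mul_assoc, inv_mul_cancel, one_mul, mul_assoc, inv_mul_cancel, mul_one] at this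
  have h4 := (mem_normalizer_iff''.1 (h3 hg) (g * x * g⁻¹)).1 h2
  have e : g⁻¹ * (g * x * g⁻¹) * g = x := by group
  rwa [e] at h4

/-- **829's (C).** -/
theorem le_comm (hc : CommGen cs h X) {P : Subgroup Y} (hU : RGD.Sup X (RGD.Pos cs h) ≤ P) {J : Set I}
    (hJ : ∀ j ∈ J, X (-sr j) ≤ P)
    (hadj : ∀ i, (∃ j ∈ J, i ≠ j ∧ M i j ≠ 2) ∨ (i ∈ J ∧ X (sr i) ≤ ⁅Li X i, Li X i⁆)) :
    RGD.Sup X (RGD.Pos cs h) ≤ ⁅P, P⁆ := by
  refine RGD.Sup_le fun r hr => ?_
  by_cases hs : ∃ i, r = sr i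
  · obtain ⟨i, rfl⟩ := hs
    rcases hadj i with ⟨j, hj, hij, hM⟩ | ⟨hi, h1⟩
    · exact le_comm_of_adj R hc hU hij hM (hJ j hj)
    · have h2 : Li X i ≤ P := sup_le (le_trans (RGD.le_Sup (S := RGD.Pos cs h) hr) hU) (hJ i hi)
      exact h1.trans (Subgroup.commutator_mono h2 h2)
  · push Not at hs
    exact (hc r hr.1 hr.2 hs).trans (Subgroup.commutator_mono hU hU)

end Cfsg.Agent.Omega.ML.Ex.Lie2

end

-- merged: Cfsg.Agent.Mrg.Omega.ML.Ex.Lie2.Def
section

/-!
# The Lie(2) row with the W-part and (LA): the frame and the sockets (helper993)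

* `Rg h Tor n Xr` : a root group datum of characteristic two which generates `Y`;
  `RF K T h Tor n Xr` : such a datum of the normal subgroup `K` of `X`, with `U = T ⊓ K`;
* `Jm Xr m` : the nodes `i` such that `X (-sr i)` fixes `m`;
* `Sg K T Mx Xr σ` : the action of `X` on the nodes, with a proper nonempty `T`-invariant set;  `LL T σ L`;
* `WallT` : the output of the WALL THEOREM (helper721 #22477);
* **`false_of_perf`** : `U ≤ ⁅P, P⁆`, `P` the stabiliser of `m` in `K`, is a contradiction;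
* **`false_of_adj`** : 829's (C).
-/

set_option autoImplicit false
set_option linter.unusedSectionVars false

namespace Cfsg.Agent.Omega.ML.Ex.Lie2

open Subgroup CoxeterSystem Cfsg.Agent.ChevalleyStructure.CoxeterGeom Cfsg.Agent.Tits.Roots Cfsg.Agent.Tits.Core
  Cfsg.Agent.Tits.Exchange Cfsg.Agent.Nodes.Reps Cfsg.Agent.Nodes.BNOf Cfsg.Agent.Nodes.StabComb
  Cfsg.Agent.Nodes.Bruhat Cfsg.Agent.Omega.EH3.Kf.Lev Cfsg.Agent.Omega.ML.Ex.WallGood
open scoped commutatorElement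

universe u v w

/-- a root group datum of characteristic two which generates `Y` -/
structure Rg {Y : Type*} [Group Y] {l : ℕ} {Mx : CoxeterMatrix (Fin l)} {Ac : Fin l → Fin l → ℤ}
    (h : IsCartan Mx Ac) (Tor : Subgroup Y) (n : Fin l → Y) (Xr : (Fin l → ℤ) → Subgroup Y) : Prop where
  fin : Finite Mx.Group
  rgd : RGD Mx.toCoxeterSystem h 2 Tor n Xr
  gen : RGD.Sup Xr {x | IsRoot Mx.toCoxeterSystem h x} = ⊤

/-- a root group datum of the subgroup `K` with `U = T ⊓ K` -/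
structure RF {X : Type u} [Group X] (K T : Subgroup X) {l : ℕ} {Mx : CoxeterMatrix (Fin l)} {Ac : Fin l → Fin l → ℤ}
    (h : IsCartan Mx Ac) (Tor : Subgroup K) (n : Fin l → K) (Xr : (Fin l → ℤ) → Subgroup K) : Prop extends
    Rg h Tor n Xr where
  syl : RGD.Sup Xr (RGD.Pos Mx.toCoxeterSystem h) = T.subgroupOf K

/-- the nodes which fix `m` -/
def Jm {X : Type u} [Group X] {M : Type v} [Group M] [MulDistribMulAction X M] {K : Subgroup X} {l : ℕ}
    (Xr : (Fin l → ℤ) → Subgroup K) (m : M) : Set (Fin l) := {i | ∀ x ∈ Xr (-sr i), (x : X) • m = m}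

/-- the action of `X` on the nodes -/
structure Sg {X : Type u} [Group X] {K : Subgroup X} (T : Subgroup X) {l : ℕ} (Mx : CoxeterMatrix (Fin l))
    (Xr : (Fin l → ℤ) → Subgroup K) (σ : X → Fin l → Fin l) : Prop where
  one : ∀ i, σ 1 i = i
  mul : ∀ g h i, σ (g * h) i = σ g (σ h i)
  mat : ∀ g i j, Mx (σ g i) (σ g j) = Mx i j
  card : ∀ g i, Nat.card (Xr (sr (σ g i))) = Nat.card (Xr (sr i))
  two : ∃ L : Set (Fin l), L.Nonempty ∧ L ≠ Set.univ ∧ ∀ t ∈ T, ∀ i ∈ L, σ t i ∈ L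

/-- the proper `T`-invariant types -/
def LL {X : Type u} [Group X] (T : Subgroup X) {l : ℕ} (σ : X → Fin l → Fin l) (L : Set (Fin l)) : Prop :=
  L ≠ Set.univ ∧ ∀ t ∈ T, ∀ i ∈ L, σ t i ∈ L

/-- **The output of the WALL THEOREM.** -/
def WallT : Prop :=
  ∀ (X : Type u) [Group X] [Finite X] (M : Type v) [Group M] [Finite M] [MulDistribMulAction X M]
    (K T A : Subgroup X) (m : M) (l : ℕ) (Mx : CoxeterMatrix (Fin l)) (Ac : Fin l → Fin l → ℤ)
    (h : IsCartan Mx Ac) (Tor : Subgroup K) (n : Fin l → K) (Xr : (Fin l → ℤ) → Subgroup K),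
    0 < l → InX X M K T A → LA X M T A m → RF K T h Tor n Xr →
    ∃ σ : X → Fin l → Fin l, Sg T Mx Xr σ ∧ (∀ t ∈ T, ∀ j ∈ Jm Xr m, σ t j ∈ Jm Xr m) ∧
      ∃ i, i ∉ Jm Xr m ∧ (∀ k, k ∉ Jm Xr m → ∃ t ∈ T, σ t i = k) ∧
        ¬ Good Mx.toCoxeterSystem (Jm Xr m) (LL T σ) i

section perf

variable {X : Type u} [Group X] [Finite X] {M : Type v} [Group M] [Finite M] [MulDistribMulAction X M]
  {W : Type w} [CommGroup W] [Finite W] [MulDistribMulAction X W] {K T A : Subgroup X} {p : W →* M} {m : M}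
  {l : ℕ} {Mx : CoxeterMatrix (Fin l)} {Ac : Fin l → Fin l → ℤ} {h : IsCartan Mx Ac} {Tor : Subgroup K}
  {n : Fin l → K} {Xr : (Fin l → ℤ) → Subgroup K}

/-- the stabiliser of `m` in `K` -/
def Stm (K : Subgroup X) (m : M) : Subgroup K := (MulAction.stabilizer X m).subgroupOf K

theorem mem_Stm {x : K} : x ∈ Stm K m ↔ (x : X) • m = m := Iff.rfl

/-- **The contradiction.** -/
theorem false_of_perf (hI : InX X M K T A) (hw : WPart K T p) (hL : LA X M T A m) (hR : RF K T h Tor n Xr)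
    (hP : RGD.Sup Xr (RGD.Pos Mx.toCoxeterSystem h) ≤ ⁅Stm K m, Stm K m⁆) : False := by
  have hodd : ¬ 2 ∣ (T ⊓ K).relIndex K := by
    have := hI.norm
    rw [Subgroup.inf_relIndex_right]
    exact Cfsg.Agent.Lib.SylowNormalInf.not_dvd_relIndex (hI.two.toSylow hI.syl) K
  refine FOne.Lift.false_of_mem hw hI.two hI.norm hodd (m := m) ?_ hL.ne
  have h1 := FOne.Lift.comm_mem hw (L := (Stm K m).map K.subtype) (m := m) (map_subtype_le _) (by
    rintro _ ⟨x, hx, rfl⟩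
    exact hx)
  refine FOne.Lift.FLs_anti ?_ h1
  rw [← map_commutator]
  intro x hx
  exact ⟨⟨x, hx.2⟩, hP (by rw [hR.syl]; exact hx.1), rfl⟩

theorem U_le_Stm (hL : LA X M T A m) (hR : RF K T h Tor n Xr) :
    RGD.Sup Xr (RGD.Pos Mx.toCoxeterSystem h) ≤ Stm K m := by
  rw [hR.syl]
  intro x hx
  exact hL.fix x hx

/-- **829's (C).** -/
theorem false_of_adj (hI : InX X M K T A) (hw : WPart K T p) (hL : LA X M T A m) (hR : RF K T h Tor n Xr)
    (hc : CommGen Mx.toCoxeterSystem h Xr)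
    (hadj : ∀ i, (∃ j ∈ Jm Xr m, i ≠ j ∧ Mx i j ≠ 2) ∨ (i ∈ Jm Xr m ∧ Xr (sr i) ≤ ⁅Li Xr i, Li Xr i⁆)) : False :=
  false_of_perf hI hw hL hR (le_comm hR.rgd hc (U_le_Stm hL hR) (J := Jm Xr m) (fun _ hj _ hx => hj _ hx) hadj)

end perf

end Cfsg.Agent.Omega.ML.Ex.Lie2

end

-- merged: Cfsg.Agent.Mrg.Omega.ML.Ex.Lie2.DatOmm
section

/-!
# The row `lie2`: data of the orthogonal groups of minus type (helper949)

`G ≃ PΩ⁻_{2m}(q)`, `q` even, `m ≥ 4`: a root group datum of type `B_{m-1}` with generation, `CommGen` (the non-simple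
positive root groups lie in `[U, U]`), and the orders `q`, `q²` of the root groups.
-/

set_option autoImplicit false

namespace Cfsg.Agent.Omega.ML.Ex.Lie2.DatOmm

open Cfsg
open CoxeterSystem Cfsg.Agent.ChevalleyStructure.CoxeterGeom Cfsg.Agent.Tits.Roots Cfsg.Agent.Tits.Core
  Cfsg.Agent.Nodes.Comb Cfsg.Agent.Nodes.Reps Cfsg.Agent.Nodes.BNOf Cfsg.Agent.Nodes.RGDLib
open Cfsg.Agent.Omega.EH3.Kf.Lev (CommGen)

/-- a root group datum of characteristic two and type `M`, with generation and `CommGen` -/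
def HasCG {l : ℕ} (M : CoxeterMatrix (Fin l)) (G : Type*) [Group G] : Prop :=
  ∃ (A : Fin l → Fin l → ℤ) (h : IsCartan M A) (T : Subgroup G) (n : Fin l → G) (X : (Fin l → ℤ) → Subgroup G),
    Finite M.Group ∧ RGD M.toCoxeterSystem h 2 T n X ∧ G1 M.toCoxeterSystem h X = ⊤ ∧ CommGen M.toCoxeterSystem h X

theorem HasCG.of_equiv {l : ℕ} {M : CoxeterMatrix (Fin l)} {G H : Type*} [Group G] [Group H] (e : G ≃* H)
    (hG : HasCG M G) : HasCG M H := by
  obtain ⟨A, h, T, n, X, hW, R, hX, hC⟩ := hG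
  refine ⟨A, h, T.map e.toMonoidHom, fun i => e (n i), fun x => (X x).map e.toMonoidHom, hW,
    rgd_map_of_injective R e.toMonoidHom e.injective, ?_, ?_⟩
  · have h1 : (G1 M.toCoxeterSystem h X).map e.toMonoidHom =
        G1 M.toCoxeterSystem h (fun x => (X x).map e.toMonoidHom) := by
      unfold G1 RGD.Sup
      rw [Subgroup.map_iSup]
    rw [← h1, hX, Subgroup.map_top_of_surjective _ e.surjective]
  · intro r hr h0 hs
    have h1 : (RGD.Sup X (RGD.Pos M.toCoxeterSystem h)).map e.toMonoidHom =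
        RGD.Sup (fun x => (X x).map e.toMonoidHom) (RGD.Pos M.toCoxeterSystem h) := by
      unfold RGD.Sup
      rw [Subgroup.map_iSup]
    rw [← h1, ← Subgroup.map_commutator]
    exact Subgroup.map_mono (hC r hr h0 hs)

section Orthogonal

open QuadraticMap
open Cfsg.Agent.LieClassical Cfsg.Agent.LieClassical.OrthCore Cfsg.Agent.LieClassical.OrthTrans
open Cfsg.Agent.LieClassical.OrthSimple Cfsg.Agent.LieClassical.OrthFinite
open Cfsg.Agent.LieClassical.OrthForms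
open Cfsg.Agent.TitsThree.KSideO Cfsg.Agent.TitsThree.StdData
open Cfsg.Agent.Nodes Cfsg.Agent.Nodes.WittAll Cfsg.Agent.Nodes.WittU Cfsg.Agent.Nodes.WittInst
  Cfsg.Agent.TitsThree.Siegel Cfsg.Agent.TitsThree.SiegelGen
  Cfsg.Agent.TitsThree.WittFrame Cfsg.Agent.TitsThree.WBridge Cfsg.Agent.TitsThree.WittWeyl
  Cfsg.Agent.TitsThree.FrameCN

variable {F : Type*} [Field F] {m : ℕ}

/-- **`PΩ⁻_{2m+2}(F)`, characteristic two.** -/
theorem cg_PO_minus [Finite F] [CharP F 2] {a b : F}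
    (hab : ∀ z₁ z₂ : F, z₁ ^ 2 + a * z₁ * z₂ + b * z₂ ^ 2 = 0 → z₁ = 0 ∧ z₂ = 0) (hm : 2 ≤ m) :
    HasCG (CoxeterMatrix.B m) (Cfsg.POmega F (Cfsg.quadFormMinus m F a b)) := by
  have : Fact (Nat.Prime 2) := ⟨Nat.prime_two⟩
  rw [← coe_minusForm]
  have hG : Good (minusForm m F a b) := by
    apply good_of_finite (nondeg_minusForm m F a b hab)
    rw [Module.finrank_fintype_fun_eq_card, Fintype.card_sum, Fintype.card_sum, Fintype.card_fin,
      Fintype.card_fin]
    omega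
  have hp : ((embMinus m F a b hab).ngt ⟨(1, 0), -nf a b (1, 0), rfl⟩).c ≠ 0 := by
    change (1 : F)⁻¹ * (-nf a b (1, 0)) ≠ 0
    simp [nf]
  have hA : AmbT (toFrame (wminus m F a b hab)) 2 (E (minusForm m F a b)) :=
    EH3.Kf.OMinusBd.ambT a b hab hm hG
  refine ⟨TypeC.A m, TypeC.isCartan m, _, _, _, TypeC.finite_W (CoxeterMatrix.B m).toCoxeterSystem,
    rgdC_model (model (wminus m F a b hab) hG ⟨_, hp⟩) hA hp _,
    WittModel.G1_eq_top (model (wminus m F a b hab) hG ⟨_, hp⟩) (by omega) _, ?_⟩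
  intro r hr h0 hs
  exact (EH3.Kf.TwWitt.gd_of_surj (model (wminus m F a b hab) hG ⟨_, hp⟩)
    (EH3.Kf.OMinusBd.exists_h_minus a b hab)).gen _ hr h0 hs

end Orthogonal

/-- **The orthogonal groups of minus type.** -/
theorem cg_of_minus {G : Type*} [Group G] (hG : IsPOmegaMinusChar 2 G) :
    ∃ l, 3 ≤ l ∧ HasCG (CoxeterMatrix.B l) G := by
  obtain ⟨F, _, _, _, m, a, b, hm, hab, ⟨e⟩⟩ := hG
  exact ⟨m - 1, by omega, (cg_PO_minus hab (by omega)).of_equiv e.symm⟩

end Cfsg.Agent.Omega.ML.Ex.Lie2.DatOmm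

end

-- merged: Cfsg.Agent.Mrg.Omega.ML.Ex.Lie2.Dat
section

section


/-!
# The Lie(2) row: data of the families, transport (helper993)

* `Rg.map`, `Dt.map` : transport along isomorphisms;
* `Dt h Tor n Xr pf` : `CommGen` and perfect nodes;  `HasDt Mx pf G`, `HasDt.of_equiv`, `HasCG.dt`;
* `Rg.exists_rf` : the datum can be conjugated such that `U = T ⊓ K`;
* **`HasDt.exists_rf`**.
-/

set_option autoImplicit false
set_option linter.unusedSectionVars false

namespace Cfsg.Agent.Omega.ML.Ex.Lie2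

open Subgroup CoxeterSystem Cfsg.Agent.ChevalleyStructure.CoxeterGeom Cfsg.Agent.Tits.Roots Cfsg.Agent.Tits.Core
  Cfsg.Agent.Tits.Exchange Cfsg.Agent.Nodes.Reps Cfsg.Agent.Nodes.BNOf Cfsg.Agent.Nodes.StabComb
  Cfsg.Agent.Nodes.Bruhat Cfsg.Agent.Nodes.RGDLib Cfsg.Agent.Omega.EH3.Kf.Lev
open scoped commutatorElement

universe u

section map

variable {Y Y' : Type*} [Group Y] [Group Y'] {l : ℕ} {Mx : CoxeterMatrix (Fin l)} {Ac : Fin l → Fin l → ℤ}
  {h : IsCartan Mx Ac} {Tor : Subgroup Y} {n : Fin l → Y} {Xr : (Fin l → ℤ) → Subgroup Y}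

theorem Sup_map (f : Y →* Y') (S : Set (Fin l → ℤ)) :
    RGD.Sup (fun x => (Xr x).map f) S = (RGD.Sup Xr S).map f := by
  unfold RGD.Sup
  rw [Subgroup.map_iSup]

theorem Rg.map (R : Rg h Tor n Xr) (e : Y ≃* Y') :
    Rg h (Tor.map e.toMonoidHom) (fun i => e (n i)) (fun x => (Xr x).map e.toMonoidHom) where
  fin := R.fin
  rgd := rgd_map_of_injective R.rgd e.toMonoidHom e.injective
  gen := by rw [Sup_map, R.gen, Subgroup.map_top_of_surjective _ e.surjective]

/-- the data of a group: `CommGen` and perfect nodes -/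
structure Dt {Y : Type*} [Group Y] {l : ℕ} {Mx : CoxeterMatrix (Fin l)} {Ac : Fin l → Fin l → ℤ}
    (h : IsCartan Mx Ac) (Tor : Subgroup Y) (n : Fin l → Y) (Xr : (Fin l → ℤ) → Subgroup Y) (pf : Fin l → Prop) :
    Prop extends Rg h Tor n Xr where
  comm : CommGen Mx.toCoxeterSystem h Xr
  perf : ∀ i, pf i → Xr (sr i) ≤ ⁅Li Xr i, Li Xr i⁆

theorem Dt.map {pf : Fin l → Prop} (D : Dt h Tor n Xr pf) (e : Y ≃* Y') :
    Dt h (Tor.map e.toMonoidHom) (fun i => e (n i)) (fun x => (Xr x).map e.toMonoidHom) pf where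
  toRg := D.toRg.map e
  comm := by
    intro r hr h0 hs
    rw [Sup_map, ← Subgroup.map_commutator]
    exact Subgroup.map_mono (D.comm r hr h0 hs)
  perf := by
    intro i hi
    have h1 : Li (fun x => (Xr x).map e.toMonoidHom) i = (Li Xr i).map e.toMonoidHom :=
      (Subgroup.map_sup _ _ _).symm
    rw [h1, ← Subgroup.map_commutator]
    exact Subgroup.map_mono (D.perf i hi)

end map

/-- a group with data of type `Mx` -/
def HasDt {l : ℕ} (Mx : CoxeterMatrix (Fin l)) (pf : Fin l → Prop) (G : Type*) [Group G] : Prop :=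
  ∃ (Ac : Fin l → Fin l → ℤ) (h : IsCartan Mx Ac) (Tor : Subgroup G) (n : Fin l → G)
    (Xr : (Fin l → ℤ) → Subgroup G), Dt h Tor n Xr pf

theorem HasDt.of_equiv {l : ℕ} {Mx : CoxeterMatrix (Fin l)} {pf : Fin l → Prop} {G H : Type*} [Group G] [Group H]
    (e : G ≃* H) (hG : HasDt Mx pf G) : HasDt Mx pf H := by
  obtain ⟨Ac, h, Tor, n, Xr, D⟩ := hG
  exact ⟨Ac, h, _, _, _, D.map e⟩

theorem HasDt.mono {l : ℕ} {Mx : CoxeterMatrix (Fin l)} {pf pf' : Fin l → Prop} {G : Type*} [Group G]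
    (hG : HasDt Mx pf G) (hp : ∀ i, pf' i → pf i) : HasDt Mx pf' G := by
  obtain ⟨Ac, h, Tor, n, Xr, D⟩ := hG
  exact ⟨Ac, h, Tor, n, Xr, { toRg := D.toRg, comm := D.comm, perf := fun i hi => D.perf i (hp i hi) }⟩

theorem HasCG.dt {l : ℕ} {Mx : CoxeterMatrix (Fin l)} {G : Type*} [Group G] (hG : DatOmm.HasCG Mx G) :
    HasDt Mx (fun _ => False) G := by
  obtain ⟨Ac, h, T, n, X, hW, R, hX, hC⟩ := hG
  exact ⟨Ac, h, T, n, X, { fin := hW, rgd := R, gen := hX, comm := hC, perf := fun _ hi => hi.elim }⟩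

/-- a group with a root group datum of type `Mx`, the orders of the simple root groups satisfy `P` -/
def HasRc {l : ℕ} (Mx : CoxeterMatrix (Fin l)) (P : (Fin l → ℕ) → Prop) (G : Type*) [Group G] : Prop :=
  ∃ (Ac : Fin l → Fin l → ℤ) (h : IsCartan Mx Ac) (Tor : Subgroup G) (n : Fin l → G)
    (Xr : (Fin l → ℤ) → Subgroup G), Rg h Tor n Xr ∧ P fun i => Nat.card (Xr (sr i))

theorem HasRc.of_equiv {l : ℕ} {Mx : CoxeterMatrix (Fin l)} {P : (Fin l → ℕ) → Prop} {G H : Type*} [Group G] [Group H]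
    (e : G ≃* H) (hG : HasRc Mx P G) : HasRc Mx P H := by
  obtain ⟨Ac, h, Tor, n, Xr, D, hP⟩ := hG
  refine ⟨Ac, h, _, _, _, D.map e, ?_⟩
  have h1 : (fun i => Nat.card ((Xr (sr i)).map e.toMonoidHom)) = fun i => Nat.card (Xr (sr i)) :=
    funext fun i => Subgroup.card_map_of_injective e.injective
  show P fun i => Nat.card ((Xr (sr i)).map e.toMonoidHom)
  rw [h1]
  exact hP

/-- a group with data of type `Mx`, and the orders of the simple root groups satisfy `P` -/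
def HasDc {l : ℕ} (Mx : CoxeterMatrix (Fin l)) (pf : Fin l → Prop) (P : (Fin l → ℕ) → Prop) (G : Type*) [Group G] :
    Prop :=
  ∃ (Ac : Fin l → Fin l → ℤ) (h : IsCartan Mx Ac) (Tor : Subgroup G) (n : Fin l → G)
    (Xr : (Fin l → ℤ) → Subgroup G), Dt h Tor n Xr pf ∧ P fun i => Nat.card (Xr (sr i))

theorem HasDc.of_equiv {l : ℕ} {Mx : CoxeterMatrix (Fin l)} {pf : Fin l → Prop} {P : (Fin l → ℕ) → Prop}
    {G H : Type*} [Group G] [Group H] (e : G ≃* H) (hG : HasDc Mx pf P G) : HasDc Mx pf P H := by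
  obtain ⟨Ac, h, Tor, n, Xr, D, hP⟩ := hG
  refine ⟨Ac, h, _, _, _, D.map e, ?_⟩
  have h1 : (fun i => Nat.card ((Xr (sr i)).map e.toMonoidHom)) = fun i => Nat.card (Xr (sr i)) :=
    funext fun i => Subgroup.card_map_of_injective e.injective
  show P fun i => Nat.card ((Xr (sr i)).map e.toMonoidHom)
  rw [h1]
  exact hP

/-- the number of the elements `u` of `S` with `u ^ 2 = 1` -/
noncomputable def inv2 {G : Type*} [Group G] (S : Subgroup G) : ℕ := Nat.card {u : G // u ∈ S ∧ u * u = 1}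

theorem inv2_map {G H : Type*} [Group G] [Group H] (e : G ≃* H) (S : Subgroup G) :
    inv2 (S.map e.toMonoidHom) = inv2 S := by
  refine Nat.card_congr ⟨fun u => ⟨e.symm u.1, ?_, ?_⟩, fun u => ⟨e u.1, ?_, ?_⟩, fun u => ?_, fun u => ?_⟩
  · obtain ⟨y, hy, h1⟩ := u.2.1
    rw [← h1]
    change e.symm (e y) ∈ S
    rwa [e.symm_apply_apply]
  · rw [← map_mul, u.2.2, map_one]
  · exact ⟨u.1, u.2.1, rfl⟩
  · rw [← map_mul, u.2.2, map_one]
  · exact Subtype.ext (e.apply_symm_apply _)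
  · exact Subtype.ext (e.symm_apply_apply _)

theorem inv2_le {G : Type*} [Group G] [Finite G] (S : Subgroup G) : inv2 S ≤ Nat.card S :=
  Nat.card_le_card_of_injective (fun u : {u : G // u ∈ S ∧ u * u = 1} => (⟨u.1, u.2.1⟩ : S)) fun _ _ h =>
    Subtype.ext (congrArg (fun z : S => (z : G)) h)

/-- a group with data of type `Mx`, and the numbers `inv2` of the simple root groups satisfy `P` -/
def HasDi {l : ℕ} (Mx : CoxeterMatrix (Fin l)) (pf : Fin l → Prop) (P : (Fin l → ℕ) → Prop) (G : Type*) [Group G] :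
    Prop :=
  ∃ (Ac : Fin l → Fin l → ℤ) (h : IsCartan Mx Ac) (Tor : Subgroup G) (n : Fin l → G)
    (Xr : (Fin l → ℤ) → Subgroup G), Dt h Tor n Xr pf ∧ P fun i => inv2 (Xr (sr i))

theorem HasDi.of_equiv {l : ℕ} {Mx : CoxeterMatrix (Fin l)} {pf : Fin l → Prop} {P : (Fin l → ℕ) → Prop}
    {G H : Type*} [Group G] [Group H] (e : G ≃* H) (hG : HasDi Mx pf P G) : HasDi Mx pf P H := by
  obtain ⟨Ac, h, Tor, n, Xr, D, hP⟩ := hG
  refine ⟨Ac, h, _, _, _, D.map e, ?_⟩
  have h1 : (fun i => inv2 ((Xr (sr i)).map e.toMonoidHom)) = fun i => inv2 (Xr (sr i)) :=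
    funext fun i => inv2_map e _
  show P fun i => inv2 ((Xr (sr i)).map e.toMonoidHom)
  rw [h1]
  exact hP

section conj

variable {X : Type u} [Group X] [Finite X] {K T : Subgroup X} {l : ℕ} {Mx : CoxeterMatrix (Fin l)}
  {Ac : Fin l → Fin l → ℤ} {h : IsCartan Mx Ac} {Tor : Subgroup K} {n : Fin l → K}
  {Xr : (Fin l → ℤ) → Subgroup K}

/-- **Conjugation to a datum with `U = T ⊓ K`.** -/
theorem Rg.exists_rf (hK : K.Normal) (hT : IsPGroup 2 T) (hTi : ¬ 2 ∣ T.index) (R : Rg h Tor n Xr) :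
    ∃ g : K, RF K T h (Tor.map (MulAut.conj g).toMonoidHom) (fun i => MulAut.conj g (n i))
      (fun x => (Xr x).map (MulAut.conj g).toMonoidHom) := by
  have := R.fin
  have : Fact (Nat.Prime 2) := ⟨Nat.prime_two⟩
  obtain ⟨g, hg⟩ := EH3.Kf.RowOf.exists_syl R.rgd (KFacts.RgdRigid.GG_eq_top R.gen) (hT.toSylow hTi)
  refine ⟨g, { toRg := R.map (MulAut.conj g), syl := ?_ }⟩
  rw [Sup_map]
  ext x
  exact hg x

/-- **The data for `T`.** -/
theorem HasDt.exists_rf {pf : Fin l → Prop} (hK : K.Normal) (hT : IsPGroup 2 T) (hTi : ¬ 2 ∣ T.index)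
    (hD : HasDt Mx pf K) : ∃ (Ac : Fin l → Fin l → ℤ) (h : IsCartan Mx Ac) (Tor : Subgroup K) (n : Fin l → K)
      (Xr : (Fin l → ℤ) → Subgroup K), RF K T h Tor n Xr ∧ Dt h Tor n Xr pf := by
  obtain ⟨Ac, h, Tor, n, Xr, D⟩ := hD
  obtain ⟨g, hg⟩ := D.toRg.exists_rf hK hT hTi
  exact ⟨Ac, h, _, _, _, hg, D.map _⟩

/-- **The datum for `T`, with the orders of the simple root groups.** -/
theorem HasRc.exists_rf {P : (Fin l → ℕ) → Prop} (hK : K.Normal) (hT : IsPGroup 2 T) (hTi : ¬ 2 ∣ T.index)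
    (hD : HasRc Mx P K) : ∃ (Ac : Fin l → Fin l → ℤ) (h : IsCartan Mx Ac) (Tor : Subgroup K) (n : Fin l → K)
      (Xr : (Fin l → ℤ) → Subgroup K), RF K T h Tor n Xr ∧ P fun i => Nat.card (Xr (sr i)) := by
  obtain ⟨Ac, h, Tor, n, Xr, D, hP⟩ := hD
  obtain ⟨g, hg⟩ := D.exists_rf hK hT hTi
  refine ⟨Ac, h, _, _, _, hg, ?_⟩
  have h1 : (fun i => Nat.card ((Xr (sr i)).map (MulAut.conj g).toMonoidHom)) = fun i => Nat.card (Xr (sr i)) :=
    funext fun i => Subgroup.card_map_of_injective (MulAut.conj g).injective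
  show P fun i => Nat.card ((Xr (sr i)).map (MulAut.conj g).toMonoidHom)
  rw [h1]
  exact hP

/-- **The data for `T`, with the orders of the simple root groups.** -/
theorem HasDc.exists_rf {pf : Fin l → Prop} {P : (Fin l → ℕ) → Prop} (hK : K.Normal) (hT : IsPGroup 2 T)
    (hTi : ¬ 2 ∣ T.index) (hD : HasDc Mx pf P K) : ∃ (Ac : Fin l → Fin l → ℤ) (h : IsCartan Mx Ac)
      (Tor : Subgroup K) (n : Fin l → K) (Xr : (Fin l → ℤ) → Subgroup K), RF K T h Tor n Xr ∧ Dt h Tor n Xr pf ∧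
        P fun i => Nat.card (Xr (sr i)) := by
  obtain ⟨Ac, h, Tor, n, Xr, D, hP⟩ := hD
  obtain ⟨g, hg⟩ := D.toRg.exists_rf hK hT hTi
  refine ⟨Ac, h, _, _, _, hg, D.map _, ?_⟩
  have h1 : (fun i => Nat.card ((Xr (sr i)).map (MulAut.conj g).toMonoidHom)) = fun i => Nat.card (Xr (sr i)) :=
    funext fun i => Subgroup.card_map_of_injective (MulAut.conj g).injective
  show P fun i => Nat.card ((Xr (sr i)).map (MulAut.conj g).toMonoidHom)
  rw [h1]
  exact hP

/-- **The data for `T`, with the numbers `inv2` of the simple root groups.** -/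
theorem HasDi.exists_rf {pf : Fin l → Prop} {P : (Fin l → ℕ) → Prop} (hK : K.Normal) (hT : IsPGroup 2 T)
    (hTi : ¬ 2 ∣ T.index) (hD : HasDi Mx pf P K) : ∃ (Ac : Fin l → Fin l → ℤ) (h : IsCartan Mx Ac)
      (Tor : Subgroup K) (n : Fin l → K) (Xr : (Fin l → ℤ) → Subgroup K), RF K T h Tor n Xr ∧ Dt h Tor n Xr pf ∧
        P fun i => inv2 (Xr (sr i)) := by
  obtain ⟨Ac, h, Tor, n, Xr, D, hP⟩ := hD
  obtain ⟨g, hg⟩ := D.toRg.exists_rf hK hT hTi
  refine ⟨Ac, h, _, _, _, hg, D.map _, ?_⟩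
  have h1 : (fun i => inv2 ((Xr (sr i)).map (MulAut.conj g).toMonoidHom)) = fun i => inv2 (Xr (sr i)) :=
    funext fun i => inv2_map (MulAut.conj g) _
  show P fun i => inv2 ((Xr (sr i)).map (MulAut.conj g).toMonoidHom)
  rw [h1]
  exact hP

end conj

end Cfsg.Agent.Omega.ML.Ex.Lie2

end

section


/-!
# The Lie(2) row: the data of `F₄(q)`, `q ≥ 4` (helper333)

`CommGen` from the explicit commutator formula of the Chevalley groups: words with one term, and words with two terms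
`x_a(t u) x_b(t u²)`, which are separated by `(t, u) ↦ (t c, u / c)`, `c ≠ 1`.

**`hasDt_F4 : 4 ≤ |F| → HasDt F₄ (fun _ => False) (chevF4.group F)`**.
-/

set_option autoImplicit false
set_option linter.unusedSectionVars false

namespace Cfsg.Agent.Omega.ML.Ex.Lie2.DatF4

open Cfsg Cfsg.Lie
open Subgroup CoxeterSystem Cfsg.Agent.ChevalleyStructure.CoxeterGeom Cfsg.Agent.Tits.Roots Cfsg.Agent.Tits.Core
  Cfsg.Agent.Tits.Exchange Cfsg.Agent.Nodes.Reps Cfsg.Agent.Nodes.BNOf Cfsg.Agent.Nodes.StabComb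
  Cfsg.Agent.Nodes.Bruhat Cfsg.Agent.Nodes.RGDLib Cfsg.Agent.Omega.EH3.Kf.Lev
open Cfsg.Agent.ChevalleyStructure Cfsg.Agent.ChevalleyStructure.Elts
  Cfsg.Agent.ChevalleyStructure.RootVec Cfsg.Agent.ChevalleyStructure.RootVecTab
  Cfsg.Agent.ChevalleyStructure.NPerm Cfsg.Agent.ChevalleyStructure.CoxeterGeomTypes
open Cfsg.Agent.Nodes Cfsg.Agent.Nodes.RGDChev
open scoped commutatorElement

universe u

section terms

variable {D : ChevalleyDatum} {l : ℕ} {M : CoxeterMatrix (Fin l)} (hp : IsType D l M) {K : Type u} [Field K]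

theorem sgn_mul {C : ℤ} (hC : C = 1 ∨ C = -1) : ((C : K)) * (C : K) = 1 := by
  rcases hC with rfl | rfl <;> simp

include hp

/-- a word with one term -/
theorem one_term {r s q : ℕ} {C : ℤ} (hr : r < D.nroots) (hs : s < D.nroots) (hrs : s ≠ r) (hneg : s ≠ D.neg r)
    (h : D.commTerms r s = [(q, C, 1, 1)]) (hC : C = 1 ∨ C = -1) {H : Subgroup (GL D.Idx K)}
    (hr' : D.rootSubgroup K r ≤ H) (hs' : D.rootSubgroup K s ≤ H) : D.rootSubgroup K q ≤ ⁅H, H⁆ := by
  intro g hg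
  rw [mem_rootSubgroup_iff hp.inList] at hg
  obtain ⟨v, rfl⟩ := hg
  have h1 := comm_xG hp hr hs hrs hneg (-1 : K) ((C : K) * v)
  have h2 : D.commWord K r s (-1) ((C : K) * v) = [(q, v)] := by
    unfold ChevalleyDatum.commWord
    rw [h]
    simp only [List.map_cons, List.map_nil, pow_one]
    have e : (C : K) * - -1 * ((C : K) * v) = v := by
      rw [_root_.neg_neg, mul_one, ← mul_assoc, sgn_mul hC, one_mul]
    rw [e]
  rw [h2, wordG_cons, wordG_nil, mul_one] at h1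
  rw [← h1]
  exact commutator_mem_commutator (inv_mem (hs' (xG_mem_rootSubgroup hp.inList s _)))
    (inv_mem (hr' (xG_mem_rootSubgroup hp.inList r _)))

/-- the words with two terms -/
theorem word_mem {r s a b : ℕ} {C C' : ℤ} {i j : ℕ} (hr : r < D.nroots) (hs : s < D.nroots) (hrs : s ≠ r)
    (hneg : s ≠ D.neg r) (h : D.commTerms r s = [(a, C, 1, 1), (b, C', i, j)]) {H : Subgroup (GL D.Idx K)}
    (hr' : D.rootSubgroup K r ≤ H) (hs' : D.rootSubgroup K s ≤ H) (t u : K) :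
    xG hp.inList a ((C : K) * (t * u)) * xG hp.inList b ((C' : K) * (t ^ i * u ^ j)) ∈ ⁅H, H⁆ := by
  have h1 := comm_xG hp hr hs hrs hneg (-t) u
  have h2 : D.commWord K r s (-t) u = [(a, (C : K) * (t * u)), (b, (C' : K) * (t ^ i * u ^ j))] := by
    unfold ChevalleyDatum.commWord
    rw [h]
    simp only [List.map_cons, List.map_nil, pow_one, _root_.neg_neg, mul_assoc]
  rw [h2, wordG_cons, wordG_cons, wordG_nil, mul_one] at h1
  rw [← h1]
  exact commutator_mem_commutator (inv_mem (hs' (xG_mem_rootSubgroup hp.inList s _)))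
    (inv_mem (hr' (xG_mem_rootSubgroup hp.inList r _)))

/-- two terms: the second one -/
theorem two_term_b {r s a b : ℕ} {C C' : ℤ} {i j : ℕ} (hr : r < D.nroots) (hs : s < D.nroots) (hrs : s ≠ r)
    (hneg : s ≠ D.neg r) (h : D.commTerms r s = [(a, C, 1, 1), (b, C', i, j)]) (hC' : C' = 1 ∨ C' = -1)
    (hij : (i = 1 ∧ j = 2) ∨ (i = 2 ∧ j = 1)) (hK : ∃ c : K, c ≠ 0 ∧ c ≠ 1) {H : Subgroup (GL D.Idx K)}
    (hr' : D.rootSubgroup K r ≤ H) (hs' : D.rootSubgroup K s ≤ H) : D.rootSubgroup K b ≤ ⁅H, H⁆ := by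
  obtain ⟨c, hc0, hc1⟩ := hK
  have hc2 : c - 1 ≠ 0 := sub_ne_zero.2 hc1
  -- the difference of two words
  have key : ∀ t u t' u' : K, t * u = t' * u' →
      xG hp.inList b ((C' : K) * (t' ^ i * u' ^ j - t ^ i * u ^ j)) ∈ ⁅H, H⁆ := by
    intro t u t' u' e
    have h1 := word_mem hp hr hs hrs hneg h hr' hs' t u
    have h2 := word_mem hp hr hs hrs hneg h hr' hs' t' u'
    rw [← e] at h2
    have h3 := mul_mem (inv_mem h1) h2
    have e1 : (xG hp.inList a ((C : K) * (t * u)) * xG hp.inList b ((C' : K) * (t ^ i * u ^ j)))⁻¹ *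
        (xG hp.inList a ((C : K) * (t * u)) * xG hp.inList b ((C' : K) * (t' ^ i * u' ^ j))) =
        (xG hp.inList b ((C' : K) * (t ^ i * u ^ j)))⁻¹ * xG hp.inList b ((C' : K) * (t' ^ i * u' ^ j)) := by
      group
    rw [e1, xG_inv, xG_add] at h3
    have e2 : -((C' : K) * (t ^ i * u ^ j)) + (C' : K) * (t' ^ i * u' ^ j) =
        (C' : K) * (t' ^ i * u' ^ j - t ^ i * u ^ j) := by ring
    rwa [e2] at h3
  intro g hg
  rw [mem_rootSubgroup_iff hp.inList] at hg
  obtain ⟨v, rfl⟩ := hg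
  have hCC := sgn_mul (K := K) hC'
  rcases hij with ⟨rfl, rfl⟩ | ⟨rfl, rfl⟩
  · -- `t u²`
    have h1 := key ((C' : K) * v / (c - 1)) 1 ((C' : K) * v / (c - 1) / c) c (by field_simp)
    have e : (C' : K) * (((C' : K) * v / (c - 1) / c) ^ 1 * c ^ 2 - ((C' : K) * v / (c - 1)) ^ 1 * 1 ^ 2) = v := by
      have e1 : (C' : K) * (((C' : K) * v / (c - 1) / c) ^ 1 * c ^ 2 - ((C' : K) * v / (c - 1)) ^ 1 * 1 ^ 2) =
          ((C' : K) * (C' : K)) * v := by field_simp
      rw [e1, hCC, one_mul]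
    rwa [e] at h1
  · have h1 := key 1 ((C' : K) * v / (c - 1)) c ((C' : K) * v / (c - 1) / c) (by field_simp)
    have e : (C' : K) * (c ^ 2 * ((C' : K) * v / (c - 1) / c) ^ 1 - 1 ^ 2 * ((C' : K) * v / (c - 1)) ^ 1) = v := by
      have e1 : (C' : K) * (c ^ 2 * ((C' : K) * v / (c - 1) / c) ^ 1 - 1 ^ 2 * ((C' : K) * v / (c - 1)) ^ 1) =
          ((C' : K) * (C' : K)) * v := by field_simp
      rw [e1, hCC, one_mul]
    rwa [e] at h1

/-- two terms: the first one -/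
theorem two_term_a {r s a b : ℕ} {C C' : ℤ} {i j : ℕ} (hr : r < D.nroots) (hs : s < D.nroots) (hrs : s ≠ r)
    (hneg : s ≠ D.neg r) (h : D.commTerms r s = [(a, C, 1, 1), (b, C', i, j)]) (hC : C = 1 ∨ C = -1)
    (hC' : C' = 1 ∨ C' = -1) (hij : (i = 1 ∧ j = 2) ∨ (i = 2 ∧ j = 1)) (hK : ∃ c : K, c ≠ 0 ∧ c ≠ 1)
    {H : Subgroup (GL D.Idx K)} (hr' : D.rootSubgroup K r ≤ H) (hs' : D.rootSubgroup K s ≤ H) :
    D.rootSubgroup K a ≤ ⁅H, H⁆ := by
  intro g hg
  rw [mem_rootSubgroup_iff hp.inList] at hg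
  obtain ⟨v, rfl⟩ := hg
  have h1 := word_mem hp hr hs hrs hneg h hr' hs' 1 ((C : K) * v)
  rw [one_mul, ← mul_assoc, sgn_mul hC, one_mul] at h1
  have h2 := two_term_b hp hr hs hrs hneg h hC' hij hK hr' hs'
    (xG_mem_rootSubgroup hp.inList b ((C' : K) * ((1 : K) ^ i * ((C : K) * v) ^ j)))
  exact (mul_mem_cancel_right h2).1 h1

end terms

section table

/-- `X_q` is a factor of a commutator of `X_r` and `X_s` -/
def good (D : ChevalleyDatum) (q r s : ℕ) : Bool :=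
  decide (s ≠ r) && decide (s ≠ D.neg r) &&
    match D.commTerms r s with
    | [(a, C, 1, 1)] => decide (a = q) && (decide (C = 1) || decide (C = -1))
    | [(a, C, 1, 1), (b, C', i, j)] => (decide (a = q) || decide (b = q)) && (decide (C = 1) || decide (C = -1)) &&
        (decide (C' = 1) || decide (C' = -1)) &&
        ((decide (i = 1) && decide (j = 2)) || (decide (i = 2) && decide (j = 1)))
    | _ => false

variable {D : ChevalleyDatum} {l : ℕ} {M : CoxeterMatrix (Fin l)} (hp : IsType D l M) {K : Type u} [Field K]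

include hp in
theorem le_of_good {q r s : ℕ} (hg : good D q r s = true) (hr : r < D.nroots) (hs : s < D.nroots)
    (hK : ∃ c : K, c ≠ 0 ∧ c ≠ 1) {H : Subgroup (GL D.Idx K)} (hr' : D.rootSubgroup K r ≤ H)
    (hs' : D.rootSubgroup K s ≤ H) : D.rootSubgroup K q ≤ ⁅H, H⁆ := by
  unfold good at hg
  rw [Bool.and_eq_true, Bool.and_eq_true, decide_eq_true_eq, decide_eq_true_eq] at hg
  obtain ⟨⟨h1, h2⟩, h3⟩ := hg
  split at h3
  · rename_i a C he
    simp only [Bool.and_eq_true, Bool.or_eq_true, decide_eq_true_eq] at h3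
    obtain ⟨rfl, h4⟩ := h3
    exact one_term hp hr hs h1 h2 he h4 hr' hs'
  · rename_i a C b C' i j he
    simp only [Bool.and_eq_true, Bool.or_eq_true, decide_eq_true_eq] at h3
    obtain ⟨⟨⟨h4, h5⟩, h6⟩, h7⟩ := h3
    rcases h4 with rfl | rfl
    · exact two_term_a hp hr hs h1 h2 he h5 h6 h7 hK hr' hs'
    · exact two_term_b hp hr hs h1 h2 he h6 h7 hK hr' hs'
  · exact absurd h3 (by simp)

/-- the table for `F₄`: a pair for every non-simple positive root -/
def tab : ℕ → ℕ × ℕ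
  | 26 => (24, 25)
  | 28 => (25, 27)
  | 29 => (24, 28)
  | 30 => (25, 27)
  | 31 => (24, 30)
  | 32 => (24, 28)
  | 34 => (27, 33)
  | 35 => (25, 34)
  | 36 => (24, 35)
  | 37 => (27, 35)
  | 38 => (24, 37)
  | 39 => (25, 38)
  | 40 => (27, 39)
  | 41 => (25, 34)
  | 42 => (24, 41)
  | 43 => (24, 35)
  | 44 => (27, 43)
  | 45 => (24, 37)
  | 46 => (25, 45)
  | 47 => (24, 46)
  | _ => (0, 0)

theorem tab_F4 : ∀ q : Fin 48, (∀ i : Fin 4, 0 ≤ rt chevF4 q i) → (∀ i : Fin 4, (q : ℕ) ≠ chevF4.simple i) →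
    (tab q).1 < 48 ∧ (tab q).2 < 48 ∧ (∀ i : Fin 4, 0 ≤ rt chevF4 (tab q).1 i) ∧
      (∀ i : Fin 4, 0 ≤ rt chevF4 (tab q).2 i) ∧ good chevF4 q (tab q).1 (tab q).2 = true := by
  decide +kernel

theorem nroots_F4 : chevF4.nroots = 48 := by decide +kernel

theorem isType_F4 : IsType chevF4 4 CoxeterMatrix.F₄ := by simp [IsType, typeList]

end table

section comm

variable {K : Type u} [Field K]

/-- **`CommGen` for `F₄(q)`, `q ≥ 3`** -/
theorem commGen_F4 (hK : ∃ c : K, c ≠ 0 ∧ c ≠ 1) :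
    CommGen CoxeterMatrix.F₄.toCoxeterSystem isType_F4.isCartan
      (fun x => (XV chevF4 4 K x).subgroupOf (chevF4.group K)) := by
  have hp := isType_F4
  set cs := CoxeterMatrix.F₄.toCoxeterSystem with hcs
  set Xr : (Fin 4 → ℤ) → Subgroup ↥(chevF4.group K) := fun x => (XV chevF4 4 K x).subgroupOf (chevF4.group K) with hXr
  set U := RGD.Sup Xr (RGD.Pos cs hp.isCartan) with hU
  -- positive root groups are in the image of `U`
  have hpos : ∀ r, r < chevF4.nroots → (∀ i : Fin 4, 0 ≤ rt chevF4 r i) →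
      chevF4.rootSubgroup K r ≤ U.map (chevF4.group K).subtype := by
    intro r hr h0
    have h1 : Xr (vec chevF4 4 r) ≤ U := RGD.le_Sup ⟨isRoot_vec hp cs hr, fun i => h0 i⟩
    have h2 := Subgroup.map_mono (f := (chevF4.group K).subtype) h1
    rw [hXr] at h2
    simp only [Subgroup.subgroupOf_map_subtype] at h2
    rw [inf_eq_left.2 (XV_le_group hp _), XV_vec hp K hr] at h2
    exact h2
  intro x hx h0 hns
  obtain ⟨q, hq, rfl⟩ := (isRoot_iff hp cs x).1 hx
  have hq' : q < 48 := by rw [← nroots_F4]; exact hq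
  obtain ⟨h1, h2, h3, h4, h5⟩ := tab_F4 ⟨q, hq'⟩ (fun i => h0 i) (fun i he => hns i (by
    rw [← vec_simple hp i]
    exact congrArg (vec chevF4 4) he))
  have h1' : (tab q).1 < chevF4.nroots := by rw [nroots_F4]; exact h1
  have h2' : (tab q).2 < chevF4.nroots := by rw [nroots_F4]; exact h2
  have h6 := le_of_good hp h5 h1' h2' hK (hpos _ h1' h3) (hpos _ h2' h4)
  rintro ⟨g, hgG⟩ hg
  have h7 : g ∈ chevF4.rootSubgroup K q := by
    rw [← XV_vec hp K hq]
    exact hg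
  have h8 := h6 h7
  rw [← Subgroup.map_commutator] at h8
  obtain ⟨y, hy, e⟩ := h8
  have e1 : y = ⟨g, hgG⟩ := Subtype.ext e
  rw [← e1]
  exact hy

/-- **The data of `F₄(q)`, `q ≥ 4`.** -/
theorem hasDt_F4 (F : Type u) [Field F] [Fintype F] [CharP F 2] (hF : 4 ≤ Fintype.card F) :
    HasDt CoxeterMatrix.F₄ (fun _ => False) ↥(chevF4.group F) := by
  classical
  have hc : ∃ c : F, c ≠ 0 ∧ c ≠ 1 := by
    have h1 : ∃ c : F, c ∉ ({0, 1} : Finset F) := by
      by_contra hcon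
      push Not at hcon
      have h2 : (Finset.univ : Finset F) ⊆ {0, 1} := fun c _ => hcon c
      have h3 := Finset.card_le_card h2
      have h4 : ({0, 1} : Finset F).card ≤ 2 := Finset.card_le_two
      rw [Finset.card_univ] at h3
      omega
    obtain ⟨c, hc⟩ := h1
    rw [Finset.mem_insert, Finset.mem_singleton, not_or] at hc
    exact ⟨c, hc.1, hc.2⟩
  have : Fact (Nat.Prime 2) := ⟨Nat.prime_two⟩
  exact ⟨_, isType_F4.isCartan, _, _, _, {
    fin := finite_W isType_F4 CoxeterMatrix.F₄.toCoxeterSystem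
    rgd := rgd (K := F) isType_F4 CoxeterMatrix.F₄.toCoxeterSystem 2
    gen := G1_eq_top isType_F4 _
    comm := commGen_F4 hc
    perf := fun _ h => h.elim }⟩

end comm

end Cfsg.Agent.Omega.ML.Ex.Lie2.DatF4

end

end

-- merged: Cfsg.Agent.Mrg.Omega.ML.Ex.Lie2.Main
section

/-!
# The Lie(2) row with the W-part and (LA): assembly (helper993)

`Leaves.lie2 : DeadXL (IsLieTypeChar 2)` from

* `wall` : the WALL THEOREM (helper721, 72, 530);
* data : `psp`, `psu`, `psu2` (helper613, 209, 221), `g2`, `d4` (helper833), `f4` (helper225), `psp2` (helper72),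
  `e6` (helper949);
* `five` : the end node moves, `X_last` contains at most one involution (helper221);
* `d42` : `³D₄(2)` (helper809);  `f42` : `F₄(2)` with the graph automorphism (helper115);
* `sz`, `tf` : the Suzuki groups and the groups `²F₄(q)` (helper218, helper333).
-/

set_option autoImplicit false
set_option linter.unusedSectionVars false

namespace Cfsg.Agent.Omega.ML.Ex.Lie2

open Cfsg
open Subgroup CoxeterSystem Cfsg.Agent.ChevalleyStructure.CoxeterGeom Cfsg.Agent.Tits.Roots Cfsg.Agent.Tits.Core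
  Cfsg.Agent.Tits.Exchange Cfsg.Agent.Nodes.Reps Cfsg.Agent.Nodes.BNOf Cfsg.Agent.Nodes.StabComb
  Cfsg.Agent.Nodes.Bruhat Cfsg.Agent.Nodes.RGDLib Cfsg.Agent.Omega.EH3.Kf.Lev Cfsg.Agent.Omega.ML.Ex.WallGood
  Cfsg.Agent.Omega.ML.Ex.WallSig
open Cfsg.Agent.Nodes.RGDChev (IsType typeList)
open scoped commutatorElement

universe u v w

section one

variable {X : Type u} [Group X] [Finite X] {M : Type v} [Group M] [Finite M] [MulDistribMulAction X M]
  {K T A : Subgroup X} {m : M} {l : ℕ} {Mx : CoxeterMatrix (Fin l)} {Ac : Fin l → Fin l → ℤ} {h : IsCartan Mx Ac}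
  {Tor : Subgroup K} {n : Fin l → K} {Xr : (Fin l → ℤ) → Subgroup K}

/-- the output of the wall theorem -/
structure Out (T : Subgroup X) (Mx : CoxeterMatrix (Fin l)) (Xr : (Fin l → ℤ) → Subgroup K) (m : M)
    (σ : X → Fin l → Fin l) (i : Fin l) : Prop where
  sg : Sg T Mx Xr σ
  inv : ∀ t ∈ T, ∀ j ∈ Jm Xr m, σ t j ∈ Jm Xr m
  mem : i ∉ Jm Xr m
  orb : ∀ k, k ∉ Jm Xr m → ∃ t ∈ T, σ t i = k
  bad : ¬ Good Mx.toCoxeterSystem (Jm Xr m) (LL T σ) i

theorem exists_out (wall : WallT.{u, v}) (hl : 0 < l) (hI : InX X M K T A) (hL : LA X M T A m)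
    (hR : RF K T h Tor n Xr) : ∃ σ i, Out T Mx Xr m σ i := by
  obtain ⟨σ, h1, h2, i, h3, h4, h5⟩ := wall X M K T A m l Mx Ac h Tor n Xr hl hI hL hR
  exact ⟨σ, i, h1, h2, h3, h4, h5⟩

variable {σ : X → Fin l → Fin l} {i : Fin l} (O : Out T Mx Xr m σ i)
include O

theorem Out.orb_inv {k : Fin l} (hk : ∃ t ∈ T, σ t i = k) {s : X} (hs : s ∈ T) : ∃ t ∈ T, σ t i = σ s k := by
  obtain ⟨t, ht, rfl⟩ := hk
  exact ⟨s * t, mul_mem hs ht, O.sg.mul _ _ _⟩

/-- `Jm` is not empty -/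
theorem Out.nonempty : (Jm Xr m : Set (Fin l)).Nonempty := by
  by_contra hne
  rw [Set.not_nonempty_iff_eq_empty] at hne
  obtain ⟨L, ⟨j, hj⟩, hLu, hLT⟩ := O.sg.two
  apply hLu
  ext k
  simp only [Set.mem_univ, iff_true]
  have h1 : ∀ k, ∃ t ∈ T, σ t i = k := fun k => O.orb k (by rw [hne]; exact Set.notMem_empty k)
  obtain ⟨t, ht, e⟩ := h1 j
  obtain ⟨s, hs, e'⟩ := h1 k
  have h2 : σ (s * t⁻¹) j = k := by
    rw [← e, ← O.sg.mul, inv_mul_cancel_right, e']
  rw [← h2]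
  exact hLT _ (mul_mem hs (inv_mem ht)) _ hj

/-- the orbit of `i` is a proper invariant type -/
theorem Out.exists_LL : ∃ L, LL T σ L ∧ i ∈ L := by
  refine ⟨{k | ∃ t ∈ T, σ t i = k}, ⟨?_, ?_⟩, 1, one_mem _, O.sg.one i⟩
  · intro hu
    obtain ⟨L, ⟨j, hj⟩, hLu, hLT⟩ := O.sg.two
    apply hLu
    ext k
    simp only [Set.mem_univ, iff_true]
    have h1 : ∀ k, ∃ t ∈ T, σ t i = k := fun k => by
      have h2 : k ∈ {k | ∃ t ∈ T, σ t i = k} := by rw [hu]; trivial
      exact h2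
    obtain ⟨t, ht, e⟩ := h1 j
    obtain ⟨s, hs, e'⟩ := h1 k
    have h2 : σ (s * t⁻¹) j = k := by
      rw [← e, ← O.sg.mul, inv_mul_cancel_right, e']
    rw [← h2]
    exact hLT _ (mul_mem hs (inv_mem ht)) _ hj
  · rintro t ht k hk
    exact O.orb_inv hk ht

theorem Out.LL_J : LL T σ (Jm Xr m) := ⟨fun e => O.mem (by rw [e]; trivial), O.inv⟩

/-- **Simply laced.** -/
theorem Out.false_laced [Finite Mx.Group] (hM : Typ.Laced Mx) (hc : IsCartan Mx Ac) : False := by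
  refine O.bad (good_of_laced (fun a b hab => ?_) O.LL_J O.exists_LL)
  have h1 := hM a b
  rcases hc.rel a b hab with h2 | h2 | h2 | h2
  · exact Or.inl h2.1
  · exact Or.inr h2.1
  · omega
  · omega

end one

section B

variable {X : Type u} [Group X] [Finite X] {M : Type v} [Group M] [Finite M] [MulDistribMulAction X M]
  {W : Type w} [CommGroup W] [Finite W] [MulDistribMulAction X W] {p : W →* M}
  {K T A : Subgroup X} {m : M} {l : ℕ} {Ac : Fin l → Fin l → ℤ} {h : IsCartan (CoxeterMatrix.B l) Ac}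
  {Tor : Subgroup K} {n : Fin l → K} {Xr : (Fin l → ℤ) → Subgroup K} {σ : X → Fin l → Fin l} {i : Fin l}

/-- type `B_l`, `l ≥ 3` -/
theorem Out.eq_B (hl : 3 ≤ l) (O : Out T (CoxeterMatrix.B l) Xr m σ i) : Jm Xr m = {k : Fin l | (k : ℕ) ≠ 0} := by
  by_contra hne
  refine O.bad (goodB _ hl (fun L hL => ⟨hL, fun t _ j hj => ?_⟩) O.mem hne)
  rw [sigB hl (O.sg.mat t)]
  exact hj

theorem adj_B {i j : Fin l} (hij : (i : ℕ) + 1 = j) : i ≠ j ∧ CoxeterMatrix.B l i j ≠ 2 ∧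
    CoxeterMatrix.B l j i ≠ 2 := by
  have h1 : i ≠ j := fun e => by rw [e] at hij; omega
  refine ⟨h1, ?_, ?_⟩
  · rw [B_apply h1]; split_ifs <;> omega
  · rw [B_apply h1.symm]; split_ifs <;> omega

/-- **type `B_l`, `l ≥ 3`, with `CommGen`** -/
theorem Out.false_B (hl : 3 ≤ l) (O : Out T (CoxeterMatrix.B l) Xr m σ i) (hI : InX X M K T A) (hw : WPart K T p)
    (hL : LA X M T A m) (hR : RF K T h Tor n Xr) {pf : Fin l → Prop} (hD : Dt h Tor n Xr pf) : False := by
  have hJ := O.eq_B hl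
  refine false_of_adj hI hw hL hR hD.comm fun k => Or.inl ?_
  rw [hJ]
  rcases Nat.lt_or_ge (k : ℕ) 2 with h2 | h2
  · have h3 : (k : ℕ) + 1 < l := by omega
    obtain ⟨h4, h5, -⟩ := adj_B (l := l) (i := k) (j := ⟨k + 1, h3⟩) rfl
    exact ⟨⟨k + 1, h3⟩, by simp, h4, h5⟩
  · have h3 : (k : ℕ) - 1 < l := by omega
    obtain ⟨h4, -, h5⟩ := adj_B (l := l) (i := ⟨k - 1, h3⟩) (j := k) (by simp; omega)
    exact ⟨⟨k - 1, h3⟩, by simp; omega, h4.symm, h5⟩

end B

section two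

variable {X : Type u} [Group X] [Finite X] {M : Type v} [Group M] [Finite M] [MulDistribMulAction X M]
  {W : Type w} [CommGroup W] [Finite W] [MulDistribMulAction X W] {p : W →* M}
  {K T A : Subgroup X} {m : M} {Mx : CoxeterMatrix (Fin 2)} {Ac : Fin 2 → Fin 2 → ℤ} {h : IsCartan Mx Ac}
  {Tor : Subgroup K} {n : Fin 2 → K} {Xr : (Fin 2 → ℤ) → Subgroup K} {σ : X → Fin 2 → Fin 2} {i : Fin 2}

/-- rank two: one node fixes `m`, one moves it -/
theorem Out.two_cases (O : Out T Mx Xr m σ i) : Jm Xr m = {0} ∨ Jm Xr m = {1} := by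
  obtain ⟨j, hj⟩ := O.nonempty
  have hi := O.mem
  have hij : i ≠ j := fun e => hi (by rw [e]; exact hj)
  have h2 : ∀ a : Fin 2, a = 0 ∨ a = 1 := by decide
  rcases h2 i with rfl | rfl <;> rcases h2 j with rfl | rfl
  · exact absurd rfl hij
  · right
    ext k
    rcases h2 k with rfl | rfl <;> simp [hj, hi]
  · left
    ext k
    rcases h2 k with rfl | rfl <;> simp [hj, hi]
  · exact absurd rfl hij

/-- **rank two, the fixing node is perfect** -/
theorem Out.false_two (_O : Out T Mx Xr m σ i) (hM : Mx 0 1 ≠ 2) (hI : InX X M K T A) (hw : WPart K T p)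
    (hL : LA X M T A m) (hR : RF K T h Tor n Xr) {pf : Fin 2 → Prop} (hD : Dt h Tor n Xr pf) {j : Fin 2}
    (hJ : Jm Xr m = {j}) (hj : pf j) : False := by
  have h2 : ∀ a : Fin 2, a = 0 ∨ a = 1 := by decide
  refine false_of_adj hI hw hL hR hD.comm fun k => ?_
  rw [hJ]
  by_cases hk : k = j
  · subst hk
    exact Or.inr ⟨rfl, hD.perf k hj⟩
  · refine Or.inl ⟨j, rfl, hk, ?_⟩
    rcases h2 k with rfl | rfl <;> rcases h2 j with rfl | rfl
    · exact absurd rfl hk
    · exact hM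
    · rw [Mx.symmetric]; exact hM
    · exact absurd rfl hk

end two

section F

variable {X : Type u} [Group X] [Finite X] {M : Type v} [Group M] [Finite M] [MulDistribMulAction X M]
  {W : Type w} [CommGroup W] [Finite W] [MulDistribMulAction X W] {p : W →* M}
  {K T A : Subgroup X} {m : M} {Ac : Fin 4 → Fin 4 → ℤ} {h : IsCartan CoxeterMatrix.F₄ Ac}
  {Tor : Subgroup K} {n : Fin 4 → K} {Xr : (Fin 4 → ℤ) → Subgroup K} {σ : X → Fin 4 → Fin 4} {i : Fin 4}

/-- type `F₄`: `T` contains a graph automorphism, the middle nodes fix `m` -/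
theorem Out.eq_F (O : Out T CoxeterMatrix.F₄ Xr m σ i) :
    Jm Xr m = {1, 2} ∧ Nat.card (Xr (sr 0)) = Nat.card (Xr (sr 3)) := by
  by_cases hid : ∀ t ∈ T, ∀ j, σ t j = j
  · exact absurd (goodF _ (fun L hL => ⟨hL, fun t ht j hj => by rw [hid t ht]; exact hj⟩) O.mem) O.bad
  push Not at hid
  obtain ⟨t, ht, j, hj⟩ := hid
  have hf : ∀ k, σ t k = flip k := (sigF (O.sg.mat t)).resolve_left fun h1 => hj (h1 j)
  have hcard : Nat.card (Xr (sr 0)) = Nat.card (Xr (sr 3)) := by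
    have h1 := O.sg.card t 3
    rw [hf] at h1
    exact h1
  refine ⟨?_, hcard⟩
  have hinv : ∀ k ∈ Jm Xr m, flip k ∈ Jm Xr m := fun k hk => by rw [← hf]; exact O.inv t ht k hk
  have hall : ∀ s ∈ T, ∀ k, σ s k = k ∨ σ s k = flip k := fun s _ k => by
    rcases sigF (O.sg.mat s) with h1 | h1
    · exact Or.inl (h1 k)
    · exact Or.inr (h1 k)
  have horb : ∀ k, k ∉ Jm Xr m → k = i ∨ k = flip i := fun k hk => by
    obtain ⟨s, hs, e⟩ := O.orb k hk
    rcases hall s hs i with h1 | h1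
    · exact Or.inl (e.symm.trans h1)
    · exact Or.inr (e.symm.trans h1)
  have hii : flip i ∉ Jm Xr m := fun h1 => O.mem (by
    have h2 := hinv _ h1
    have h3 : ∀ k : Fin 4, flip (flip k) = k := by decide
    rwa [h3] at h2)
  have h03 : LL T σ ({0, 3} : Set (Fin 4)) := by
    refine ⟨fun e => ?_, fun s hs k hk => ?_⟩
    · have h1 : (1 : Fin 4) ∈ ({0, 3} : Set (Fin 4)) := by rw [e]; trivial
      simp at h1
    · rcases hall s hs k with h1 | h1
      · rw [h1]; exact hk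
      · rw [h1]
        rcases hk with rfl | rfl
        · right; rfl
        · left; rfl
  have h12 : LL T σ ({1, 2} : Set (Fin 4)) := by
    refine ⟨fun e => ?_, fun s hs k hk => ?_⟩
    · have h1 : (0 : Fin 4) ∈ ({1, 2} : Set (Fin 4)) := by rw [e]; trivial
      simp at h1
    · rcases hall s hs k with h1 | h1
      · rw [h1]; exact hk
      · rw [h1]
        rcases hk with rfl | rfl
        · right; rfl
        · left; rfl
  have h4 : ∀ a : Fin 4, a = 0 ∨ a = 1 ∨ a = 2 ∨ a = 3 := by decide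
  have key : Jm Xr m = {k | k ≠ i ∧ k ≠ flip i} := by
    ext k
    constructor
    · intro hk
      exact ⟨fun e => O.mem (by rw [← e]; exact hk), fun e => hii (by rw [← e]; exact hk)⟩
    · rintro ⟨h1, h2⟩
      by_contra hk
      rcases horb k hk with h3 | h3
      · exact h1 h3
      · exact h2 h3
  rcases h4 i with rfl | rfl | rfl | rfl
  · rw [key]
    ext k
    have : ∀ k : Fin 4, (k ≠ 0 ∧ k ≠ flip 0) ↔ (k = 1 ∨ k = 2) := by decide
    exact this k
  · exfalso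
    have hJ : Jm Xr m = {0, 3} := by
      rw [key]
      ext k
      have : ∀ k : Fin 4, (k ≠ 1 ∧ k ≠ flip 1) ↔ (k = 0 ∨ k = 3) := by decide
      exact this k
    have hb := O.bad
    rw [hJ] at hb
    exact hb (goodF_graph _ h03 h12 (Or.inl rfl))
  · exfalso
    have hJ : Jm Xr m = {0, 3} := by
      rw [key]
      ext k
      have : ∀ k : Fin 4, (k ≠ 2 ∧ k ≠ flip 2) ↔ (k = 0 ∨ k = 3) := by decide
      exact this k
    have hb := O.bad
    rw [hJ] at hb
    exact hb (goodF_graph _ h03 h12 (Or.inr rfl))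
  · rw [key]
    ext k
    have : ∀ k : Fin 4, (k ≠ 3 ∧ k ≠ flip 3) ↔ (k = 1 ∨ k = 2) := by decide
    exact this k

/-- **`F₄` with `CommGen`** -/
theorem Out.false_F (O : Out T CoxeterMatrix.F₄ Xr m σ i) (hI : InX X M K T A) (hw : WPart K T p)
    (hL : LA X M T A m) (hR : RF K T h Tor n Xr) {pf : Fin 4 → Prop} (hD : Dt h Tor n Xr pf) : False := by
  obtain ⟨hJ, -⟩ := O.eq_F
  refine false_of_adj hI hw hL hR hD.comm fun k => Or.inl ?_
  rw [hJ]
  have h4 : ∀ a : Fin 4, a = 0 ∨ a = 1 ∨ a = 2 ∨ a = 3 := by decide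
  have hd : CoxeterMatrix.F₄ 0 1 ≠ 2 ∧ CoxeterMatrix.F₄ 1 2 ≠ 2 ∧ CoxeterMatrix.F₄ 2 1 ≠ 2 ∧
      CoxeterMatrix.F₄ 3 2 ≠ 2 := by decide
  rcases h4 k with rfl | rfl | rfl | rfl
  · exact ⟨1, Or.inl rfl, by decide, hd.1⟩
  · exact ⟨2, Or.inr rfl, by decide, hd.2.1⟩
  · exact ⟨1, Or.inl rfl, by decide, hd.2.2.1⟩
  · exact ⟨2, Or.inr rfl, by decide, hd.2.2.2⟩

end F

/-! ### The leaves -/

/-- the end node of `B_l` moves `m`, the last root group contains at most one involution (helper221) -/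
def FiveI : Prop :=
  ∀ (X : Type u) [Group X] [Finite X] (M : Type v) [Group M] [Finite M] [MulDistribMulAction X M]
    (K T A : Subgroup X) (m : M) (l : ℕ) (Ac : Fin l → Fin l → ℤ)
    (h : IsCartan (CoxeterMatrix.B l) Ac) (Tor : Subgroup K) (n : Fin l → K) (Xr : (Fin l → ℤ) → Subgroup K),
    2 ≤ l → InX X M K T A → LA X M T A m → RF K T h Tor n Xr →
    (∀ i : Fin l, (i : ℕ) + 1 = l → inv2 (Xr (sr i)) < 4) → Jm Xr m = {k : Fin l | (k : ℕ) ≠ 0} → False

/-- `F₄(2)`, the middle nodes fix `m`, for every root group datum (helper115) -/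
def FFourTwo : Prop :=
  ∀ (X : Type u) [Group X] [Finite X] (M : Type v) [Group M] [Finite M] [MulDistribMulAction X M]
    (W : Type w) [CommGroup W] [Finite W] [MulDistribMulAction X W] (K T A : Subgroup X) (p : W →* M) (m : M),
    InX X M K T A → WPart K T p → LA X M T A m →
    (∃ (F : Type) (_ : Field F) (_ : Fintype F), CharP F 2 ∧ Fintype.card F = 2 ∧
      Nonempty (K ≃* Lie.chevF4.group F)) →
    (∀ (Ac : Fin 4 → Fin 4 → ℤ) (h : IsCartan CoxeterMatrix.F₄ Ac) (Tor : Subgroup K) (n : Fin 4 → K)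
      (Xr : (Fin 4 → ℤ) → Subgroup K), RF K T h Tor n Xr → Jm Xr m = {1, 2}) → False

/-- **The leaves.** -/
structure Leaves : Prop where
  wall : WallT.{u, v}
  five : FiveI.{u, v}
  f42 : FFourTwo.{u, v, w}
  d42 : DeadXL.{u, v, w} fun S _ => ∃ (F : Type) (_ : Field F) (_ : Fintype F), CharP F 2 ∧ Fintype.card F = 8 ∧
    Nonempty (S ≃* Lie.twistedD4 F 2)
  sz : DeadXL.{u, v, w} fun S _ => Lie.IsoSuzuki S
  tf : DeadXL.{u, v, w} fun S _ => Lie.Iso2F4 S
  psp : ∀ (F : Type) [Field F] [Fintype F] [CharP F 2] (m : ℕ), 2 ≤ m → 2 < Fintype.card F →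
    HasDt (CoxeterMatrix.B m) (fun _ => True) (PSp m F)
  psp2 : ∀ (F : Type) [Field F] [Fintype F] [CharP F 2] (m : ℕ), 3 ≤ m → Fintype.card F = 2 →
    HasRc (CoxeterMatrix.B m) (fun c => ∀ i : Fin m, (i : ℕ) + 1 = m → c i < 4) (PSp m F)
  psu : ∀ (F : Type) [Field F] [Fintype F] [CharP F 2] (N q : ℕ), Fintype.card F = q ^ 2 → 4 ≤ N →
    ∃ l, 2 ≤ l ∧ (N = 2 * l ∨ N = 2 * l + 1) ∧
      HasDt (CoxeterMatrix.B l) (fun i : Fin l => (i : ℕ) + 1 < l ∨ 2 < q) (PSU N F q)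
  psu2 : ∀ (F : Type) [Field F] [Fintype F] [CharP F 2] (N : ℕ), Fintype.card F = 4 → N = 4 ∨ N = 5 →
    HasDi (CoxeterMatrix.B 2) (fun i => i = 0) (fun c => c 1 < 4) (PSU N F 2)
  g2 : ∀ (F : Type) [Field F] [Fintype F] [CharP F 2], 4 ≤ Fintype.card F →
    HasDt CoxeterMatrix.G₂ (fun _ => True) ↥(Lie.chevG2.group F)
  d4 : ∀ (F : Type) [Field F] [Fintype F] [CharP F 2] (q : ℕ), IsPrimePow q → Fintype.card F = q ^ 3 → 4 ≤ q →
    HasDt CoxeterMatrix.G₂ (fun _ => True) ↥(Lie.twistedD4 F q)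
  f4 : ∀ (F : Type) [Field F] [Fintype F] [CharP F 2], 4 ≤ Fintype.card F →
    HasDt CoxeterMatrix.F₄ (fun _ => False) ↥(Lie.chevF4.group F)
  e6 : ∀ (F : Type) [Field F] [Fintype F] [CharP F 2] (q : ℕ), IsPrimePow q → Fintype.card F = q ^ 2 →
    HasRc CoxeterMatrix.F₄ (fun c => c 0 ≠ c 3) ↥(Lie.twistedE6 F q)

section main

variable {X : Type u} [Group X] [Finite X] {M : Type v} [Group M] [Finite M] [MulDistribMulAction X M]
  {W : Type w} [CommGroup W] [Finite W] [MulDistribMulAction X W] {K T A : Subgroup X} {p : W →* M} {m : M}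

/-- simply laced types -/
theorem false_of_laced (wall : WallT.{u, v}) (hI : InX X M K T A) (hL : LA X M T A m) {l : ℕ}
    {Mx : CoxeterMatrix (Fin l)} (hl : 0 < l) (hM : Typ.Laced Mx) (hG : Typ.HasRGDT 2 Mx K) : False := by
  obtain ⟨Ac, h, Tor, n, Xr, hW, R, hX⟩ := hG
  have R' : Rg h Tor n Xr := { fin := hW, rgd := R, gen := hX }
  obtain ⟨g, hg⟩ := R'.exists_rf hI.norm hI.two hI.syl
  obtain ⟨σ, i, O⟩ := exists_out wall hl hI hL hg
  exact O.false_laced hM h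

/-- type `B_l`, `l ≥ 3`, with `CommGen` -/
theorem false_of_B (wall : WallT.{u, v}) (hI : InX X M K T A) (hw : WPart K T p) (hL : LA X M T A m) {l : ℕ}
    (hl : 3 ≤ l) {pf : Fin l → Prop} (hG : HasDt (CoxeterMatrix.B l) pf K) : False := by
  obtain ⟨Ac, h, Tor, n, Xr, hR, hD⟩ := hG.exists_rf hI.norm hI.two hI.syl
  obtain ⟨σ, i, O⟩ := exists_out wall (by omega) hI hL hR
  exact O.false_B hl hI hw hL hR hD

theorem mx_B2 : CoxeterMatrix.B 2 0 1 ≠ 2 := by decide

theorem mx_G2 : CoxeterMatrix.G₂ 0 1 ≠ 2 := by decide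

/-- rank two, both nodes perfect -/
theorem false_of_two (wall : WallT.{u, v}) (hI : InX X M K T A) (hw : WPart K T p) (hL : LA X M T A m)
    {Mx : CoxeterMatrix (Fin 2)} (hM : Mx 0 1 ≠ 2) {pf : Fin 2 → Prop} (hpf : ∀ i, pf i) (hG : HasDt Mx pf K) :
    False := by
  obtain ⟨Ac, h, Tor, n, Xr, hR, hD⟩ := hG.exists_rf hI.norm hI.two hI.syl
  obtain ⟨σ, i, O⟩ := exists_out wall (by omega) hI hL hR
  rcases O.two_cases with hJ | hJ
  · exact O.false_two hM hI hw hL hR hD hJ (hpf 0)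
  · exact O.false_two hM hI hw hL hR hD hJ (hpf 1)

/-- **The Lie(2) row.** -/
theorem Leaves.lie2 (P : Leaves.{u, v, w}) : DeadXL.{u, v, w} fun S _ => IsLieTypeChar 2 S := by
  intro X _ _ M _ _ _ W _ _ _ K T A p m hI hw hL hK
  have htwo : ∀ (F : Type) [Field F] [Fintype F] [CharP F 2], ∃ k, 0 < k ∧ Fintype.card F = 2 ^ k := by
    intro F _ _ _
    obtain ⟨k, -, hk⟩ := FiniteField.card F 2
    exact ⟨k, k.pos, hk⟩
  rcases hK with hK | hK | hK | hK | hK | hK | hK | hK | hK | hK | hK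
  · obtain ⟨n, hn, h⟩ := Typ.typ_of_PSL hK
    exact false_of_laced P.wall hI hL hn (Typ.laced_cA n) h
  · obtain ⟨F, _, _, _, n, hn, hn2, ⟨e⟩⟩ := hK
    obtain ⟨k, hk, hc⟩ := htwo F
    rcases Nat.lt_or_ge 2 (Fintype.card F) with h2 | h2
    · have hD := (P.psp F n hn h2).of_equiv e.symm
      rcases Nat.lt_or_ge n 3 with h3 | h3
      · obtain rfl : n = 2 := by omega
        exact false_of_two P.wall hI hw hL mx_B2 (fun _ => trivial) hD
      · exact false_of_B P.wall hI hw hL h3 hD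
    · have h2' : Fintype.card F = 2 := by
        have h4 := Nat.one_lt_two_pow hk.ne'
        omega
      have h3 : 3 ≤ n := by
        by_contra hcon
        have := hn2 (by omega)
        omega
      obtain ⟨Ac, h, Tor, nn, Xr, hR, hP⟩ := ((P.psp2 F n h3 h2').of_equiv e.symm).exists_rf hI.norm hI.two hI.syl
      obtain ⟨σ, i, O⟩ := exists_out P.wall (by omega) hI hL hR
      exact P.five X M K T A m n Ac h Tor nn Xr hn hI hL hR (fun i hi => (inv2_le _).trans_lt (hP i hi)) (O.eq_B h3)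
  · obtain ⟨F, _, _, _, n, q, hF, hn, hq, ⟨e⟩⟩ := hK
    rcases Nat.lt_or_ge n 4 with h4 | h4
    · obtain rfl : n = 3 := by omega
      have : Fact (Nat.Prime 2) := ⟨Nat.prime_two⟩
      obtain ⟨l, hl, h⟩ := Typ.typ_PSU (p := 2) hF hn
      obtain rfl : l = 1 := by omega
      exact false_of_laced P.wall hI hL one_pos (Typ.laced_of_one _) (h.of_equiv e.symm)
    · obtain ⟨l, hl, hN, hD⟩ := P.psu F n q hF h4
      rcases Nat.lt_or_ge l 3 with h3 | h3
      · obtain rfl : l = 2 := by omega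
        rcases Nat.lt_or_ge 2 q with h2 | h2
        · exact false_of_two P.wall hI hw hL mx_B2 (fun _ => Or.inr h2) (hD.of_equiv e.symm)
        · -- `q = 2`
          obtain ⟨k, hk, hc⟩ := htwo F
          have hq2 : q = 2 := by
            have h5 : 1 < Fintype.card F := Fintype.one_lt_card
            rw [hF] at h5
            interval_cases q
            · simp at h5
            · simp at h5
            · rfl
          subst hq2
          have hF4 : Fintype.card F = 4 := by rw [hF]; norm_num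
          have hJ1 : (Set.singleton (1 : Fin 2)) = {k : Fin 2 | (k : ℕ) ≠ 0} := by
            ext k
            have : ∀ k : Fin 2, k = 1 ↔ (k : ℕ) ≠ 0 := by decide
            exact this k
          obtain ⟨Ac, h, Tor, nn, Xr, hR, hD, hP⟩ :=
            ((P.psu2 F n hF4 (by omega)).of_equiv e.symm).exists_rf hI.norm hI.two hI.syl
          obtain ⟨σ, i, O⟩ := exists_out P.wall (by omega) hI hL hR
          rcases O.two_cases with hJ | hJ
          · exact O.false_two mx_B2 hI hw hL hR hD hJ rfl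
          · refine P.five X M K T A m 2 Ac h Tor nn Xr le_rfl hI hL hR ?_ (hJ.trans hJ1)
            intro i hi
            obtain rfl : i = 1 := Fin.ext (by simpa using hi)
            exact hP
      · exact false_of_B P.wall hI hw hL h3 (hD.of_equiv e.symm)
  · exfalso
    obtain ⟨F, _, _, _, n, -, ho, -⟩ := hK
    obtain ⟨k, hk, hc⟩ := htwo F
    rw [hc] at ho
    exact absurd ho (by rw [Nat.not_odd_iff_even]; exact even_two.pow_of_ne_zero hk.ne')
  · obtain ⟨F, _, _, _, n, hn, ⟨e⟩⟩ := hK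
    have : Fact (Nat.Prime 2) := ⟨Nat.prime_two⟩
    obtain ⟨n, rfl⟩ : ∃ k, n = k + 3 := ⟨n - 3, by omega⟩
    exact false_of_laced P.wall hI hL (by omega) (Typ.laced_D _) ((Typ.typ_PO_plus n).of_equiv e.symm)
  · obtain ⟨l, hl, h⟩ := DatOmm.cg_of_minus hK
    exact false_of_B P.wall hI hw hL hl (HasCG.dt h)
  · obtain ⟨F, _, _, _, hK⟩ := hK
    obtain ⟨k, hk, hc⟩ := htwo F
    have : Fact (Nat.Prime 2) := ⟨Nat.prime_two⟩
    rcases hK with ⟨h3, ⟨e⟩⟩ | ⟨⟨e⟩⟩ | ⟨⟨e⟩⟩ | ⟨⟨e⟩⟩ | ⟨⟨e⟩⟩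
    · have h4 : 4 ≤ Fintype.card F := by
        rw [hc] at h3 ⊢
        match k, h3 with
        | 0, h3 => simp at h3
        | 1, h3 => simp at h3
        | k + 2, _ => rw [pow_add]; have := Nat.one_le_two_pow (n := k); omega
      exact false_of_two P.wall hI hw hL mx_G2 (fun _ => trivial) ((P.g2 F h4).of_equiv e.symm)
    · rcases Nat.lt_or_ge (Fintype.card F) 4 with h4 | h4
      · have h2 : Fintype.card F = 2 := by
          rw [hc] at h4 ⊢
          match k, hk, h4 with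
          | 1, _, _ => rfl
          | k + 2, _, h4 => exfalso; rw [pow_add] at h4; have := Nat.one_le_two_pow (n := k); omega
        refine P.f42 X M W K T A p m hI hw hL ⟨F, _, _, inferInstance, h2, ⟨e⟩⟩ ?_
        intro Ac h Tor n Xr hR
        obtain ⟨σ, i, O⟩ := exists_out P.wall (by omega) hI hL hR
        exact O.eq_F.1
      · obtain ⟨Ac, h, Tor, n, Xr, hR, hD⟩ := ((P.f4 F h4).of_equiv e.symm).exists_rf hI.norm hI.two hI.syl
        obtain ⟨σ, i, O⟩ := exists_out P.wall (by omega) hI hL hR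
        exact O.false_F hI hw hL hR hD
    · exact false_of_laced P.wall hI hL (by omega) Typ.laced_E6
        ((Typ.typ_group (by simp [IsType, typeList]) F 2).of_equiv e.symm)
    · exact false_of_laced P.wall hI hL (by omega) Typ.laced_E7
        ((Typ.typ_group (by simp [IsType, typeList]) F 2).of_equiv e.symm)
    · exact false_of_laced P.wall hI hL (by omega) Typ.laced_E8
        ((Typ.typ_group (by simp [IsType, typeList]) F 2).of_equiv e.symm)
  · obtain ⟨F, _, _, _, q, hq, hK⟩ := hK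
    rcases hK with ⟨hF, ⟨e⟩⟩ | ⟨hF, ⟨e⟩⟩
    · obtain ⟨Ac, h, Tor, n, Xr, hR, hP⟩ := ((P.e6 F q hq hF).of_equiv e.symm).exists_rf hI.norm hI.two hI.syl
      obtain ⟨σ, i, O⟩ := exists_out P.wall (by omega) hI hL hR
      exact hP O.eq_F.2
    · rcases Nat.lt_or_ge q 4 with h4 | h4
      · have hq2 : q = 2 := by
          obtain ⟨k, hk, hc⟩ := htwo F
          have h1 : 1 < q := hq.one_lt
          have h2 : q ≠ 3 := by
            rintro rfl
            rw [hF] at hc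
            have h5 : Even (3 ^ 3 : ℕ) := by rw [hc]; exact even_two.pow_of_ne_zero hk.ne'
            revert h5; decide
          omega
        subst hq2
        exact P.d42 X M W K T A p m hI hw hL ⟨F, _, _, inferInstance, by rw [hF]; norm_num, ⟨e⟩⟩
      · exact false_of_two P.wall hI hw hL mx_G2 (fun _ => trivial) ((P.d4 F q hq hF h4).of_equiv e.symm)
  · exact P.sz X M W K T A p m hI hw hL hK.2
  · exact P.tf X M W K T A p m hI hw hL hK.2
  · exact absurd hK.1 (by norm_num)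

end main

end Cfsg.Agent.Omega.ML.Ex.Lie2

end
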